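import Cfsg.Agent.Mrg.Omega.SQEnd.Line
import Cfsg.Agent.Mrg.Omega.BTwo.YTor
import Cfsg.Agent.Mrg.Omega.BTwo.QuadGrp
import Cfsg.Agent.Mrg.Omega.BTwo.Count
import Cfsg.Agent.Mrg.Omega.BTwo.Str

section


/-!
# From `KD` to `Cfg`, part 1: `K ∩ N(V)` and the Borel subgroup of `SL₂(k)`
-/

set_option autoImplicit false
set_option linter.unusedSectionVars false

universe u v w

namespace Cfsg.Agent.Omega.SQEnd

open Subgroup Cfsg.Agent.Omega.BTwo Cfsg.Agent.Lib.SL2Mat Cfsg.Agent.Omega.Hex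

variable {G : Type u} [Group G] {ι : Type v} {V : Subgroup G} {R : ι → Subgroup G} {i j : ι} {k : Type w} [Field k]
  {K : Subgroup G} {φ : K →* Matrix.SpecialLinearGroup (Fin 2) k}

theorem up_val (x : k) : (up x : Matrix.SpecialLinearGroup (Fin 2) k).1 = !![1, x; 0, 1] := rfl

theorem eq_up_iff {A : Matrix.SpecialLinearGroup (Fin 2) k} {x : k} :
    (A : Matrix (Fin 2) (Fin 2) k) = !![1, x; 0, 1] ↔ A = up x := by
  rw [← up_val]
  exact ⟨fun h => Subtype.ext h, fun h => congrArg Subtype.val h⟩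

/-- upper triangular matrices -/
theorem eq_up_of_ent {A : Matrix.SpecialLinearGroup (Fin 2) k} (h : ent A 1 0 = 0) (h0 : ent A 0 0 = 1) :
    A = up (ent A 0 1) := by
  have hd := det_eq A
  rw [h, h0, mul_zero, sub_zero, one_mul] at hd
  exact ext_ent h0 rfl h hd

theorem ent_pow {A : Matrix.SpecialLinearGroup (Fin 2) k} (h : ent A 1 0 = 0) (n : ℕ) :
    ent (A ^ n) 1 0 = 0 ∧ ent (A ^ n) 0 0 = ent A 0 0 ^ n := by
  induction n with
  | zero => simp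
  | succ n ih =>
    rw [pow_succ, ent_mul, ent_mul, ih.1, ih.2, h]
    constructor
    · ring
    · rw [pow_succ]; ring

/-- `A up(x) A⁻¹` for upper triangular `A` -/
theorem conj_up {A : Matrix.SpecialLinearGroup (Fin 2) k} (h : ent A 1 0 = 0) (x : k) :
    A * up x * A⁻¹ = up (ent A 0 0 ^ 2 * x) := by
  have hd := det_eq A
  rw [h, mul_zero, sub_zero] at hd
  rw [mul_inv_eq_iff_eq_mul]
  refine ext_ent ?_ ?_ ?_ ?_
  · rw [ent_mul, ent_mul, up_00, up_10, up_00, up_01, h]; ring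
  · rw [ent_mul, ent_mul, up_01, up_11, up_00, up_01]
    linear_combination (ent A 0 0 * x) * (1 - hd)
  · rw [ent_mul, ent_mul, up_00, up_10, up_10, up_11, h]; ring
  · rw [ent_mul, ent_mul, up_01, up_11, up_10, up_11, h]; ring

namespace KD

variable (kd : KD V R i j K φ)
include kd

theorem mem_iff (g : K) : (g : G) ∈ WW V (R i) ⊔ UU V R j ↔ ∃ x : k, φ g = up x := by
  rw [kd.uni]
  exact exists_congr fun x => eq_up_iff

theorem exists_up (g : K) (hg : (g : G) ∈ WW V (R i) ⊔ UU V R j) : ∃ x : k, φ g = up x := (kd.mem_iff g).1 hg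

theorem S_le : WW V (R i) ⊔ UU V R j ≤ K := sup_le kd.WK kd.UK

theorem K_le_N : K ≤ normalizer (R i : Set G) := by
  intro g hg
  rw [mem_normalizer_iff]
  intro a
  constructor
  · intro ha
    rw [kd.KR g hg a ha, mul_inv_cancel_right]
    exact ha
  · intro ha
    have h1 := kd.KR _ (inv_mem hg) _ ha
    have e : a = g * a * g⁻¹ := by
      calc a = g⁻¹ * (g * a * g⁻¹) * g := by group
        _ = (g * a * g⁻¹) * g⁻¹ * g := by rw [h1]
        _ = g * a * g⁻¹ := by group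
    rw [e]
    exact ha

/-- preimage of `up x` in `U j` -/
theorem exists_U (hN : UU V R j ≤ normalizer (WW V (R i) : Set G)) (x : k) :
    ∃ a ∈ UU V R j, ∀ ha : a ∈ K, φ ⟨a, ha⟩ = up x := by
  obtain ⟨g, hg⟩ := kd.surj (up x)
  have h1 := (kd.mem_iff g).2 ⟨x, hg⟩
  obtain ⟨w, hw, a, ha, e⟩ := exists_mul hN le_rfl h1
  refine ⟨a, ha, fun haK => ?_⟩
  have h2 : φ ⟨w, kd.WK hw⟩ = 1 := (kd.ker _).2 hw
  have h3 : g = ⟨w, kd.WK hw⟩ * ⟨a, haK⟩ := Subtype.ext e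
  rw [h3, map_mul, h2, one_mul] at hg
  exact hg

/-- the field `k` is finite -/
theorem finite [Finite G] : Finite k := by
  have h1 : Finite (Matrix.SpecialLinearGroup (Fin 2) k) := Finite.of_surjective φ kd.surj
  exact Finite.of_injective (fun x : k => (up x : Matrix.SpecialLinearGroup (Fin 2) k)) fun x y h => up_inj h

/-- `k` has characteristic 2 -/
theorem charP (b : BTC V R) : CharP k 2 := by
  obtain ⟨a, ha, h⟩ := kd.exists_U ((UU_le_cen j).trans (b.cen_le_NW i)) 1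
  have haK := kd.UK ha
  have h1 := h haK
  have h2 : φ (⟨a, haK⟩ * ⟨a, haK⟩) = 1 := by
    rw [kd.ker]
    exact b.R_le_W j i (b.W_sq j (UU_le_WW j ha))
  rw [map_mul, h1, up_mul] at h2
  have h3 : (1 : k) + 1 = 0 := up_inj (h2.trans up_zero.symm)
  exact CharTwo.of_one_ne_zero_of_two_eq_zero one_ne_zero (by rw [← h3]; norm_num)

variable (b : BTC V R)
include b

/-- `W U j = W Y` -/
theorem S_eq : WW V (R i) ⊔ UU V R j = WW V (R i) ⊔ YY V R := by
  rw [b.Y_eq kd.ne]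
  apply le_antisymm
  · exact sup_le le_sup_left (le_sup_right.trans le_sup_right)
  · exact sup_le le_sup_left (sup_le ((UU_le_WW i).trans le_sup_left) le_sup_right)

theorem Y_le_K : YY V R ≤ K := by
  rw [b.Y_eq kd.ne]
  exact sup_le ((UU_le_WW i).trans kd.WK) kd.UK

/-- `N(R i) ∩ N(V)` normalises `W U j` -/
theorem S_normal {g : G} (hR : g ∈ normalizer (R i : Set G)) (hV : g ∈ normalizer (V : Set G)) :
    cj g (WW V (R i) ⊔ UU V R j) = WW V (R i) ⊔ UU V R j := by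
  rw [kd.S_eq b, cj_sup, cj_eq_self_iff.2 (normalizer_le_WW V (R i) hR), cj_eq_self_iff.2 (b.NV_le_NY hV)]

/-- `φ(K ∩ N(V))` is upper triangular -/
theorem ent_of_mem (g : K) (hg : cj (g : G) (WW V (R i) ⊔ UU V R j) = WW V (R i) ⊔ UU V R j) :
    ent (φ g) 1 0 = 0 := by
  obtain ⟨a, ha, h⟩ := kd.exists_U ((UU_le_cen j).trans (b.cen_le_NW i)) 1
  have haK := kd.UK ha
  have h1 := h haK
  have h2 : (g : G) * a * (g : G)⁻¹ ∈ WW V (R i) ⊔ UU V R j := by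
    rw [← hg]
    exact conj_mem_cj (le_sup_right (a := WW V (R i)) ha)
  obtain ⟨x, hx⟩ := kd.exists_up (g * ⟨a, haK⟩ * g⁻¹) h2
  rw [map_mul, map_mul, map_inv, h1, mul_inv_eq_iff_eq_mul] at hx
  have h3 := congrArg (fun z => ent z 0 0) hx
  simp only [ent_mul, up_00, up_01, up_10, mul_one, mul_zero, add_zero, one_mul] at h3
  have h4 : x * ent (φ g) 1 0 = 0 := by linear_combination -h3
  rcases mul_eq_zero.1 h4 with h5 | h5
  · exfalso
    rw [h5, up_zero, one_mul] at hx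
    have h6 : (up (1 : k) : Matrix.SpecialLinearGroup (Fin 2) k) = up 0 := by
      rw [up_zero]
      exact mul_left_cancel (hx.trans (mul_one _).symm)
    exact one_ne_zero (up_inj h6)
  · exact h5

/-- `(W U j) ∩ N(R j) ≤ Y` -/
theorem mem_Y {g : G} (hg : g ∈ WW V (R i) ⊔ UU V R j) (hR : g ∈ normalizer (R j : Set G)) : g ∈ YY V R := by
  obtain ⟨w, hw, a, ha, rfl⟩ := exists_mul ((UU_le_cen j).trans (b.cen_le_NW i)) le_rfl hg
  have haN : a ∈ normalizer (R j : Set G) := b.cen_le_N j (UU_le_cen j ha)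
  have hwN : w ∈ normalizer (R j : Set G) := by
    have := mul_mem hR (inv_mem haN)
    rwa [mul_inv_cancel_right] at this
  have h1 := b.mem_cen (Ne.symm kd.ne) hw (cj_eq_self_iff.2 hwN)
  exact mul_mem (UU_le_YY i h1) (UU_le_YY j ha)

/-- `W ∩ N(R j) ≤ Y` -/
theorem W_inf_N {g : G} (hg : g ∈ WW V (R i)) (hR : g ∈ normalizer (R j : Set G)) : g ∈ YY V R :=
  kd.mem_Y b (le_sup_left (b := UU V R j) hg) hR

variable [Finite G]
  (NAe : ∀ g ∈ normalizer (R i : Set G), cj g (WW V (R i) ⊔ UU V R j) = WW V (R i) ⊔ UU V R j → cj g V = V)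
include NAe

/-- `K ∩ N(V)` is the preimage of the Borel subgroup -/
theorem mem_NV_iff (g : K) : (g : G) ∈ normalizer (V : Set G) ↔ ent (φ g) 1 0 = 0 := by
  constructor
  · exact fun h => kd.ent_of_mem b g (kd.S_normal b (kd.K_le_N g.2) h)
  · intro h
    rw [← cj_eq_self_iff]
    refine NAe _ (kd.K_le_N g.2) (cj_eq_self_iff.2 (mem_normalizer_of_conj fun x hx => ?_))
    have hxK := kd.S_le hx
    obtain ⟨y, hy⟩ := kd.exists_up ⟨x, hxK⟩ hx
    have h1 : φ (g * ⟨x, hxK⟩ * g⁻¹) = up (ent (φ g) 0 0 ^ 2 * y) := by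
      rw [map_mul, map_mul, map_inv, hy, conj_up h]
    exact (kd.mem_iff (g * ⟨x, hxK⟩ * g⁻¹)).2 ⟨_, h1⟩

/-- **Frattini**: `N(R i) = K (N(R i) ∩ N(V))` -/
theorem frat {h : G} (hh : h ∈ normalizer (R i : Set G)) : ∃ g ∈ K, g⁻¹ * h ∈ normalizer (V : Set G) := by
  have := kd.finite
  have := kd.charP b
  have : Fact (Nat.Prime 2) := ⟨Nat.prime_two⟩
  have hhK := kd.NK hh
  obtain ⟨α, hα⟩ := exists_aut kd.surj kd.ker hhK (normalizer_le_WW V (R i) hh)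
  set P := Lib.AutSL2.sylU k 2 with hP
  have hPm : ∀ x, x ∈ P ↔ ∃ b : k, up b = x := fun x => Iff.rfl
  obtain ⟨s, hs⟩ := MulAction.exists_smul_eq (Matrix.SpecialLinearGroup (Fin 2) k) P (α • P)
  obtain ⟨g, hg⟩ := kd.surj s
  refine ⟨g, g.2, ?_⟩
  rw [← cj_eq_self_iff]
  refine NAe _ (mul_mem (inv_mem (kd.K_le_N g.2)) hh) (cj_eq_self_iff.2 (mem_normalizer_of_conj fun u hu => ?_))
  have huK := kd.S_le hu
  obtain ⟨x, hx⟩ := kd.exists_up ⟨u, huK⟩ hu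
  have h1 : α (up x) ∈ α • P := Lib.AutSL2.mem_aut_smul_sylow P α ((hPm _).2 ⟨x, rfl⟩)
  rw [← hs, Lib.AutSL2.mem_smul_sylow, hPm] at h1
  obtain ⟨y, hy⟩ := h1
  have hu' : h * u * h⁻¹ ∈ K := conj_mem_of_normalizer hhK huK
  have h2 := hα ⟨u, huK⟩ ⟨h * u * h⁻¹, hu'⟩ rfl
  have h3 : φ (g⁻¹ * ⟨h * u * h⁻¹, hu'⟩ * g) = up y := by
    rw [map_mul, map_mul, map_inv, hg, ← h2, hx, ← hy]
  have h4 := (kd.mem_iff (g⁻¹ * ⟨h * u * h⁻¹, hu'⟩ * g)).2 ⟨y, h3⟩
  have e : ((g : G)⁻¹ * h) * u * ((g : G)⁻¹ * h)⁻¹ = (g : G)⁻¹ * (h * u * h⁻¹) * g := by group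
  rw [e]
  exact h4

end KD

end Cfsg.Agent.Omega.SQEnd

end

section


/-!
# `KD` from `K / W ≅ SL₂(k)` and `W U j` of odd index in `K`
-/

set_option autoImplicit false

universe u v w

namespace Cfsg.Agent.Omega.SQEnd

open Subgroup Cfsg.Agent.Omega.BTwo Cfsg.Agent.Lib.SL2Mat

variable {G : Type u} [Group G] [Finite G] {ι : Type v} {V : Subgroup G} {R : ι → Subgroup G} {i j : ι} {k : Type w}
  [Field k] [Finite k] [CharP k 2] {K : Subgroup G}

/-- **entry**: `K / W i ≅ SL₂(k)` and `W i U j` contains a Sylow 2-subgroup of `K` -/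
theorem exists_kd (b : BTC V R) (hij : i ≠ j) {ψ : K →* Matrix.SpecialLinearGroup (Fin 2) k}
    (hψ : Function.Surjective ψ) (hker : ∀ g : K, ψ g = 1 ↔ (g : G) ∈ WW V (R i)) (hWK : WW V (R i) ≤ K)
    (hUK : UU V R j ≤ K) (hKR : K ≤ centralizer (R i : Set G))
    (hNK : normalizer (R i : Set G) ≤ normalizer (K : Set G))
    (hodd : Odd ((WW V (R i) ⊔ UU V R j).relIndex K)) : ∃ φ, KD V R i j K φ (k := k) := by
  have : Fact (Nat.Prime 2) := ⟨Nat.prime_two⟩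
  set S := WW V (R i) ⊔ UU V R j with hS
  have hSK : S ≤ K := sup_le hWK hUK
  have hSY : S ≤ WW V (R i) ⊔ YY V R := sup_le le_sup_left ((UU_le_YY j).trans le_sup_right)
  have hY2 : IsPGroup 2 (YY V R) := by
    rintro ⟨y, hy⟩
    refine ⟨2, Subtype.ext ?_⟩
    change y ^ 4 = 1
    have h1 := b.D_sq (b.Y_sq hy)
    have e : y ^ 4 = y * y * (y * y) := by simp only [pow_succ, pow_zero, one_mul, mul_assoc]
    rw [e, h1]
  have hS2 : IsPGroup 2 S :=
    ((b.W_isPGroup i).to_sup_of_normal_right' hY2 ((b.W_le_NV i).trans b.NV_le_NY)).to_le hSY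
  have h2 : IsPGroup 2 (S.subgroupOf K) := hS2.comap_of_injective _ K.subtype_injective
  have hdvd : ((S.subgroupOf K).map ψ).index ∣ (S.subgroupOf K).index := index_map_dvd _ hψ
  let P : Sylow 2 (Matrix.SpecialLinearGroup (Fin 2) k) := (h2.map ψ).toSylow fun h =>
    (Nat.not_even_iff_odd.2 hodd) (even_iff_two_dvd.2 (h.trans hdvd))
  have hP : ∀ x, x ∈ P ↔ ∃ g : K, (g : G) ∈ S ∧ ψ g = x := fun x => by
    constructor
    · rintro ⟨g, hg, e⟩
      exact ⟨g, hg, e⟩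
    · rintro ⟨g, hg, e⟩
      exact ⟨g, hg, e⟩
  obtain ⟨s, hs⟩ := MulAction.exists_smul_eq (Matrix.SpecialLinearGroup (Fin 2) k) P (Lib.AutSL2.sylU k 2)
  have hU : ∀ x, x ∈ Lib.AutSL2.sylU k 2 ↔ ∃ y : k, up y = x := fun x => Iff.rfl
  refine ⟨(MulAut.conj s).toMonoidHom.comp ψ, ?_⟩
  have hφ : ∀ g : K, ((MulAut.conj s).toMonoidHom.comp ψ) g = s * ψ g * s⁻¹ := fun g => rfl
  refine
    { ne := hij
      WK := hWK
      UK := hUK
      KR := fun g hg a ha => (mem_centralizer_iff.1 (hKR hg) a ha).symm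
      NK := hNK
      surj := fun x => ?_
      ker := fun g => ?_
      uni := fun g => ?_ }
  · obtain ⟨g, hg⟩ := hψ (s⁻¹ * x * s)
    exact ⟨g, by rw [hφ, hg]; group⟩
  · rw [hφ, ← hker, mul_inv_eq_one]
    constructor
    · intro h
      exact mul_left_cancel (h.trans (mul_one s).symm)
    · intro h
      rw [h, mul_one]
  · rw [hφ]
    have h3 : (∃ x : k, (s * ψ g * s⁻¹ : Matrix.SpecialLinearGroup (Fin 2) k).1 = !![1, x; 0, 1]) ↔
        s * ψ g * s⁻¹ ∈ Lib.AutSL2.sylU k 2 := by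
      rw [hU]
      exact exists_congr fun x => eq_up_iff.trans eq_comm
    rw [h3, ← hs, Lib.AutSL2.mem_smul_sylow, hP]
    have e : s⁻¹ * (s * ψ g * s⁻¹) * s = ψ g := by group
    rw [e]
    constructor
    · exact fun h => ⟨g, h, rfl⟩
    · rintro ⟨g', hg', e'⟩
      have h4 : ψ (g'⁻¹ * g) = 1 := by rw [map_mul, map_inv, e', inv_mul_cancel]
      have h5 := mul_mem hg' ((le_sup_left : WW V (R i) ≤ S) ((hker _).1 h4))
      have e2 : (g' : G) * ((g'⁻¹ * g : K) : G) = g := by push_cast; group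
      rwa [e2] at h5

end Cfsg.Agent.Omega.SQEnd

end

section


/-!
# (E6) of TEXT 3 (bb OMEGA #12947): a 2-element of `N(R i)` centralising `K / W i` lies in `W i`
-/

set_option autoImplicit false
set_option linter.unusedSectionVars false

namespace Cfsg.Agent.Omega.SQEnd

open Subgroup Cfsg.Agent.Omega.BTwo

universe u v w

variable {G : Type u} [Group G] {ι : Type w} {V : Subgroup G} {R : ι → Subgroup G} {i j : ι} {F : Type v} [Field F]
  {v : F → F → G} {w1 w2 : F → G} {N : Type u} [AddCommGroup N] [Module F N] {P1 P2 : G → N}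

/-- `x` acts on `V` and on `Y / D` by the matrix `(a, b; c, d)` of determinant one -/
def Mat (V : Subgroup G) (R : ι → Subgroup G) (v : F → F → G) (P1 P2 : G → N) (x : G) (a b c d : F) : Prop :=
  a * d - b * c = 1 ∧ (∀ β γ, x * v β γ * x⁻¹ = v (a * β + b * γ) (c * β + d * γ)) ∧
    ∀ z ∈ YY V R, P1 (x * z * x⁻¹) = a • P1 z + b • P2 z ∧ P2 (x * z * x⁻¹) = c • P1 z + d • P2 z

theorem Mat.mul {x x' : G} {a b c d a' b' c' d' : F}
    (hx'Y : ∀ z ∈ YY V R, x' * z * x'⁻¹ ∈ YY V R)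
    (h : Mat V R v P1 P2 x a b c d) (h' : Mat V R v P1 P2 x' a' b' c' d') :
    Mat V R v P1 P2 (x * x') (a * a' + b * c') (a * b' + b * d') (c * a' + d * c') (c * b' + d * d') := by
  obtain ⟨e1, h1, h2⟩ := h
  obtain ⟨e1', h1', h2'⟩ := h'
  refine ⟨?_, ?_, ?_⟩
  · calc (a * a' + b * c') * (c * b' + d * d') - (a * b' + b * d') * (c * a' + d * c')
        = (a * d - b * c) * (a' * d' - b' * c') := by ring
      _ = 1 := by rw [e1, e1', one_mul]
  · intro β γ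
    have e : x * x' * v β γ * (x * x')⁻¹ = x * (x' * v β γ * x'⁻¹) * x⁻¹ := by group
    rw [e, h1', h1]
    congr 1 <;> ring
  · intro z hz
    have e : x * x' * z * (x * x')⁻¹ = x * (x' * z * x'⁻¹) * x⁻¹ := by group
    obtain ⟨k1, k2⟩ := h2 _ (hx'Y z hz)
    obtain ⟨k3, k4⟩ := h2' z hz
    rw [e, k1, k2, k3, k4]
    constructor
    · rw [smul_add, smul_add, smul_smul, smul_smul, smul_smul, smul_smul, add_smul, add_smul]; abel
    · rw [smul_add, smul_add, smul_smul, smul_smul, smul_smul, smul_smul, add_smul, add_smul]; abel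

theorem Mat.inv {x : G} {a b c d : F} (hxY : ∀ z ∈ YY V R, x⁻¹ * z * x⁻¹⁻¹ ∈ YY V R)
    (h : Mat V R v P1 P2 x a b c d) : Mat V R v P1 P2 x⁻¹ d (-b) (-c) a := by
  obtain ⟨e1, h1, h2⟩ := h
  refine ⟨by rw [← e1]; ring, ?_, ?_⟩
  · intro β γ
    have k := h1 (d * β + -b * γ) (-c * β + a * γ)
    have k1 : a * (d * β + -b * γ) + b * (-c * β + a * γ) = β := by
      calc a * (d * β + -b * γ) + b * (-c * β + a * γ) = (a * d - b * c) * β := by ring
        _ = β := by rw [e1, one_mul]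
    have k2 : c * (d * β + -b * γ) + d * (-c * β + a * γ) = γ := by
      calc c * (d * β + -b * γ) + d * (-c * β + a * γ) = (a * d - b * c) * γ := by ring
        _ = γ := by rw [e1, one_mul]
    rw [k1, k2] at k
    rw [← k]; group
  · intro z hz
    obtain ⟨k1, k2⟩ := h2 _ (hxY z hz)
    have e : x * (x⁻¹ * z * x⁻¹⁻¹) * x⁻¹ = z := by group
    rw [e] at k1 k2
    rw [k1, k2]
    constructor
    · rw [smul_add, smul_add, smul_smul, smul_smul, smul_smul, smul_smul]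
      have e2 : (d * a) • P1 (x⁻¹ * z * x⁻¹⁻¹) + (d * b) • P2 (x⁻¹ * z * x⁻¹⁻¹) +
          ((-b * c) • P1 (x⁻¹ * z * x⁻¹⁻¹) + (-b * d) • P2 (x⁻¹ * z * x⁻¹⁻¹)) =
          (a * d - b * c) • P1 (x⁻¹ * z * x⁻¹⁻¹) := by
        have e3 : (a * d - b * c) • P1 (x⁻¹ * z * x⁻¹⁻¹) =
            (d * a) • P1 (x⁻¹ * z * x⁻¹⁻¹) + (-b * c) • P1 (x⁻¹ * z * x⁻¹⁻¹) := by
          rw [← add_smul]; congr 1; ring
        have e4 : (-b * d) • P2 (x⁻¹ * z * x⁻¹⁻¹) = -((d * b) • P2 (x⁻¹ * z * x⁻¹⁻¹)) := by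
          rw [← neg_smul]; congr 1; ring
        rw [e3, e4]; abel
      rw [e2, e1, one_smul]
    · rw [smul_add, smul_add, smul_smul, smul_smul, smul_smul, smul_smul]
      have e2 : (-c * a) • P1 (x⁻¹ * z * x⁻¹⁻¹) + (-c * b) • P2 (x⁻¹ * z * x⁻¹⁻¹) +
          ((a * c) • P1 (x⁻¹ * z * x⁻¹⁻¹) + (a * d) • P2 (x⁻¹ * z * x⁻¹⁻¹)) =
          (a * d - b * c) • P2 (x⁻¹ * z * x⁻¹⁻¹) := by
        have e3 : (a * d - b * c) • P2 (x⁻¹ * z * x⁻¹⁻¹) =
            (a * d) • P2 (x⁻¹ * z * x⁻¹⁻¹) + (-c * b) • P2 (x⁻¹ * z * x⁻¹⁻¹) := by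
          rw [← add_smul]; congr 1; ring
        have e4 : (-c * a) • P1 (x⁻¹ * z * x⁻¹⁻¹) = -((a * c) • P1 (x⁻¹ * z * x⁻¹⁻¹)) := by
          rw [← neg_smul]; congr 1; ring
        rw [e3, e4]; abel
      rw [e2, e1, one_smul]

section

variable (b : BT V R) (c : Coord V R i j v w1 w2) (y : YPair V R i j w1 w2 N P1 P2)
include b c y

/-- every element of `X` acts on `V` and on `Y / D` by the same matrix of determinant one -/
theorem exists_mat {x : G} (hx : x ∈ XX V R) : ∃ a b' c' d : F, Mat V R v P1 P2 x a b' c' d := by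
  have hXY : ∀ x ∈ XX V R, ∀ z ∈ YY V R, x * z * x⁻¹ ∈ YY V R := fun x hx z hz =>
    y.X_Y b c hx hz
  let T : Subgroup G :=
    { carrier := {x | x ∈ XX V R ∧ ∃ a b' c' d : F, Mat V R v P1 P2 x a b' c' d}
      one_mem' := ⟨one_mem _, 1, 0, 0, 1, by ring, fun β γ => by simp, fun z _ => by simp⟩
      mul_mem' := by
        rintro x x' ⟨hx, a, b', c', d, h⟩ ⟨hx', a', b'', c'', d', h'⟩
        exact ⟨mul_mem hx hx', _, _, _, _, Mat.mul (hXY x' hx') h h'⟩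
      inv_mem' := by
        rintro x ⟨hx, a, b', c', d, h⟩
        exact ⟨inv_mem hx, _, _, _, _, Mat.inv (hXY _ (inv_mem hx)) h⟩ }
  have hwd : ∀ k : ι, ∀ x ∈ WW V (R k), ∀ x' ∈ WW V (R k), (∀ z ∈ V, x * z * x⁻¹ = x' * z * x'⁻¹) →
      ∀ z ∈ YY V R, P1 (x * z * x⁻¹) = P1 (x' * z * x'⁻¹) ∧ P2 (x * z * x⁻¹) = P2 (x' * z * x'⁻¹) := by
    intro k x hx x' hx' h z hz
    have h1 := b.same hx hx' h hz
    have h2 := hXY x (W_le_X V R k hx) z hz
    have h3 := hXY x' (W_le_X V R k hx') z hz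
    obtain ⟨k1, k2⟩ := (y.mem_D _ (mul_mem h2 (inv_mem h3))).1 h1
    rw [y.mul1 _ h2 _ (inv_mem h3), y.inv1 h3, ← sub_eq_add_neg, sub_eq_zero] at k1
    rw [y.mul2 _ h2 _ (inv_mem h3), y.inv2 h3, ← sub_eq_add_neg, sub_eq_zero] at k2
    exact ⟨k1, k2⟩
  have hT : XX V R ≤ T := by
    rw [b.X_eq c.ne]
    refine sup_le ?_ ?_
    · intro x hx
      obtain ⟨a, ha⟩ := c.W1_act x hx
      refine ⟨W_le_X V R i hx, 1, a, 0, 1, by ring, fun β γ => ?_, fun z hz => ?_⟩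
      · rw [ha]; congr 1 <;> ring
      · obtain ⟨k1, k2⟩ := hwd i x hx _ (c.w1_mem a) (fun s hs => by
          obtain ⟨β, γ, rfl⟩ := (c.mem_V s).1 hs
          rw [ha, c.w1_act]) z hz
        rw [k1, k2, y.w11 a z hz, y.w12 a z hz, one_smul, zero_smul, one_smul, zero_add]
        exact ⟨rfl, rfl⟩
    · intro x hx
      obtain ⟨a, ha⟩ := c.W2_act x hx
      refine ⟨W_le_X V R j hx, 1, 0, a, 1, by ring, fun β γ => ?_, fun z hz => ?_⟩
      · rw [ha]; congr 1 <;> ring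
      · obtain ⟨k1, k2⟩ := hwd j x hx _ (c.w2_mem a) (fun s hs => by
          obtain ⟨β, γ, rfl⟩ := (c.mem_V s).1 hs
          rw [ha, c.w2_act]) z hz
        rw [k1, k2, y.w21 a z hz, y.w22 a z hz, one_smul, zero_smul, one_smul, add_zero, add_comm]
        exact ⟨rfl, rfl⟩
  exact (hT hx).2

/-- elements of `X ∩ N(R i)` have an upper triangular matrix -/
theorem Mat.upper {x : G} {a b' c' d : F} (hm : Mat V R v P1 P2 x a b' c' d)
    (hx : x ∈ normalizer (R i : Set G)) : c' = 0 ∧ a * d = 1 := by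
  have _ := b
  have _ := y
  obtain ⟨h0, h1, -⟩ := hm
  have h2 : x * v 1 0 * x⁻¹ ∈ R i := conj_mem_of_normalizer hx ((c.mem_R1 _).2 ⟨1, rfl⟩)
  rw [h1, c.mem_R1] at h2
  obtain ⟨β, hβ⟩ := h2
  have h3 := (c.v_inj hβ).2
  rw [mul_one, mul_zero, add_zero] at h3
  refine ⟨h3.symm, ?_⟩
  rw [← h3, mul_zero, sub_zero] at h0
  exact h0

omit b y in
/-- **step 3**: a 2-element of `N(R i)` commuting with the action of the torus on `R i` centralises `R i` -/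
theorem cen_R_of_comm [CharP F 2] {g : G} (hg : g ∈ normalizer (R i : Set G)) {n : ℕ} (h2 : g ^ 2 ^ n = 1)
    (hT : ∀ t : F, t ≠ 0 → ∀ β, (g * hh w1 w2 t * g⁻¹) * v β 0 * (g * hh w1 w2 t * g⁻¹)⁻¹ = v (t * β) 0) :
    ∀ β, g * v β 0 * g⁻¹ = v β 0 := by
  have h1 : g * v 1 0 * g⁻¹ ∈ R i := conj_mem_of_normalizer hg ((c.mem_R1 _).2 ⟨1, rfl⟩)
  obtain ⟨l, hl⟩ := (c.mem_R1 _).1 h1
  have key : ∀ β, g * v β 0 * g⁻¹ = v (l * β) 0 := by
    intro β
    by_cases hβ : β = 0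
    · rw [hβ, mul_zero, c.v_zero]; group
    · have h3 := hT β hβ l
      rw [hl] at h3
      have h4 := c.hh_act hβ 1 0
      rw [mul_one, mul_zero] at h4
      calc g * v β 0 * g⁻¹ = g * (hh w1 w2 β * v 1 0 * (hh w1 w2 β)⁻¹) * g⁻¹ := by rw [h4]
        _ = (g * hh w1 w2 β * g⁻¹) * (g * v 1 0 * g⁻¹) * (g * hh w1 w2 β * g⁻¹)⁻¹ := by group
        _ = v (β * l) 0 := h3
        _ = v (l * β) 0 := by rw [mul_comm]
  have hpow : ∀ k : ℕ, ∀ β, g ^ k * v β 0 * (g ^ k)⁻¹ = v (l ^ k * β) 0 := by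
    intro k
    induction k with
    | zero => intro β; simp
    | succ k ih =>
      intro β
      have e : g ^ (k + 1) * v β 0 * (g ^ (k + 1))⁻¹ = g * (g ^ k * v β 0 * (g ^ k)⁻¹) * g⁻¹ := by
        rw [pow_succ']; group
      rw [e, ih, key, pow_succ', mul_assoc]
  have hl1 : l ^ 2 ^ n = 1 := by
    have h3 := hpow (2 ^ n) 1
    rw [h2, one_mul, inv_one, mul_one, mul_one] at h3
    exact (c.v_inj h3).1.symm
  have hl2 : l = 1 := by
    have h3 : (l - 1) ^ 2 ^ n = 0 := by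
      haveI : Fact (Nat.Prime 2) := ⟨Nat.prime_two⟩
      rw [sub_pow_char_pow, hl1, one_pow, sub_self]
    exact sub_eq_zero.1 (pow_eq_zero_iff (by positivity) |>.1 h3)
  intro β
  rw [key, hl2, one_mul]

/-- **step 2**: a 2-element of `N(V)` centralising `R i` is trivial on `V / R i` -/
theorem comm_V_of_cen [CharP F 2] {g : G} (hgV : g ∈ normalizer (V : Set G))
    (hg : ∀ β, g * v β 0 * g⁻¹ = v β 0) {n : ℕ} (h2 : g ^ 2 ^ n = 1) :
    ∀ s ∈ V, g * s * g⁻¹ * s⁻¹ ∈ R i := by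
  have hV : ∀ γ, ∃ x : F × F, g * v 0 γ * g⁻¹ = v x.1 x.2 := by
    intro γ
    obtain ⟨a, d, h⟩ := (c.mem_V _).1 (conj_mem_of_normalizer hgV (c.v_mem 0 γ))
    exact ⟨(a, d), h.symm⟩
  choose φ hφ using hV
  have hsc : ∀ t : F, t ≠ 0 → ∀ γ, (φ (t⁻¹ * γ)).2 = t⁻¹ * (φ γ).2 := by
    intro t ht γ
    set x := hh w1 w2 t * g * (hh w1 w2 t)⁻¹ * g⁻¹ with hx
    have hNX : g ∈ normalizer (XX V R : Set G) := b.NV_le_NX hgV
    have hxX : x ∈ XX V R := by
      have e : x = hh w1 w2 t * (g * (hh w1 w2 t)⁻¹ * g⁻¹) := by rw [hx]; group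
      rw [e]
      exact mul_mem (c.hh_mem_X b t) (conj_mem_of_normalizer hNX (inv_mem (c.hh_mem_X b t)))
    have hxR : ∀ β, x * v β 0 * x⁻¹ = v β 0 := by
      intro β
      have e : x * v β 0 * x⁻¹ = hh w1 w2 t * (g * ((hh w1 w2 t)⁻¹ * (g⁻¹ * v β 0 * g) * hh w1 w2 t) * g⁻¹) *
          (hh w1 w2 t)⁻¹ := by rw [hx]; group
      have e1 : g⁻¹ * v β 0 * g = v β 0 := by
        nth_rewrite 1 [← hg β]; group
      have e2 := c.hh_act_inv ht β 0
      rw [mul_zero] at e2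
      rw [e, e1, e2, hg]
      have e3 := c.hh_act ht (t⁻¹ * β) 0
      rw [mul_zero, ← mul_assoc, mul_inv_cancel₀ ht, one_mul] at e3
      exact e3
    obtain ⟨a, b', c', d, hm⟩ := exists_mat b c y hxX
    have h3 := hxR 1
    rw [hm.2.1] at h3
    obtain ⟨h4, h5⟩ := c.v_inj h3
    rw [mul_one, mul_zero, add_zero] at h4 h5
    have h6 := hm.1
    rw [h4, h5, mul_zero, sub_zero, one_mul] at h6
    -- compare
    have k1 : hh w1 w2 t * (g * v 0 γ * g⁻¹) * (hh w1 w2 t)⁻¹ = v (t * (φ γ).1) (t⁻¹ * (φ γ).2) := by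
      rw [hφ, c.hh_act ht]
    have k2 : hh w1 w2 t * (g * v 0 γ * g⁻¹) * (hh w1 w2 t)⁻¹ =
        x * (g * (hh w1 w2 t * v 0 γ * (hh w1 w2 t)⁻¹) * g⁻¹) * x⁻¹ := by rw [hx]; group
    rw [k1, c.hh_act ht, mul_zero, hφ, hm.2.1, h5, h6, zero_mul, zero_add, one_mul] at k2
    exact (c.v_inj k2).2.symm
  set δ := (φ 1).2 with hδ
  have h0 : (φ 0).2 = 0 := by
    have h3 := hφ 0
    rw [c.v_zero, mul_one, mul_inv_cancel, ← c.v_zero] at h3
    exact (c.v_inj h3).2.symm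
  have hφ2 : ∀ γ, (φ γ).2 = δ * γ := by
    intro γ
    by_cases hγ : γ = 0
    · rw [hγ, h0, mul_zero]
    · have h3 := hsc γ⁻¹ (inv_ne_zero hγ) 1
      rw [inv_inv, mul_one] at h3
      rw [h3, mul_comm]
  have hall : ∀ β γ, g * v β γ * g⁻¹ = v (β + (φ γ).1) (δ * γ) := by
    intro β γ
    have h3 := c.v_add β 0 0 γ
    rw [add_zero, zero_add] at h3
    have h4 := c.v_add β 0 (φ γ).1 (δ * γ)
    rw [zero_add] at h4
    rw [h3, h4]
    have e : g * (v β 0 * v 0 γ) * g⁻¹ = (g * v β 0 * g⁻¹) * (g * v 0 γ * g⁻¹) := by group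
    rw [e, hg, hφ, hφ2]
  have hpow : ∀ k : ℕ, ∀ β γ, ∃ β', g ^ k * v β γ * (g ^ k)⁻¹ = v β' (δ ^ k * γ) := by
    intro k
    induction k with
    | zero => intro β γ; exact ⟨β, by simp⟩
    | succ k ih =>
      intro β γ
      obtain ⟨β', h⟩ := ih β γ
      have e : g ^ (k + 1) * v β γ * (g ^ (k + 1))⁻¹ = g * (g ^ k * v β γ * (g ^ k)⁻¹) * g⁻¹ := by
        rw [pow_succ']; group
      refine ⟨β' + (φ (δ ^ k * γ)).1, ?_⟩
      rw [e, h, hall, pow_succ', mul_assoc]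
  have hl1 : δ ^ 2 ^ n = 1 := by
    obtain ⟨β', h3⟩ := hpow (2 ^ n) 0 1
    rw [h2, one_mul, inv_one, mul_one, mul_one] at h3
    exact (c.v_inj h3).2.symm
  have hl2 : δ = 1 := by
    have h3 : (δ - 1) ^ 2 ^ n = 0 := by
      haveI : Fact (Nat.Prime 2) := ⟨Nat.prime_two⟩
      rw [sub_pow_char_pow, hl1, one_pow, sub_self]
    exact sub_eq_zero.1 (pow_eq_zero_iff (by positivity) |>.1 h3)
  intro s hs
  obtain ⟨β, γ, rfl⟩ := (c.mem_V s).1 hs
  rw [hall, hl2, one_mul]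
  have h3 := c.v_add (φ γ).1 0 β γ
  rw [zero_add] at h3
  rw [add_comm, h3, mul_inv_cancel_right]
  exact (c.mem_R1 _).2 ⟨_, rfl⟩

end

/-- **(E6)**: a 2-element of `N(R i)` centralising `K / W i` lies in `W i` -/
theorem cent_K_two [Finite G] [CharP F 2] (b : BTC V R) (c : Coord V R i j v w1 w2)
    (y : YPair V R i j w1 w2 N P1 P2) (hQ : QQ (R i) = WW V (R i)) (hN : ∃ n : N, n ≠ 0) {K : Subgroup G}
    (hKN : K ≤ normalizer (R i : Set G)) (WK : WW V (R i) ≤ K) (AK : UU V R j ≤ K)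
    (frat : ∀ g ∈ normalizer (R i : Set G), ∃ x ∈ K, x⁻¹ * g ∈ normalizer (V : Set G))
    (NA : ∀ g ∈ normalizer (R i : Set G), g ∈ normalizer ((WW V (R i) ⊔ UU V R j : Subgroup G) : Set G) →
      g ∈ normalizer (V : Set G))
    {g : G} (hg : g ∈ normalizer (R i : Set G)) (hgK : ∀ k ∈ K, g * k * g⁻¹ * k⁻¹ ∈ WW V (R i))
    {n : ℕ} (h2 : g ^ 2 ^ n = 1) : g ∈ WW V (R i) := by
  have bt := b.toBT
  have hgW : g ∈ normalizer (WW V (R i) : Set G) := normalizer_le_WW V (R i) hg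
  -- `g` normalises `W A`
  have hgWA : g ∈ normalizer ((WW V (R i) ⊔ UU V R j : Subgroup G) : Set G) := by
    refine mem_normalizer_of_conj fun x hx => ?_
    have h3 : cj g (WW V (R i) ⊔ UU V R j) ≤ WW V (R i) ⊔ UU V R j := by
      rw [cj_sup, cj_eq_self_iff.2 hgW]
      refine sup_le le_sup_left ?_
      rw [cj_le_iff]
      intro u hu
      have e : g * u * g⁻¹ = (g * u * g⁻¹ * u⁻¹) * u := by group
      rw [e]
      exact mul_mem (mem_sup_left (hgK u (AK hu))) (mem_sup_right hu)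
    exact h3 (conj_mem_cj hx)
  have hgV := NA g hg hgWA
  have hYK : YY V R ≤ K := by
    rw [bt.Y_eq c.ne]
    exact sup_le ((UU_le_WW i).trans WK) AK
  have hgY := bt.NV_le_NY hgV
  -- `g` preserves `P2` on `Y`
  have hP2 : ∀ z ∈ YY V R, P2 (g * z * g⁻¹) = P2 z := by
    intro z hz
    have h3 := conj_mem_of_normalizer hgY hz
    have h4 : g * z * g⁻¹ * z⁻¹ ∈ UU V R i :=
      mem_inf.2 ⟨hgK z (hYK hz), YY_le_cen (mul_mem h3 (inv_mem hz))⟩
    have h5 := (y.mem_U1 _ (UU_le_YY i h4)).1 h4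
    rw [y.mul2 _ h3 _ (inv_mem hz), y.inv2 hz, ← sub_eq_add_neg, sub_eq_zero] at h5
    exact h5
  -- `g` centralises `R i`
  have hcR : ∀ β, g * v β 0 * g⁻¹ = v β 0 := by
    refine cen_R_of_comm c hg h2 fun t ht β => ?_
    set x := g * hh w1 w2 t * g⁻¹ with hx
    have hxX : x ∈ XX V R := conj_mem_of_normalizer (bt.NV_le_NX hgV) (c.hh_mem_X bt t)
    have hxR : x ∈ normalizer (R i : Set G) :=
      mul_mem (mul_mem hg (cj_eq_self_iff.1 (c.hh_R1 bt ht))) (inv_mem hg)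
    obtain ⟨a, b', c', d, hm⟩ := exists_mat bt c y hxX
    obtain ⟨hc0, had⟩ := Mat.upper bt c y hm hxR
    obtain ⟨n0, hn0⟩ := hN
    obtain ⟨u, hu, hu1, hu2⟩ := y.surj 0 n0
    have hginv : g⁻¹ * u * g ∈ YY V R := conj_inv_mem_of_normalizer hgY hu
    have k1 : P2 (x * u * x⁻¹) = d • n0 := by
      rw [(hm.2.2 u hu).2, hc0, zero_smul, zero_add, hu2]
    have k2 : P2 (x * u * x⁻¹) = t⁻¹ • n0 := by
      have e : x * u * x⁻¹ = g * (hh w1 w2 t * (g⁻¹ * u * g) * (hh w1 w2 t)⁻¹) * g⁻¹ := by rw [hx]; group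
      rw [e, hP2 _ (y.X_Y bt c (c.hh_mem_X bt t) hginv), (y.hh1 bt c ht hginv).2]
      have h5 := hP2 _ hginv
      have e2 : g * (g⁻¹ * u * g) * g⁻¹ = u := by group
      rw [e2, hu2] at h5
      rw [← h5]
    have k3 : d = t⁻¹ := by
      have h5 : (d - t⁻¹) • n0 = 0 := by rw [sub_smul, ← k1, ← k2, sub_self]
      rcases smul_eq_zero.1 h5 with h6 | h6
      · exact sub_eq_zero.1 h6
      · exact absurd h6 hn0
    have k4 : a = t := by
      rw [k3] at had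
      calc a = a * t⁻¹ * t := by rw [mul_assoc, inv_mul_cancel₀ ht, mul_one]
        _ = t := by rw [had, one_mul]
    rw [hm.2.1, hc0, k4, mul_zero, add_zero, zero_mul, mul_zero, add_zero]
  have hcV := comm_V_of_cen bt c y hgV hcR h2
  -- `g` is trivial on `W / R`
  have hcR' : ∀ r ∈ R i, g * r * g⁻¹ = r := by
    intro r hr
    obtain ⟨β, rfl⟩ := (c.mem_R1 r).1 hr
    exact hcR β
  rw [← hQ, ← b.K_eq i]
  refine ⟨hg, ?_⟩
  let T : Subgroup G :=
    { carrier := {x | x ∈ WW V (R i) ∧ g * x * g⁻¹ * x⁻¹ ∈ R i}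
      one_mem' := ⟨one_mem _, by
        have e : g * 1 * g⁻¹ * 1⁻¹ = 1 := by group
        rw [e]; exact one_mem _⟩
      mul_mem' := by
        rintro x x' ⟨hx, h⟩ ⟨hx', h'⟩
        refine ⟨mul_mem hx hx', ?_⟩
        have e : g * (x * x') * g⁻¹ * (x * x')⁻¹ =
            (g * x * g⁻¹ * x⁻¹) * (x * (g * x' * g⁻¹ * x'⁻¹) * x⁻¹) := by group
        rw [e]
        exact mul_mem h (conj_mem_of_normalizer (b.W_le_N i hx) h')
      inv_mem' := by
        rintro x ⟨hx, h⟩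
        refine ⟨inv_mem hx, ?_⟩
        have e : g * x⁻¹ * g⁻¹ * x⁻¹⁻¹ = (g * x⁻¹ * g⁻¹) * (g * x * g⁻¹ * x⁻¹)⁻¹ * (g * x⁻¹ * g⁻¹)⁻¹ *
            1 := by group
        -- `[g, x⁻¹] = x⁻¹ [g,x]⁻¹ x`
        have e2 : g * x⁻¹ * g⁻¹ * x⁻¹⁻¹ = g * x⁻¹ * g⁻¹ * (g * x * g⁻¹ * x⁻¹)⁻¹ * (g * x⁻¹ * g⁻¹)⁻¹ := by
          group
        rw [e2]
        exact conj_mem_of_normalizer (mul_mem (mul_mem hg (inv_mem (b.W_le_N i hx))) (inv_mem hg)) (inv_mem h) }
  have hT : WW V (R i) ≤ T := by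
    refine iSup_le fun h => ?_
    obtain ⟨k, hk, hkV⟩ := frat h h.2
    rintro _ ⟨s, hs, rfl⟩
    change (h : G) * s * (h : G)⁻¹ ∈ T
    have hs' : (k⁻¹ * h) * s * (k⁻¹ * h)⁻¹ ∈ V := conj_mem_of_normalizer hkV hs
    set s' := (k⁻¹ * h) * s * (k⁻¹ * h)⁻¹ with hs'd
    have e : (h : G) * s * (h : G)⁻¹ = k * s' * k⁻¹ := by rw [hs'd]; group
    have hxW : k * s' * k⁻¹ ∈ WW V (R i) := cj_le_WW (hKN hk) (conj_mem_cj hs')
    rw [e]
    refine ⟨hxW, ?_⟩
    set x := k * s' * k⁻¹ with hxd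
    set w := g * k * g⁻¹ * k⁻¹ with hwd
    have hw : w ∈ WW V (R i) := hgK k hk
    have hr := hcV s' hs'
    set r := g * s' * g⁻¹ * s'⁻¹ with hrd
    have e2 : g * x * g⁻¹ * x⁻¹ = (w * (k * r * k⁻¹) * w⁻¹) * (w * x * w⁻¹ * x⁻¹) := by
      rw [hxd, hwd, hrd]; group
    rw [e2]
    exact mul_mem (conj_mem_of_normalizer (b.W_le_N i hw) (conj_mem_of_normalizer (hKN hk) hr))
      (b.WW_comm i hw hxW)
  exact fun x hx => (hT hx).2

end Cfsg.Agent.Omega.SQEnd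

end
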