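import Cfsg.Agent.Mrg.Omega.BTwo.Str
import Cfsg.Agent.Mrg.Omega.BTwo.Key
import Mathlib.LinearAlgebra.Matrix.SpecialLinearGroup
import Cfsg.Agent.Lib.AutSL2

section


/-!
# The end of the case `b = 2`: lines through a point, LEMMA NA (bb OMEGA #12947)

`Ln R W V U D A`: the local facts about the line `V` through the point `R` (`W = ⟨V^{N(R)}⟩`, `U = C_W(V)`,
`D = W ∩ W'`, `A = U'` for another point `R'` of `V`).  LEMMA NA: if two lines `V₁`, `V₂` through `R` have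
`W A₁ = W A₂` and `|A / D| > |V / R|` then `V₁ = V₂`; i.e. `N_H(A) = N_H(V / R)`.
-/

set_option autoImplicit false

universe u

namespace Cfsg.Agent.Omega.SQEnd

open Subgroup Cfsg.Agent.Omega.BTwo

variable {G : Type u} [Group G]

/-- The line `V` through the point `R`. -/
structure Ln (R W V U D A : Subgroup G) : Prop where
  RV : R ≤ V
  VD : V ≤ D
  DU : D ≤ U
  UW : U ≤ W
  AW : A ≤ normalizer (W : Set G)
  WW : ∀ g ∈ W, ∀ w ∈ W, g * w * g⁻¹ * w⁻¹ ∈ R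
  UV : ∀ u ∈ U, ∀ v ∈ V, u * v = v * u
  cen : ∀ v ∈ V, v ∉ R → ∀ w ∈ W, w * v = v * w → w ∈ U
  cenU : ∀ w ∈ W, (∀ u ∈ U, w * u = u * w) → w ∈ V
  UA : ∀ u ∈ U, ∀ a ∈ A, u * a * u⁻¹ * a⁻¹ ∈ D
  DA : ∀ d ∈ D, ∀ a ∈ A, d * a * d⁻¹ * a⁻¹ ∈ V
  DAR : ∀ d ∈ D, (∀ a ∈ A, d * a * d⁻¹ * a⁻¹ ∈ R) → d ∈ V
  inj : ∀ w ∈ W, w ∉ U → ∀ a ∈ A, w * a * w⁻¹ * a⁻¹ ∈ D → a ∈ D
  surj : ∀ w ∈ W, w ∉ U → ∀ u ∈ U, ∃ a ∈ A, (w * a * w⁻¹ * a⁻¹)⁻¹ * u ∈ D

/-- counting -/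
theorem relIndex_le_of [Finite G] {U D V R : Subgroup G} (hRD : R ≤ D) (h : ∀ u ∈ U, ∃ v ∈ V, v⁻¹ * u ∈ D) :
    D.relIndex U ≤ R.relIndex V := by
  classical
  choose! f hf using h
  have key : ∀ u ∈ U, ∀ u' ∈ U, (f u)⁻¹ * f u' ∈ R → u⁻¹ * u' ∈ D := by
    intro u hu u' hu' h
    have h1 := (hf u hu).2
    have h2 := (hf u' hu').2
    have e : u⁻¹ * u' = ((f u)⁻¹ * u)⁻¹ * ((f u)⁻¹ * f u') * ((f u')⁻¹ * u') := by group
    rw [e]
    exact mul_mem (mul_mem (inv_mem h1) (hRD h)) h2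
  change Nat.card (U ⧸ D.subgroupOf U) ≤ Nat.card (V ⧸ R.subgroupOf V)
  let g : U ⧸ D.subgroupOf U → V ⧸ R.subgroupOf V := fun x =>
    QuotientGroup.mk (⟨f (x.out : U), (hf _ (x.out : U).2).1⟩ : V)
  refine Nat.card_le_card_of_injective g fun x y hxy => ?_
  have h1 : ((f (x.out : U))⁻¹ * f (y.out : U)) ∈ R := by
    have := QuotientGroup.eq.1 hxy
    exact this
  have h2 := key _ (x.out : U).2 _ (y.out : U).2 h1
  have h3 : (QuotientGroup.mk (x.out : U) : U ⧸ D.subgroupOf U) = QuotientGroup.mk (y.out : U) :=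
    QuotientGroup.eq.2 h2
  rwa [QuotientGroup.out_eq', QuotientGroup.out_eq'] at h3

/-- elements of `W A` -/
theorem exists_mul {W A B : Subgroup G} (hB : B ≤ normalizer (W : Set G)) (h : A ≤ W ⊔ B) {a : G} (ha : a ∈ A) :
    ∃ w ∈ W, ∃ b ∈ B, a = w * b := by
  have h1 := h ha
  have h2 : ∀ x ∈ W ⊔ B, ∃ w ∈ W, ∃ b ∈ B, x = w * b := by
    let T : Subgroup G :=
      { carrier := {x | ∃ w ∈ W, ∃ b ∈ B, x = w * b}
        one_mem' := ⟨1, one_mem _, 1, one_mem _, (one_mul 1).symm⟩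
        mul_mem' := by
          rintro _ _ ⟨w, hw, b, hb, rfl⟩ ⟨w', hw', b', hb', rfl⟩
          exact ⟨w * (b * w' * b⁻¹), mul_mem hw (conj_mem_of_normalizer (hB hb) hw'), b * b', mul_mem hb hb', by group⟩
        inv_mem' := by
          rintro _ ⟨w, hw, b, hb, rfl⟩
          refine ⟨b⁻¹ * w⁻¹ * b⁻¹⁻¹, conj_mem_of_normalizer (hB (inv_mem hb)) (inv_mem hw), b⁻¹, inv_mem hb, by group⟩ }
    have hT : W ⊔ B ≤ T := sup_le (fun w hw => ⟨w, hw, 1, one_mem _, (mul_one w).symm⟩)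
      fun b hb => ⟨1, one_mem _, b, hb, (one_mul b).symm⟩
    exact fun x hx => hT hx
  exact h2 a h1

namespace Ln

variable {R W V₁ U₁ D₁ A₁ V₂ U₂ D₂ A₂ : Subgroup G}

theorem RW {V U D A : Subgroup G} (l : Ln R W V U D A) : R ≤ W := l.RV.trans (l.VD.trans (l.DU.trans l.UW))
theorem VW {V U D A : Subgroup G} (l : Ln R W V U D A) : V ≤ W := l.VD.trans (l.DU.trans l.UW)
theorem DW {V U D A : Subgroup G} (l : Ln R W V U D A) : D ≤ W := l.DU.trans l.UW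
theorem RD {V U D A : Subgroup G} (l : Ln R W V U D A) : R ≤ D := l.RV.trans l.VD

/-- `[m, a₂] ∈ R · [m, a₁]^W` -/
theorem comm_of (l₁ : Ln R W V₁ U₁ D₁ A₁) {T : Subgroup G} (hRT : R ≤ T) (hTW : T ≤ W)
    {m w a : G} (hm : m ∈ W) (hw : w ∈ W) (h : m * a * m⁻¹ * a⁻¹ ∈ T) :
    m * (w * a) * m⁻¹ * (w * a)⁻¹ ∈ T := by
  have e : m * (w * a) * m⁻¹ * (w * a)⁻¹ =
      (m * w * m⁻¹ * w⁻¹) * (w * (m * a * m⁻¹ * a⁻¹) * w⁻¹ * (m * a * m⁻¹ * a⁻¹)⁻¹) *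
        (m * a * m⁻¹ * a⁻¹) := by group
  rw [e]
  exact mul_mem (mul_mem (hRT (l₁.WW _ hm _ hw)) (hRT (l₁.WW _ hw _ (hTW h)))) h

/-- common points of two lines -/
theorem U_eq_of_mem (l₁ : Ln R W V₁ U₁ D₁ A₁) (l₂ : Ln R W V₂ U₂ D₂ A₂) {x : G} (h1 : x ∈ V₁) (h2 : x ∈ V₂)
    (hx : x ∉ R) : U₁ = U₂ :=
  le_antisymm (fun u hu => l₂.cen x h2 hx u (l₁.UW hu) (l₁.UV u hu x h1))
    fun u hu => l₁.cen x h1 hx u (l₂.UW hu) (l₂.UV u hu x h2)

theorem V_eq_of_U (l₁ : Ln R W V₁ U₁ D₁ A₁) (l₂ : Ln R W V₂ U₂ D₂ A₂) (h : U₁ = U₂) : V₁ = V₂ :=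
  le_antisymm (fun v hv => l₂.cenU v (l₁.VW hv) fun u hu => (l₁.UV u (h ▸ hu) v hv).symm)
    fun v hv => l₁.cenU v (l₂.VW hv) fun u hu => (l₂.UV u (h ▸ hu) v hv).symm

theorem D_inf (l₁ : Ln R W V₁ U₁ D₁ A₁) (l₂ : Ln R W V₂ U₂ D₂ A₂) (h12 : A₁ ≤ W ⊔ A₂) (h21 : A₂ ≤ W ⊔ A₁)
    (h : V₁ ⊓ V₂ ≤ R) : D₁ ⊓ D₂ ≤ R := by
  intro d hd
  refine h ⟨l₁.DAR d hd.1 fun a ha => h ⟨l₁.DA d hd.1 a ha, ?_⟩, l₂.DAR d hd.2 fun a ha => h ⟨?_, l₂.DA d hd.2 a ha⟩⟩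
  · obtain ⟨w, hw, b, hb, rfl⟩ := exists_mul l₂.AW h12 ha
    exact l₁.comm_of l₂.RV l₂.VW (l₁.DW hd.1) hw (l₂.DA d hd.2 b hb)
  · obtain ⟨w, hw, b, hb, rfl⟩ := exists_mul l₁.AW h21 ha
    exact l₁.comm_of l₁.RV l₁.VW (l₁.DW hd.1) hw (l₁.DA d hd.1 b hb)

/-- `|A / D| > |V / R|`: `D₁ ≤ U₂` -/
theorem D_le_U [Finite G] (l₁ : Ln R W V₁ U₁ D₁ A₁) (l₂ : Ln R W V₂ U₂ D₂ A₂) (h21 : A₂ ≤ W ⊔ A₁)
    (hc : R.relIndex V₁ < D₂.relIndex U₂) : D₁ ≤ U₂ := by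
  intro d hd
  by_contra hn
  refine absurd (relIndex_le_of (R := R) (V := V₁) l₂.RD fun u hu => ?_) (not_le.2 hc)
  obtain ⟨a, ha, h⟩ := l₂.surj d (l₁.DW hd) hn u hu
  obtain ⟨w, hw, b, hb, rfl⟩ := exists_mul l₁.AW h21 ha
  exact ⟨_, l₁.comm_of l₁.RV l₁.VW (l₁.DW hd) hw (l₁.DA d hd b hb), h⟩

/-- **LEMMA NA.** -/
theorem U_eq [Finite G] (l₁ : Ln R W V₁ U₁ D₁ A₁) (l₂ : Ln R W V₂ U₂ D₂ A₂) (h21 : A₂ ≤ W ⊔ A₁)
    (hcard : Nat.card U₁ = Nat.card U₂) (h2 : D₂ ≤ U₁) : U₁ = U₂ := by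
  by_contra hne
  have hn : ¬ U₁ ≤ U₂ := fun h => hne (eq_of_le_of_card_ge h hcard.ge)
  obtain ⟨m, hm, hm2⟩ := SetLike.not_le_iff_exists.1 hn
  have h3 : U₂ ≤ U₁ := by
    intro u hu
    obtain ⟨a, ha, h⟩ := l₂.surj m (l₁.UW hm) hm2 u hu
    obtain ⟨w, hw, b, hb, rfl⟩ := exists_mul l₁.AW h21 ha
    have h4 := l₁.comm_of l₁.RD l₁.DW (l₁.UW hm) hw (l₁.UA m hm b hb)
    have h5 := mul_mem (l₁.DU h4) (h2 h)
    rwa [mul_inv_cancel_left] at h5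
  exact hne (eq_of_le_of_card_ge h3 hcard.le).symm

/-- **LEMMA NA**, `|A / D| > |V / R|`. -/
theorem V_eq [Finite G] (l₁ : Ln R W V₁ U₁ D₁ A₁) (l₂ : Ln R W V₂ U₂ D₂ A₂) (h12 : A₁ ≤ W ⊔ A₂)
    (h21 : A₂ ≤ W ⊔ A₁) (hcard : Nat.card U₁ = Nat.card U₂)
    (hc : R.relIndex V₂ < D₁.relIndex U₁) : V₁ = V₂ :=
  l₁.V_eq_of_U l₂ (l₁.U_eq l₂ h21 hcard (l₂.D_le_U l₁ h12 hc))

/-- **LEMMA NA**, general form: `V₁ = V₂` or the exceptional configuration (`|A / D| = |V / R|`). -/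
theorem V_eq_or [Finite G] (l₁ : Ln R W V₁ U₁ D₁ A₁) (l₂ : Ln R W V₂ U₂ D₂ A₂) (h12 : A₁ ≤ W ⊔ A₂)
    (h21 : A₂ ≤ W ⊔ A₁) (hcard : Nat.card U₁ = Nat.card U₂) :
    V₁ = V₂ ∨ (V₁ ⊓ V₂ ≤ R ∧ D₁ ⊓ D₂ ≤ R ∧ ¬ D₁ ≤ U₂ ∧ ¬ D₂ ≤ U₁ ∧
      D₁.relIndex U₁ ≤ R.relIndex V₂ ∧ D₂.relIndex U₂ ≤ R.relIndex V₁) := by
  by_cases hV : V₁ ⊓ V₂ ≤ R
  · by_cases h1 : D₂ ≤ U₁
    · exact Or.inl (l₁.V_eq_of_U l₂ (l₁.U_eq l₂ h21 hcard h1))
    by_cases h2 : D₁ ≤ U₂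
    · exact Or.inl (l₂.V_eq_of_U l₁ (l₂.U_eq l₁ h12 hcard.symm h2)).symm
    refine Or.inr ⟨hV, l₁.D_inf l₂ h12 h21 hV, h2, h1, ?_, ?_⟩
    · exact not_lt.1 fun h => h1 (l₂.D_le_U l₁ h12 h)
    · exact not_lt.1 fun h => h2 (l₁.D_le_U l₂ h21 h)
  · obtain ⟨x, hx, hxR⟩ := SetLike.not_le_iff_exists.1 hV
    exact Or.inl (l₁.V_eq_of_U l₂ (l₁.U_eq_of_mem l₂ hx.1 hx.2 hxR))

end Ln

end Cfsg.Agent.Omega.SQEnd

end

section


/-!
# The configuration at the end of `b = 2`: `K / W = SL₂(k)` (bb OMEGA #12947, (E1)-(E5))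

`K ⊴ N(R)`, `K / W = SL₂(k)`, `W A / W` a Sylow 2-subgroup of it, `w ∈ K` the Weyl element, `L` the abelian group of odd
order complementing `W A` in `N_X(R) N_K(V)`, `C = L ∩ K` (torus of `K`), `Z = C_L(K / W)`, `T = L ∩ X` (torus of `X`).
Conclusions: `D ∩ D^w = R` and `U = (D^w ∩ U) D`.
-/

set_option autoImplicit false

universe u

namespace Cfsg.Agent.Omega.SQEnd

open Subgroup Cfsg.Agent.Omega.BTwo

variable {G : Type u} [Group G]

/-- The configuration. -/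
structure Cfg (R W V U D A K L C Z T : Subgroup G) (w : G) : Prop extends Ln R W V U D A where
  AWD : A ⊓ W ≤ D
  WK : W ≤ K
  AK : A ≤ K
  KR : ∀ g ∈ K, ∀ a ∈ R, g * a = a * g
  KW : K ≤ normalizer (W : Set G)
  /- the torus -/
  CL : C ≤ L
  ZL : Z ≤ L
  TL : T ≤ L
  CK : C ≤ K
  L_comm : ∀ x ∈ L, ∀ y ∈ L, x * y = y * x
  L_odd : ∀ x ∈ L, Odd (orderOf x)
  ZK : ∀ z ∈ Z, ∀ g ∈ K, z * g * z⁻¹ * g⁻¹ ∈ W
  dec : ∀ t ∈ T, ∃ c ∈ C, ∃ z ∈ Z, t = c * z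
  LR : L ≤ normalizer (R : Set G)
  LW : L ≤ normalizer (W : Set G)
  LV : L ≤ normalizer (V : Set G)
  LU : L ≤ normalizer (U : Set G)
  LD : L ≤ normalizer (D : Set G)
  LA : L ≤ normalizer (A : Set G)
  /- the Weyl element -/
  wK : w ∈ K
  w2 : w * w ∈ W
  wL : ∀ x ∈ L, w * x * w⁻¹ ∈ L
  wL' : ∀ x ∈ L, w⁻¹ * x * w ∈ L
  wC : ∀ c ∈ C, w * c * w⁻¹ = c⁻¹
  wZ : ∀ z ∈ Z, w * z * w⁻¹ = z
  WV : W ≤ normalizer (V : Set G)
  /-- `V` and `V^w` are opposite -/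
  opp : ∀ x ∈ U, x ∈ cj w V → x ∈ R
  cov : ∀ m ∈ W, ∃ x ∈ cj w V, x⁻¹ * m ∈ U
  /-- `C` is transitive on `(A / D)#` -/
  Ctr : ∀ a ∈ A, a ∉ D → ∀ a' ∈ A, a' ∉ D → ∃ c ∈ C, (c * a * c⁻¹)⁻¹ * a' ∈ D
  /- the torus of `X` -/
  T_ne : ∃ t ∈ T, t ≠ 1
  t1 : ∀ t ∈ T, t ≠ 1 → ∀ r ∈ R, t * r * t⁻¹ = r → r = 1
  t2 : ∀ v ∈ V, v ∉ R → ∀ v' ∈ V, v' ∉ R → ∃ t ∈ T, (t * v * t⁻¹)⁻¹ * v' ∈ R
  t3 : ∀ t ∈ T, ∀ d ∈ D, t * d * t⁻¹ * d⁻¹ ∈ V
  t4 : ∀ t ∈ T, ∀ m ∈ W, ∀ a ∈ A,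
    (m * (t⁻¹ * a * t) * m⁻¹ * (t⁻¹ * a * t)⁻¹)⁻¹ * (t * (m * a * m⁻¹ * a⁻¹) * t⁻¹) ∈ D
  t5 : ∀ t ∈ T, ∀ v ∈ V, ∀ m ∈ W,
    t * (v * m * v⁻¹ * m⁻¹) * t⁻¹ = (t⁻¹ * v * t) * m * (t⁻¹ * v * t)⁻¹ * m⁻¹
  t6 : ∀ t ∈ T, t ≠ 1 → ∀ u ∈ U, t * u * t⁻¹ * u⁻¹ ∈ D → u ∈ D

/-- conjugates of a line -/
theorem Ln.cj {R W V U D A : Subgroup G} (l : Ln R W V U D A) {g : G} (hR : g ∈ normalizer (R : Set G))
    (hW : g ∈ normalizer (W : Set G)) : Ln R W (cj g V) (cj g U) (cj g D) (cj g A) := by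
  have hR' : BTwo.cj g R = R := cj_eq_self_iff.2 hR
  have hW' : BTwo.cj g W = W := cj_eq_self_iff.2 hW
  have hiW : ∀ x ∈ W, g⁻¹ * x * g ∈ W := fun x hx => conj_inv_mem_of_normalizer hW hx
  have hR2 : ∀ x, g⁻¹ * x * g ∈ R → x ∈ R := fun x hx => by
    have := conj_mem_of_normalizer hR hx
    have e : g * (g⁻¹ * x * g) * g⁻¹ = x := by group
    rwa [e] at this
  have hW2 : ∀ x, g⁻¹ * x * g ∈ W → x ∈ W := fun x hx => by
    have := conj_mem_of_normalizer hW hx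
    have e : g * (g⁻¹ * x * g) * g⁻¹ = x := by group
    rwa [e] at this
  have hcomm : ∀ x y : G, g⁻¹ * (x * y * x⁻¹ * y⁻¹) * g =
      (g⁻¹ * x * g) * (g⁻¹ * y * g) * (g⁻¹ * x * g)⁻¹ * (g⁻¹ * y * g)⁻¹ := fun x y => by group
  exact {
    RV := by rw [← hR']; exact cj_mono l.RV
    VD := cj_mono l.VD
    DU := cj_mono l.DU
    UW := by rw [← hW']; exact cj_mono l.UW
    AW := by
      rw [← hW', normalizer_cj]
      exact cj_mono l.AW
    WW := l.WW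
    UV := fun u hu v hv => by
      have := l.UV _ (mem_cj.1 hu) _ (mem_cj.1 hv)
      have e1 : u * v = g * ((g⁻¹ * u * g) * (g⁻¹ * v * g)) * g⁻¹ := by group
      rw [e1, this]; group
    cen := fun v hv hvR m hm h => by
      refine mem_cj.2 (l.cen _ (mem_cj.1 hv) (fun h' => hvR (hR2 _ h')) _ (hiW m hm) ?_)
      have e1 : g⁻¹ * m * g * (g⁻¹ * v * g) = g⁻¹ * (m * v) * g := by group
      rw [e1, h]; group
    cenU := fun m hm h => by
      refine mem_cj.2 (l.cenU _ (hiW m hm) fun u hu => ?_)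
      have := h (g * u * g⁻¹) (conj_mem_cj hu)
      calc g⁻¹ * m * g * u = g⁻¹ * (m * (g * u * g⁻¹)) * g := by group
        _ = g⁻¹ * (g * u * g⁻¹ * m) * g := by rw [this]
        _ = u * (g⁻¹ * m * g) := by group
    UA := fun u hu a ha => by
      rw [mem_cj, hcomm]
      exact l.UA _ (mem_cj.1 hu) _ (mem_cj.1 ha)
    DA := fun u hu a ha => by
      rw [mem_cj, hcomm]
      exact l.DA _ (mem_cj.1 hu) _ (mem_cj.1 ha)
    DAR := fun d hd h => by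
      refine mem_cj.2 (l.DAR _ (mem_cj.1 hd) fun a ha => ?_)
      have h1 := conj_inv_mem_of_normalizer hR (h (g * a * g⁻¹) (conj_mem_cj ha))
      rw [hcomm] at h1
      have e : g⁻¹ * (g * a * g⁻¹) * g = a := by group
      rwa [e] at h1
    inj := fun m hm hmU a ha h => by
      refine mem_cj.2 (l.inj _ (hiW m hm) (fun h' => hmU (mem_cj.2 h')) _ (mem_cj.1 ha) ?_)
      rw [← hcomm]
      exact mem_cj.1 h
    surj := fun m hm hmU u hu => by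
      obtain ⟨a, ha, h⟩ := l.surj _ (hiW m hm) (fun h' => hmU (mem_cj.2 h')) _ (mem_cj.1 hu)
      refine ⟨g * a * g⁻¹, conj_mem_cj ha, mem_cj.2 ?_⟩
      have e : g⁻¹ * ((m * (g * a * g⁻¹) * m⁻¹ * (g * a * g⁻¹)⁻¹)⁻¹ * u) * g =
        ((g⁻¹ * m * g) * a * (g⁻¹ * m * g)⁻¹ * a⁻¹)⁻¹ * (g⁻¹ * u * g) := by group
      rwa [e] }

end Cfsg.Agent.Omega.SQEnd

end

section


/-!
# `Ln` from `BTC` and `C(W) ≤ R`
-/

set_option autoImplicit false

universe u v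

namespace Cfsg.Agent.Omega.SQEnd

open Subgroup Cfsg.Agent.Omega.BTwo

variable {G : Type u} [Group G] {ι : Type v} {V : Subgroup G} {R : ι → Subgroup G}

theorem ln_of_bt [Finite G] (b : BTC V R) {i j : ι} (hij : i ≠ j)
    (hC : centralizer (WW V (R i) : Set G) ≤ R i) :
    Ln (R i) (WW V (R i)) V (UU V R i) (DD V R) (UU V R j) where
  RV := b.R_le i
  VD := V_le_D V R
  DU := b.D_le_U i
  UW := UU_le_WW i
  AW := (UU_le_cen j).trans (b.cen_le_NW i)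
  WW := fun g hg w hw => b.WW_comm i hg hw
  UV := fun u hu v hv => (mem_centralizer_iff.1 (UU_le_cen i hu) v hv).symm
  cen := fun v hv hvR w hw h => mem_inf.2 ⟨hw, mem_centralizer_iff.2 fun a ha =>
    (b.reg (b.W_le_Q i hw) hv hvR h a ha).symm⟩
  cenU := fun w hw h => by
    obtain ⟨v, hv, hc⟩ := b.cen_U (b.W_le_Q i hw) h
    have e : w = v * (v⁻¹ * w) := by group
    rw [e]
    exact mul_mem hv (b.R_le i (hC hc))
  UA := fun u hu a ha => b.UU_comm hij hu ha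
  DA := fun d hd a ha => b.lam_mem hd (UU_le_YY j ha)
  DAR := fun d hd h => b.cen_DU (i := j) hd fun u hu => by
    have h1 := b.eq_one hij (h u hu) (b.DU hd hu)
    rwa [mul_inv_eq_one, mul_inv_eq_iff_eq_mul] at h1
  inj := fun w hw hwU a ha h => b.inj hij.symm hw hwU ha h
  surj := fun w hw hwU u hu => b.surj hij.symm hw hwU hu

end Cfsg.Agent.Omega.SQEnd

end

section


/-!
# The input of the end of `b = 2`: `K ⊴ N(R i)`, `K / W i = SL₂(k)`, `W i U j / W i` a Sylow 2-subgroup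
-/

set_option autoImplicit false

universe u v w

namespace Cfsg.Agent.Omega.SQEnd

open Subgroup Cfsg.Agent.Omega.BTwo

variable {G : Type u} [Group G] {ι : Type v}

/-- `K ⊴ N(R i)`, `[K, R i] = 1`, `φ : K → SL₂(k)` with kernel `W i`; `W i U j` is the preimage of the upper unitriangular
group. -/
structure KD (V : Subgroup G) (R : ι → Subgroup G) (i j : ι) {k : Type w} [Field k] (K : Subgroup G)
    (φ : K →* Matrix.SpecialLinearGroup (Fin 2) k) : Prop where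
  ne : i ≠ j
  WK : WW V (R i) ≤ K
  UK : UU V R j ≤ K
  KR : ∀ g ∈ K, ∀ a ∈ R i, g * a = a * g
  NK : normalizer (R i : Set G) ≤ normalizer (K : Set G)
  surj : Function.Surjective φ
  ker : ∀ g : K, φ g = 1 ↔ (g : G) ∈ WW V (R i)
  uni : ∀ g : K, (g : G) ∈ WW V (R i) ⊔ UU V R j ↔
    ∃ x : k, (φ g : Matrix (Fin 2) (Fin 2) k) = !![1, x; 0, 1]

end Cfsg.Agent.Omega.SQEnd

end

section


/-!
# Automorphisms of `SL₂(k)`, `k` of characteristic 2, and the two fields acting on a root group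

`eq_one_of_up`: an automorphism of odd order centralising the upper unitriangular group is trivial.
`scal`: a field `F` acting on `k` (as an additive group) with `Fˣ` normalising `kˣ` acts by scalars of `k`.
`exists_aut`: the automorphism of `SL₂(k)` induced on `K / W`.
-/

set_option autoImplicit false

namespace Cfsg.Agent.Omega.SQEnd

open Subgroup Cfsg.Agent.Lib.SL2Mat Matrix

section sl2

variable {k : Type*} [Field k]

/-- `g up(y) = up(x) g` in `GL₂` -/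
theorem gl_up {g : GL (Fin 2) k} {x y : k} (h : conjGL g (up y) = up x) :
    x * g.1 1 0 = 0 ∧ g.1 0 0 * y = x * g.1 1 1 := by
  have h1 : (g.1 * (up y).1 * g⁻¹.1) = (up x).1 := by
    have := congrArg (fun z : Matrix.SpecialLinearGroup (Fin 2) k => z.1) h
    rw [conjGL_val] at this
    exact this
  have h2 : g.1 * (up y).1 = (up x).1 * g.1 := by
    rw [← h1, Matrix.mul_assoc, inv_val_mul_val, Matrix.mul_one]
  have e00 := congrFun (congrFun h2 0) 0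
  have e01 := congrFun (congrFun h2 0) 1
  simp only [Matrix.mul_apply, Fin.sum_univ_two] at e00 e01
  have u00 : (up y).1 0 0 = 1 := rfl
  have u01 : (up y).1 0 1 = y := rfl
  have u10 : (up y).1 1 0 = 0 := rfl
  have u11 : (up y).1 1 1 = 1 := rfl
  have v00 : (up x).1 0 0 = 1 := rfl
  have v01 : (up x).1 0 1 = x := rfl
  rw [u00, u10, v00, v01] at e00
  rw [u01, u11, v00, v01] at e01
  constructor
  · linear_combination -e00
  · linear_combination e01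

/-- an automorphism of odd order centralising the upper unitriangular group is trivial -/
theorem eq_one_of_up [Finite k] [CharP k 2] {α : MulAut (Matrix.SpecialLinearGroup (Fin 2) k)} {n : ℕ} (hn : Odd n)
    (hα : α ^ n = 1) (h : ∀ x : k, α (up x) = up x) : α = 1 := by
  obtain ⟨g, σ, hg⟩ := Lib.AutSL2.exists_gl_ringEquiv (MonoidHom.id (Matrix.SpecialLinearGroup (Fin 2) k))
    Function.surjective_id (by
      intro x hx
      rw [MonoidHom.mem_ker] at hx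
      rw [show x = 1 from hx]
      exact one_mem _) α
  simp only [MonoidHom.id_apply] at hg
  have key : ∀ x : k, x * g.1 1 0 = 0 ∧ g.1 0 0 * σ x = x * g.1 1 1 := by
    intro x
    apply gl_up
    rw [← fieldAut_up, ← hg, h]
  obtain ⟨h1, h2⟩ := key 1
  rw [one_mul] at h1
  rw [map_one, mul_one, one_mul] at h2
  have h00 : g.1 0 0 ≠ 0 := by
    intro h0
    have hd : g.1.det ≠ 0 := by
      have := (Matrix.isUnit_iff_isUnit_det g.1).1 g.isUnit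
      exact this.ne_zero
    apply hd
    rw [Matrix.det_fin_two, h0, h1]
    ring
  have hσ : σ = RingEquiv.refl k := by
    ext x
    have h3 := (key x).2
    rw [← h2, mul_comm x] at h3
    exact mul_left_cancel₀ h00 h3
  -- `α` is conjugation by `up c`
  set c := g.1 0 1 / g.1 0 0 with hc
  have hα' : ∀ x, α x = up c * x * (up c)⁻¹ := by
    intro x
    rw [hg, hσ]
    have e0 : fieldAut (RingEquiv.refl k) x = x := by
      apply ext_ent <;> simp [fieldAut_ent]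
    rw [e0]
    have hgv : g.1 = g.1 0 0 • (up c).1 := by
      ext a b
      fin_cases a <;> fin_cases b
      · change g.1 0 0 = g.1 0 0 * 1
        rw [mul_one]
      · change g.1 0 1 = g.1 0 0 * c
        rw [hc, mul_div_cancel₀ _ h00]
      · change g.1 1 0 = g.1 0 0 * 0
        rw [h1, mul_zero]
      · change g.1 1 1 = g.1 0 0 * 1
        rw [← h2, mul_one]
    have h3 : (conjGL g x).1 * g.1 = g.1 * x.1 := by
      rw [conjGL_val, Matrix.mul_assoc, inv_val_mul_val, Matrix.mul_one]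
    have h4 : (conjGL g x).1 * (up c).1 = (up c).1 * x.1 := by
      rw [hgv, Matrix.mul_smul, Matrix.smul_mul] at h3
      exact smul_right_injective _ h00 h3
    have h5 : conjGL g x * up c = up c * x := Subtype.ext h4
    rw [← h5, mul_inv_cancel_right]
  have hpow : ∀ m : ℕ, ∀ x, (α ^ m) x = up c ^ m * x * (up c ^ m)⁻¹ := by
    intro m
    induction m with
    | zero => intro x; simp
    | succ m ih =>
      intro x
      rw [pow_succ, MulAut.mul_apply, hα', ih, pow_succ]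
      group
  have hup2 : up c * up c = 1 := by
    rw [up_mul, CharTwo.add_self_eq_zero, up_zero]
  have hupn : up c ^ n = up c := by
    obtain ⟨m, rfl⟩ := hn
    rw [pow_succ, pow_mul, pow_two, hup2, one_pow, one_mul]
  have hcen : up c * lo 1 = lo 1 * up c := by
    have h3 := hpow n (lo 1)
    rw [hα, hupn, MulAut.one_apply] at h3
    calc up c * lo 1 = (up c * lo 1 * (up c)⁻¹) * up c := by group
      _ = lo 1 * up c := by rw [← h3]
  have hc0 : c = 0 := by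
    have h3 := congrArg (fun z => ent z 0 0) hcen
    simp only [ent_mul, up_00, up_01, lo_00, lo_10, lo_01, up_10] at h3
    linear_combination h3
  ext1 x
  rw [hα', hc0, up_zero]
  simp

end sl2

section scal

variable {F k : Type*} [Field F] [Field k]

/-- a field `F` acting on the additive group of `k`, such that `Fˣ` normalises `kˣ`, acts by scalars of `k` -/
theorem scal [CharP F 2] {f : F → k → k} (zero : ∀ s, f s 0 = 0) (one : ∀ x, f 1 x = x)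
    (add : ∀ s t, s ≠ 0 → t ≠ 0 → s + t ≠ 0 → ∀ x, f (s + t) x = f s x + f t x)
    (semi : ∀ s, s ≠ 0 → ∀ μ : k, μ ≠ 0 → ∃ ν : k, ∀ x, f s (μ * x) = ν * f s x) {s : F} (hs : s ≠ 0) (x : k) :
    f s x = f s 1 * x := by
  by_cases hs1 : s = 1
  · rw [hs1, one, one, one_mul]
  have hs2 : s + 1 ≠ 0 := fun h => hs1 (CharTwo.add_eq_zero.1 h)
  have key : ∀ μ : k, μ ≠ 0 → ∀ x, f s (μ * x) = μ * f s x := by
    intro μ hμ
    obtain ⟨ν, hν⟩ := semi s hs μ hμ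
    obtain ⟨ν', hν'⟩ := semi (s + 1) hs2 μ hμ
    have h1 : ∀ x, ν * f s x + μ * x = ν' * (f s x + x) := by
      intro x
      have h2 := hν' x
      rw [add s 1 hs one_ne_zero hs2, add s 1 hs one_ne_zero hs2, one, one, hν] at h2
      exact h2
    by_cases h3 : ν = ν'
    · have h4 := h1 1
      have h5 : ν = μ := by
        rw [← h3] at h4
        linear_combination -h4
      intro x
      rw [hν, h5]
    · have h4 : ν - ν' ≠ 0 := sub_ne_zero.2 h3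
      have h5 : ∀ x, f s x = (ν' - μ) / (ν - ν') * x := by
        intro x
        rw [div_mul_eq_mul_div, eq_div_iff h4]
        linear_combination h1 x
      intro x
      rw [h5, h5]
      ring
  have h0 := zero s
  by_cases hx : x = 0
  · rw [hx, h0, mul_zero]
  · have h2 := key x hx 1
    rw [mul_one] at h2
    rw [h2, mul_comm]

end scal

section aut

variable {G : Type*} [Group G] {S : Type*} [Group S]

/-- the automorphism of `S` induced by an element normalising `K` and `W`, `K / W = S` -/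
theorem exists_aut {K W : Subgroup G} {φ : K →* S} (hφ : Function.Surjective φ)
    (hker : ∀ g : K, φ g = 1 ↔ (g : G) ∈ W) {z : G} (hK : z ∈ normalizer (K : Set G))
    (hW : z ∈ normalizer (W : Set G)) : ∃ α : MulAut S, ∀ g g' : K, (g' : G) = z * g * z⁻¹ → α (φ g) = φ g' := by
  have hcK : ∀ {y : G}, y ∈ normalizer (K : Set G) → ∀ g : K, y * g * y⁻¹ ∈ K := fun hy g =>
    (mem_normalizer_iff.1 hy _).1 g.2
  have hcW : ∀ {y : G}, y ∈ normalizer (W : Set G) → ∀ g ∈ W, y * g * y⁻¹ ∈ W := fun hy g hg =>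
    (mem_normalizer_iff.1 hy _).1 hg
  have hwd : ∀ {y : G}, y ∈ normalizer (W : Set G) → ∀ g g' h h' : K, φ g = φ g' → (h : G) = y * g * y⁻¹ →
      (h' : G) = y * g' * y⁻¹ → φ h = φ h' := by
    intro y hy g g' h h' e e1 e2
    have h1 : φ (g⁻¹ * g') = 1 := by rw [map_mul, map_inv, e, inv_mul_cancel]
    have h2 := hcW hy _ ((hker _).1 h1)
    have h3 : φ (h⁻¹ * h') = 1 := by
      rw [hker]
      have e3 : ((h⁻¹ * h' : K) : G) = y * ((g⁻¹ * g' : K) : G) * y⁻¹ := by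
        push_cast
        rw [e1, e2]; group
      rw [e3]
      exact h2
    rw [map_mul, map_inv, inv_mul_eq_one] at h3
    exact h3
  choose s hs using hφ
  let f : ∀ {y : G}, y ∈ normalizer (K : Set G) → S → S := fun {y} hy x => φ ⟨y * s x * y⁻¹, hcK hy (s x)⟩
  have hf : ∀ {y : G} (hy : y ∈ normalizer (K : Set G)), y ∈ normalizer (W : Set G) → ∀ g g' : K,
      (g' : G) = y * g * y⁻¹ → f hy (φ g) = φ g' := by
    intro y hy hyW g g' e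
    exact hwd hyW (s (φ g)) g _ _ (hs _) rfl e
  have hK' := inv_mem hK
  have hW' := inv_mem hW
  refine ⟨MulEquiv.mk' (Equiv.mk (f hK) (f hK') (fun x => ?_) (fun x => ?_)) fun x y => ?_,
    fun g g' e => hf hK hW g g' e⟩
  · have h1 := hf hK' hW' ⟨z * s x * z⁻¹, hcK hK (s x)⟩ (s x) (by
      change (s x : G) = z⁻¹ * (z * s x * z⁻¹) * z⁻¹⁻¹
      group)
    rw [hs] at h1
    exact h1
  · have h1 := hf hK hW ⟨z⁻¹ * s x * z⁻¹⁻¹, hcK hK' (s x)⟩ (s x) (by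
      change (s x : G) = z * (z⁻¹ * s x * z⁻¹⁻¹) * z⁻¹
      group)
    rw [hs] at h1
    exact h1
  · have h1 := hf hK hW (s x * s y) (⟨z * s x * z⁻¹, hcK hK (s x)⟩ * ⟨z * s y * z⁻¹, hcK hK (s y)⟩) (by
      change z * (s x : G) * z⁻¹ * (z * s y * z⁻¹) = z * ((s x : G) * s y) * z⁻¹
      group)
    rw [map_mul, map_mul, hs, hs] at h1
    exact h1

end aut

end Cfsg.Agent.Omega.SQEnd

end
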