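import Cfsg.Agent.Mrg.Omega.SQEnd.KBase
import Cfsg.Agent.Mrg.Omega.Hex.OfCoord


/-!
# From `KD` to `Cfg`, part 2: the torus `L`

`L` is a complement of `Y` in `(K ∩ N(V) ∩ N(R j)) (X ∩ N(R i) ∩ N(R j))`.
-/

set_option autoImplicit false
set_option linter.unusedSectionVars false

universe u v w z

namespace Cfsg.Agent.Omega.SQEnd

open Subgroup Cfsg.Agent.Omega.BTwo Cfsg.Agent.Lib.SL2Mat Cfsg.Agent.Omega.Hex

section gen

variable {G : Type u} [Group G]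

theorem odd_relIndex_of_pow [Finite G] {U B : Subgroup G} (hB : B ≤ normalizer (U : Set G)) {n : ℕ} (hn : Odd n)
    (h : ∀ x ∈ B, x ^ n ∈ U) : Odd (U.relIndex B) := by
  have hN : (U.subgroupOf B).Normal :=
    ⟨fun x hx g => conj_mem_of_normalizer (g := (g : G)) (x := (x : G)) (hB g.2) hx⟩
  rw [← Nat.not_even_iff_odd]
  intro he
  have h2 : 2 ∣ Nat.card (B ⧸ U.subgroupOf B) := even_iff_two_dvd.1 he
  have : Fact (Nat.Prime 2) := ⟨Nat.prime_two⟩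
  obtain ⟨x, hx⟩ := exists_prime_orderOf_dvd_card' 2 h2
  have h3 : x ^ n = 1 := by
    obtain ⟨y, rfl⟩ := QuotientGroup.mk_surjective x
    rw [← QuotientGroup.mk_pow, QuotientGroup.eq_one_iff, mem_subgroupOf]
    exact h y y.2
  have h4 := orderOf_dvd_of_pow_eq_one h3
  rw [hx] at h4
  exact (Nat.not_even_iff_odd.2 hn) (even_iff_two_dvd.2 h4)

theorem odd_units (k : Type*) [Field k] [Finite k] [CharP k 2] : Odd (Nat.card kˣ) := by
  classical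
  have _ := Fintype.ofFinite k
  rw [Nat.card_units, Nat.card_eq_fintype_card]
  have h1 : Fintype.card k % 2 = 0 := FiniteField.even_card_of_char_two (ringChar.eq k 2)
  have h2 : 0 < Fintype.card k := Fintype.card_pos
  rw [← Nat.not_even_iff_odd, Nat.even_iff]
  omega

theorem exists_sqrt {k : Type*} [Field k] [Finite k] [CharP k 2] (m : k) : ∃ r, r ^ 2 = m := by
  have _ := Fintype.ofFinite k
  obtain ⟨r, hr⟩ := FiniteField.isSquare_of_char_two (ringChar.eq k 2) m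
  exact ⟨r, by rw [hr]; ring⟩

theorem pow_card_units {k : Type*} [Field k] [Finite k] {a : k} (ha : a ≠ 0) : a ^ Nat.card kˣ = 1 := by
  have h1 : (Units.mk0 a ha) ^ Nat.card kˣ = 1 := pow_card_eq_one'
  have h2 := congrArg Units.val h1
  rw [Units.val_pow_eq_pow_val, Units.val_mk0, Units.val_one] at h2
  exact h2

end gen

section

variable {G : Type u} [Group G] {ι : Type v} {V : Subgroup G} {R : ι → Subgroup G} {i j : ι} {k : Type w} [Field k]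
  {K : Subgroup G} {φ : K →* Matrix.SpecialLinearGroup (Fin 2) k} {F : Type z} [Field F] {v : F → F → G}
  {w1 w2 : F → G}

/-- `K ∩ N(V) ∩ N(R j)` -/
def KT (V : Subgroup G) (R : ι → Subgroup G) (j : ι) (K : Subgroup G) : Subgroup G :=
  K ⊓ (normalizer (V : Set G) ⊓ normalizer (R j : Set G))

/-- `X ∩ N(R i) ∩ N(R j)` -/
def XT (V : Subgroup G) (R : ι → Subgroup G) (i j : ι) : Subgroup G :=
  XX V R ⊓ (normalizer (R i : Set G) ⊓ normalizer (R j : Set G))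

theorem Y_two (b : BT V R) : IsPGroup 2 (YY V R) := by
  rintro ⟨y, hy⟩
  refine ⟨2, Subtype.ext ?_⟩
  change y ^ 4 = 1
  have h1 := b.D_sq (b.Y_sq hy)
  have e : y ^ 4 = y * y * (y * y) := by simp only [pow_succ, pow_zero, one_mul, mul_assoc]
  rw [e, h1]

/-- the torus of `X` modulo `Y` -/
theorem XT_pow [Finite G] [Finite F] [CharP F 2] (b : BTC V R) (c : Coord V R i j v w1 w2) {t : G}
    (ht : t ∈ XT V R i j) : t ^ Nat.card Fˣ ∈ YY V R := by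
  obtain ⟨M, _, _, p1, p2, y⟩ := c.exists_yMod b.toBT
  obtain ⟨P1, P2, y', -⟩ := YMod.exists_yPair b.toBT c y
  rw [← y'.cen_X_V c b]
  obtain ⟨a, ha, h, -⟩ := Tor.exists_tor y b.toBT c ht.1 ht.2.1 ht.2.2
  refine mem_inf.2 ⟨pow_mem ht.1 _, mem_centralizer_iff.2 fun x hx => ?_⟩
  obtain ⟨d, e, rfl⟩ := (c.mem_V x).1 hx
  have h1 : ∀ n : ℕ, t ^ n * v d e * (t ^ n)⁻¹ = v (a ^ n * d) ((a ^ n)⁻¹ * e) := by
    intro n
    induction n with
    | zero => simp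
    | succ n ih =>
      have e1 : t ^ (n + 1) * v d e * (t ^ (n + 1))⁻¹ = t * (t ^ n * v d e * (t ^ n)⁻¹) * t⁻¹ := by
        rw [pow_succ']; group
      rw [e1, ih, h, pow_succ']
      congr 1
      · ring
      · rw [mul_inv]; ring
  have h2 := h1 (Nat.card Fˣ)
  rw [pow_card_units ha, inv_one, one_mul, one_mul] at h2
  exact (mul_inv_eq_iff_eq_mul.1 h2).symm

theorem KT_pow [Finite G] (b : BTC V R) (kd : KD V R i j K φ) {g : G} (hg : g ∈ KT V R j K) :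
    g ^ Nat.card kˣ ∈ YY V R := by
  have := kd.finite
  have hgK := hg.1
  have h1 := kd.ent_of_mem b ⟨g, hgK⟩ (kd.S_normal b (kd.K_le_N hgK) hg.2.1)
  have h2 := ent_pow h1 (Nat.card kˣ)
  have hd := det_eq (φ ⟨g, hgK⟩)
  rw [h1, mul_zero, sub_zero] at hd
  have h0 : ent (φ ⟨g, hgK⟩) 0 0 ≠ 0 := left_ne_zero_of_mul_eq_one hd
  rw [pow_card_units h0] at h2
  have h3 := eq_up_of_ent h2.1 h2.2
  rw [← map_pow] at h3
  exact kd.mem_Y b ((kd.mem_iff _).2 ⟨_, h3⟩) (pow_mem hg.2.2 _)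

theorem Y_le_KT (b : BTC V R) (kd : KD V R i j K φ) : YY V R ≤ KT V R j K :=
  le_inf (kd.Y_le_K b) (le_inf Y_le_NV (YY_le_cen.trans (b.cen_le_N j)))

theorem Y_le_XT (b : BTC V R) : YY V R ≤ XT V R i j :=
  le_inf YY_le_XX (le_inf (YY_le_cen.trans (b.cen_le_N i)) (YY_le_cen.trans (b.cen_le_N j)))

theorem XT_NKT (b : BTC V R) (kd : KD V R i j K φ) : XT V R i j ≤ normalizer (KT V R j K : Set G) := by
  intro t ht
  rw [← cj_eq_self_iff, KT, cj_inf, cj_inf, cj_eq_self_iff.2 (kd.NK ht.2.1),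
    cj_of_mem (b.X_le_NV ht.1), cj_of_mem ht.2.2]

/-- the group containing the torus -/
theorem nt [Finite G] [Finite F] [CharP F 2] (b : BTC V R) (c : Coord V R i j v w1 w2) (kd : KD V R i j K φ) :
    NT (YY V R) (KT V R j K ⊔ XT V R i j) := by
  have := kd.finite
  have := kd.charP b
  have h1 : KT V R j K ≤ normalizer (V : Set G) := inf_le_right.trans inf_le_left
  have h2 : XT V R i j ≤ normalizer (V : Set G) := inf_le_left.trans b.X_le_NV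
  refine ⟨(Y_le_KT b kd).trans le_sup_left, (sup_le h1 h2).trans b.NV_le_NY, Y_two b.toBT, ?_⟩
  exact odd_relIndex_sup (XT_NKT b kd) (Y_le_KT b kd)
    (odd_relIndex_of_pow (h1.trans b.NV_le_NY) (odd_units k) fun x hx => KT_pow b kd hx)
    (odd_relIndex_of_pow (h2.trans b.NV_le_NY) (odd_units F) fun x hx => XT_pow b c hx)

/-- the properties of the torus `L` -/
structure LD (V : Subgroup G) (R : ι → Subgroup G) (i j : ι) (K L : Subgroup G) : Prop where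
  NV : L ≤ normalizer (V : Set G)
  Ni : L ≤ normalizer (R i : Set G)
  Nj : L ≤ normalizer (R j : Set G)
  odd : Odd (Nat.card L)
  K_mul : ∀ g ∈ KT V R j K, ∃ y ∈ YY V R, ∃ c ∈ L, c ∈ K ∧ g = y * c
  X_mul : ∀ g ∈ XT V R i j, ∃ y ∈ YY V R, ∃ t ∈ L, t ∈ XX V R ∧ g = y * t
  CT : ∀ l ∈ L, ∃ c ∈ L, c ∈ K ∧ ∃ t ∈ L, t ∈ XX V R ∧ l = c * t

theorem exists_LD [Finite G] [Finite F] [CharP F 2] (b : BTC V R) (c : Coord V R i j v w1 w2)
    (kd : KD V R i j K φ) : ∃ L, LD V R i j K L ∧ Cpl (YY V R) (KT V R j K ⊔ XT V R i j) L := by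
  have n := nt b c kd
  obtain ⟨L, hL⟩ := n.exists_cpl
  have hKN : KT V R j K ≤ normalizer (R i : Set G) := inf_le_left.trans kd.K_le_N
  have hodd := n.odd_cpl hL
  have hK : ∀ g ∈ KT V R j K, ∃ y ∈ YY V R, ∃ c ∈ L, c ∈ K ∧ g = y * c := by
    intro g hg
    obtain ⟨y, hy, c, hc, e⟩ := n.exists_mul hL ((le_sup_left : KT V R j K ≤ _) hg)
    refine ⟨y, hy, c, hc, ?_, e⟩
    have e1 : c = y⁻¹ * g := by rw [e]; group
    rw [e1]
    exact mul_mem (inv_mem (kd.Y_le_K b hy)) hg.1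
  have hX : ∀ g ∈ XT V R i j, ∃ y ∈ YY V R, ∃ t ∈ L, t ∈ XX V R ∧ g = y * t := by
    intro g hg
    obtain ⟨y, hy, c, hc, e⟩ := n.exists_mul hL ((le_sup_right : XT V R i j ≤ _) hg)
    refine ⟨y, hy, c, hc, ?_, e⟩
    have e1 : c = y⁻¹ * g := by rw [e]; group
    rw [e1]
    exact mul_mem (inv_mem (YY_le_XX hy)) hg.1
  refine ⟨L, ⟨hL.HB.trans (sup_le (inf_le_right.trans inf_le_left) (inf_le_left.trans b.X_le_NV)),
    hL.HB.trans (sup_le hKN (inf_le_right.trans inf_le_left)),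
    hL.HB.trans (sup_le (inf_le_right.trans inf_le_right) (inf_le_right.trans inf_le_right)), hodd, hK, hX, ?_⟩, hL⟩
  intro l hl
  obtain ⟨g, hg, x, hx, e⟩ := exists_mul_of_le (XT_NKT b kd) (hL.HB hl)
  obtain ⟨y, hy, c, hc, hcK, e1⟩ := hK g hg
  obtain ⟨y', hy', t, ht, htX, e2⟩ := hX x hx
  refine ⟨c, hc, hcK, t, ht, htX, ?_⟩
  have h1 : l * (c * t)⁻¹ ∈ YY V R := by
    rw [e, e1, e2]
    have e3 : y * c * (y' * t) * (c * t)⁻¹ = y * (c * y' * c⁻¹) := by group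
    rw [e3]
    refine mul_mem hy (conj_mem_of_normalizer (b.NV_le_NY ?_) hy')
    exact (hL.HB.trans (sup_le (inf_le_right.trans inf_le_left) (inf_le_left.trans b.X_le_NV))) hc
  have h2 : l * (c * t)⁻¹ ∈ YY V R ⊓ L := mem_inf.2 ⟨h1, mul_mem hl (inv_mem (mul_mem hc ht))⟩
  rw [inf_eq_bot_of_odd (Y_two b.toBT) hodd, mem_bot, mul_inv_eq_one] at h2
  exact h2

end

section pk

variable {G : Type u} [Group G] {ι : Type v} {V : Subgroup G} {R : ι → Subgroup G} {i j : ι} {k : Type w} [Field k]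
  {K : Subgroup G}

open Classical in
/-- the coordinate of `W U j / W` -/
noncomputable def pk (φ : K →* Matrix.SpecialLinearGroup (Fin 2) k) (a : G) : k :=
  if h : a ∈ K then ent (φ ⟨a, h⟩) 0 1 else 0

variable {φ : K →* Matrix.SpecialLinearGroup (Fin 2) k} (kd : KD V R i j K φ)
include kd

theorem pk_eq {a : G} (ha : a ∈ WW V (R i) ⊔ UU V R j) : φ ⟨a, kd.S_le ha⟩ = up (pk φ a) := by
  obtain ⟨x, hx⟩ := kd.exists_up ⟨a, kd.S_le ha⟩ ha
  rw [pk, dif_pos (kd.S_le ha), hx, up_01]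

theorem pk_of {a : G} (ha : a ∈ K) {x : k} (h : φ ⟨a, ha⟩ = up x) : pk φ a = x := by
  have _ := kd
  rw [pk, dif_pos ha, h, up_01]

theorem pk_mul {a a' : G} (ha : a ∈ WW V (R i) ⊔ UU V R j) (ha' : a' ∈ WW V (R i) ⊔ UU V R j) :
    pk φ (a * a') = pk φ a + pk φ a' := by
  apply pk_of kd (mul_mem (kd.S_le ha) (kd.S_le ha'))
  rw [← up_mul, ← pk_eq kd ha, ← pk_eq kd ha', ← map_mul]
  rfl

theorem pk_inv {a : G} (ha : a ∈ WW V (R i) ⊔ UU V R j) : pk φ a⁻¹ = -pk φ a := by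
  apply pk_of kd (inv_mem (kd.S_le ha))
  rw [← up_inv, ← pk_eq kd ha, ← map_inv]
  rfl

theorem pk_eq_zero {a : G} (ha : a ∈ WW V (R i) ⊔ UU V R j) : pk φ a = 0 ↔ a ∈ WW V (R i) := by
  have h1 := kd.ker ⟨a, kd.S_le ha⟩
  rw [pk_eq kd ha] at h1
  rw [← h1]
  constructor
  · intro h; rw [h, up_zero]
  · intro h; exact up_inj (h.trans up_zero.symm)

/-- conjugation by elements of `K ∩ N(V)` -/
theorem pk_conj {g : G} (hg : g ∈ K) (h : ent (φ ⟨g, hg⟩) 1 0 = 0) {a : G} (ha : a ∈ WW V (R i) ⊔ UU V R j) :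
    pk φ (g * a * g⁻¹) = ent (φ ⟨g, hg⟩) 0 0 ^ 2 * pk φ a := by
  apply pk_of kd (mul_mem (mul_mem hg (kd.S_le ha)) (inv_mem hg))
  rw [← conj_up h, ← pk_eq kd ha, ← map_inv, ← map_mul, ← map_mul]
  rfl

theorem S_conj {g : G} (hg : g ∈ K) (h : ent (φ ⟨g, hg⟩) 1 0 = 0) {a : G} (ha : a ∈ WW V (R i) ⊔ UU V R j) :
    g * a * g⁻¹ ∈ WW V (R i) ⊔ UU V R j := by
  have h1 : φ (⟨g, hg⟩ * ⟨a, kd.S_le ha⟩ * (⟨g, hg⟩ : K)⁻¹) = up (ent (φ ⟨g, hg⟩) 0 0 ^ 2 * pk φ a) := by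
    rw [← conj_up h, ← pk_eq kd ha, ← map_inv, ← map_mul, ← map_mul]
  exact (kd.mem_iff _).2 ⟨_, h1⟩

variable (b : BTC V R)
include b

theorem pk_surj (x : k) : ∃ a ∈ UU V R j, pk φ a = x := by
  obtain ⟨a, ha, h⟩ := kd.exists_U ((UU_le_cen j).trans (b.cen_le_NW i)) x
  exact ⟨a, ha, pk_of kd (kd.UK ha) (h _)⟩

/-- `A ∩ W = D` -/
theorem mem_D_iff {a : G} (ha : a ∈ UU V R j) : a ∈ WW V (R i) ↔ a ∈ DD V R := by
  rw [b.D_eq' kd.ne, mem_inf]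
  exact ⟨fun h => ⟨h, UU_le_WW j ha⟩, fun h => h.1⟩

theorem pk_eq_iff {a a' : G} (ha : a ∈ UU V R j) (ha' : a' ∈ UU V R j) :
    pk φ a = pk φ a' ↔ a'⁻¹ * a ∈ DD V R := by
  have h1 : a'⁻¹ * a ∈ WW V (R i) ⊔ UU V R j := mul_mem (inv_mem (le_sup_right (a := WW V (R i)) ha'))
    (le_sup_right (a := WW V (R i)) ha)
  rw [← mem_D_iff kd b (mul_mem (inv_mem ha') ha), ← pk_eq_zero kd h1,
    pk_mul kd (inv_mem (le_sup_right (a := WW V (R i)) ha')) (le_sup_right (a := WW V (R i)) ha),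
    pk_inv kd (le_sup_right (a := WW V (R i)) ha'), neg_add_eq_zero]
  exact eq_comm

end pk

section scalars

variable {G : Type u} [Group G] [Finite G] {ι : Type v} {V : Subgroup G} {R : ι → Subgroup G} {i j : ι} {k : Type w}
  [Field k] {K : Subgroup G} {φ : K →* Matrix.SpecialLinearGroup (Fin 2) k} {F : Type z} [Field F] [Finite F]
  [CharP F 2] {v : F → F → G} {w1 w2 : F → G} (b : BTC V R) (c : Coord V R i j v w1 w2) (kd : KD V R i j K φ)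
include b c kd

/-- every scalar is induced by `K ∩ N(V) ∩ N(R j)` -/
theorem exists_ent
    (NAe : ∀ g ∈ normalizer (R i : Set G), cj g (WW V (R i) ⊔ UU V R j) = WW V (R i) ⊔ UU V R j → cj g V = V)
    {l : k} (hl : l ≠ 0) : ∃ g ∈ KT V R j K, ∀ hg : g ∈ K, ent (φ ⟨g, hg⟩) 1 0 = 0 ∧ ent (φ ⟨g, hg⟩) 0 0 = l := by
  obtain ⟨g, hg⟩ := kd.surj (dg l hl)
  have hgV : (g : G) ∈ normalizer (V : Set G) := by
    rw [kd.mem_NV_iff b NAe, hg, dg_10]
  obtain ⟨j', hj'⟩ := b.perm g hgV j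
  have hgi : cj (g : G) (R i) = R i := cj_eq_self_iff.2 (kd.K_le_N g.2)
  have hne : j' ≠ i := by
    rintro rfl
    exact kd.ne (b.R_index (cj_injective (hgi.trans hj'.symm)))
  obtain ⟨m, hm, e⟩ := b.trans i hne kd.ne.symm
  have hmK := kd.WK hm
  have h1 : φ ⟨m, hmK⟩ = 1 := (kd.ker _).2 hm
  refine ⟨m * g, mem_inf.2 ⟨mul_mem hmK g.2, mem_inf.2 ⟨mul_mem (b.W_le_NV i hm) hgV, ?_⟩⟩, fun hK => ?_⟩
  · rw [← cj_eq_self_iff, cj_mul, hj', e]
  · have h2 : φ ⟨m * g, hK⟩ = dg l hl := by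
      have e1 : (⟨m * g, hK⟩ : K) = ⟨m, hmK⟩ * g := rfl
      rw [e1, map_mul, h1, one_mul, hg]
    rw [h2, dg_10, dg_00]
    exact ⟨rfl, rfl⟩

/-- `T` acts on `A / D` by scalars of `k` -/
theorem exists_scal
    (NAe : ∀ g ∈ normalizer (R i : Set G), cj g (WW V (R i) ⊔ UU V R j) = WW V (R i) ⊔ UU V R j → cj g V = V)
    {t : G} (ht : t ∈ XT V R i j) : ∃ κ : k, κ ≠ 0 ∧ ∀ a ∈ UU V R j, pk φ (t * a * t⁻¹) = κ * pk φ a := by
  classical
  have := kd.finite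
  have := kd.charP b
  obtain ⟨M, _, _, p1, p2, y⟩ := c.exists_yMod b.toBT
  have hconj : ∀ {g : G}, g ∈ XT V R i j → ∀ a ∈ UU V R j, g * a * g⁻¹ ∈ UU V R j := by
    intro g hg a ha
    have h1 := conj_mem_cj (g := g) ha
    rwa [b.cj_UU (b.X_le_NV hg.1) (cj_eq_self_iff.2 hg.2.2)] at h1
  have key : ∀ s : F, s ≠ 0 → ∃ g ∈ XT V R i j, ∀ a ∈ UU V R j, p2 (g * a * g⁻¹) = s • p2 a := by
    intro s hs
    have hs' := inv_ne_zero hs
    have hX := c.hh_mem_X b.toBT s⁻¹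
    have h1 := cj_eq_self_iff.1 (c.hh_R1 b.toBT hs')
    have h2 := cj_eq_self_iff.1 (c.hh_R2 b.toBT hs')
    refine ⟨hh w1 w2 s⁻¹, ⟨hX, h1, h2⟩, ?_⟩
    obtain ⟨e, he, hV, -, h4⟩ := Tor.exists_tor y b.toBT c hX h1 h2
    have h5 := (c.v_inj ((hV 1 0).symm.trans (c.hh_act hs' 1 0))).1
    rw [mul_one, mul_one] at h5
    intro a ha
    rw [(h4 a ha).2, h5, inv_inv]
  choose! τ hτ hτ2 using key
  choose u hu hu2 using pk_surj kd b
  have hpk : ∀ {a a' : G}, a ∈ UU V R j → a' ∈ UU V R j → p2 a = p2 a' → pk φ a = pk φ a' := by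
    intro a a' ha ha' h
    rw [pk_eq_iff kd b ha ha', ← y.p2_eq_iff ha ha']
    exact h
  have hpk' : ∀ {a a' : G}, a ∈ UU V R j → a' ∈ UU V R j → pk φ a = pk φ a' → p2 a = p2 a' := by
    intro a a' ha ha' h
    rw [y.p2_eq_iff ha ha', ← pk_eq_iff kd b ha ha']
    exact h
  have hS : UU V R j ≤ WW V (R i) ⊔ UU V R j := le_sup_right
  let f : F → k → k := fun s x => if s = 0 then 0 else pk φ (τ s * u x * (τ s)⁻¹)
  have hf : ∀ s, s ≠ 0 → ∀ a ∈ UU V R j, f s (pk φ a) = pk φ (τ s * a * (τ s)⁻¹) := by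
    intro s hs a ha
    have h1 : f s (pk φ a) = pk φ (τ s * u (pk φ a) * (τ s)⁻¹) := if_neg hs
    rw [h1]
    refine hpk (hconj (hτ s hs) _ (hu _)) (hconj (hτ s hs) _ ha) ?_
    rw [hτ2 s hs _ (hu _), hτ2 s hs _ ha, hpk' (hu _) ha (hu2 _)]
  have h0 : ∀ s, f s 0 = 0 := by
    intro s
    by_cases hs : s = 0
    · exact if_pos hs
    · have h1 := hf s hs 1 (one_mem _)
      rw [(pk_eq_zero kd (hS (one_mem _))).2 (one_mem _)] at h1
      rw [h1, mul_one, mul_inv_cancel]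
      exact (pk_eq_zero kd (hS (one_mem _))).2 (one_mem _)
  have h1 : ∀ x, f 1 x = x := by
    intro x
    rw [← hu2 x, hf 1 one_ne_zero _ (hu x)]
    refine hpk (hconj (hτ 1 one_ne_zero) _ (hu _)) (hu x) ?_
    rw [hτ2 1 one_ne_zero _ (hu _), one_smul]
  have hadd : ∀ s s' : F, s ≠ 0 → s' ≠ 0 → s + s' ≠ 0 → ∀ x, f (s + s') x = f s x + f s' x := by
    intro s s' hs hs' hss x
    rw [← hu2 x, hf _ hss _ (hu x), hf _ hs _ (hu x), hf _ hs' _ (hu x),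
      ← pk_mul kd (hS (hconj (hτ s hs) _ (hu x))) (hS (hconj (hτ s' hs') _ (hu x)))]
    refine hpk (hconj (hτ _ hss) _ (hu _)) (mul_mem (hconj (hτ s hs) _ (hu x)) (hconj (hτ s' hs') _ (hu x))) ?_
    rw [hτ2 _ hss _ (hu _), y.mul2 _ (hconj (hτ s hs) _ (hu x)) _ (hconj (hτ s' hs') _ (hu x)),
      hτ2 _ hs _ (hu _), hτ2 _ hs' _ (hu _), add_smul]
  have hgU : ∀ {g : G}, g ∈ KT V R j K → ∀ a ∈ UU V R j, g * a * g⁻¹ ∈ UU V R j := by
    intro g hg a ha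
    have h1 := conj_mem_cj (g := g) ha
    rwa [b.cj_UU hg.2.1 (cj_eq_self_iff.2 hg.2.2)] at h1
  have hsq : ∀ m : k, ∃ r, r ^ 2 = m := exists_sqrt
  have hsemi : ∀ s, s ≠ 0 → ∀ m : k, m ≠ 0 → ∃ n : k, ∀ x, f s (m * x) = n * f s x := by
    intro s hs m hm
    obtain ⟨r, hr⟩ := hsq m
    have hr0 : r ≠ 0 := by
      rintro rfl
      exact hm (by rw [← hr]; ring)
    obtain ⟨g, hg, hg2⟩ := exists_ent b c kd NAe hr0
    obtain ⟨e10, e00⟩ := hg2 hg.1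
    have hg' : τ s * g * (τ s)⁻¹ ∈ KT V R j K := conj_mem_of_normalizer (XT_NKT b kd (hτ s hs)) hg
    have e10' : ent (φ ⟨_, hg'.1⟩) 1 0 = 0 :=
      kd.ent_of_mem b ⟨_, hg'.1⟩ (kd.S_normal b (kd.K_le_N hg'.1) hg'.2.1)
    refine ⟨ent (φ ⟨_, hg'.1⟩) 0 0 ^ 2, fun x => ?_⟩
    have h2 : m * x = pk φ (g * u x * g⁻¹) := by
      rw [pk_conj kd hg.1 e10 (hS (hu x)), e00, hr, hu2]
    rw [h2, hf s hs _ (hgU hg _ (hu x))]
    nth_rewrite 2 [← hu2 x]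
    rw [hf s hs _ (hu x), ← pk_conj kd hg'.1 e10' (hS (hconj (hτ s hs) _ (hu x)))]
    congr 1
    group
  obtain ⟨e, he, -, -, h4⟩ := Tor.exists_tor y b.toBT c ht.1 ht.2.1 ht.2.2
  have he' := inv_ne_zero he
  have hsc := fun x => scal (f := f) h0 h1 hadd hsemi he' x
  refine ⟨f e⁻¹ 1, fun hz => ?_, fun a ha => ?_⟩
  · have h2 := hsc 1
    have h3 : ∀ x, f e⁻¹ x = 0 := fun x => by rw [hsc, hz, zero_mul]
    have h5 := h3 1
    rw [← hu2 1, hf _ he' _ (hu 1)] at h5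
    have h6 : pk φ (τ e⁻¹ * u 1 * (τ e⁻¹)⁻¹) = pk φ 1 := by
      rw [h5, (pk_eq_zero kd (hS (one_mem _))).2 (one_mem _)]
    have h7 := hpk' (hconj (hτ _ he') _ (hu 1)) (one_mem _) h6
    rw [hτ2 _ he' _ (hu 1), (y.ker2 1 (one_mem _)).2 (one_mem _)] at h7
    have h8 := (smul_eq_zero.1 h7).resolve_left he'
    have h9 : pk φ (u 1) = pk φ 1 := hpk (hu 1) (one_mem _) (by
      rw [h8, (y.ker2 1 (one_mem _)).2 (one_mem _)])
    rw [hu2, (pk_eq_zero kd (hS (one_mem _))).2 (one_mem _)] at h9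
    exact one_ne_zero h9
  · rw [← hsc, hf _ he' _ ha]
    refine hpk (h4 a ha).1 (hconj (hτ _ he') _ ha) ?_
    rw [(h4 a ha).2, hτ2 _ he' _ ha]

end scalars

end Cfsg.Agent.Omega.SQEnd
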