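import Cfsg.Agent.Mrg.Omega.SQEnd.Line
import Cfsg.Agent.Mrg.Omega.SQEnd.KTor
import Cfsg.Agent.Mrg.Omega.BTwo.Mod
import Cfsg.Agent.Mrg.Omega.SQEnd.KBase
import Cfsg.Agent.Mrg.Omega.Hex.OfCoord

section


/-!
# The end of `b = 2` without modules (bb OMEGA #12947, (E2)-(E5))

`Cfg`: `D ∩ D^w = R`, `U = (D^w ∩ U) D`, `|D / V| = |U / D|`.
-/

set_option autoImplicit false
set_option linter.unusedSimpArgs false

universe u

namespace Cfsg.Agent.Omega.SQEnd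

open Subgroup Cfsg.Agent.Omega.BTwo

variable {G : Type u} [Group G]

/-- elements of `N(H)` centralising `x` modulo `H` -/
def St (H : Subgroup G) (x : G) : Subgroup G where
  carrier := {g | g ∈ normalizer (H : Set G) ∧ g * x * g⁻¹ * x⁻¹ ∈ H}
  one_mem' := ⟨one_mem _, by simp⟩
  mul_mem' := by
    rintro a b ⟨ha, ha'⟩ ⟨hb, hb'⟩
    refine ⟨mul_mem ha hb, ?_⟩
    have e : a * b * x * (a * b)⁻¹ * x⁻¹ = a * (b * x * b⁻¹ * x⁻¹) * a⁻¹ * (a * x * a⁻¹ * x⁻¹) := by group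
    rw [e]
    exact mul_mem (conj_mem_of_normalizer ha hb') ha'
  inv_mem' := by
    rintro a ⟨ha, ha'⟩
    refine ⟨inv_mem ha, ?_⟩
    have e : a⁻¹ * x * a⁻¹⁻¹ * x⁻¹ = a⁻¹ * (a * x * a⁻¹ * x⁻¹)⁻¹ * a := by group
    rw [e]
    exact conj_inv_mem_of_normalizer ha (inv_mem ha')

theorem mem_St {H : Subgroup G} {x g : G} :
    g ∈ St H x ↔ g ∈ normalizer (H : Set G) ∧ g * x * g⁻¹ * x⁻¹ ∈ H := Iff.rfl

theorem mem_of_mul_self_mem {H : Subgroup G} {z : G} (hz : Odd (orderOf z)) (h : z * z ∈ H) : z ∈ H := by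
  obtain ⟨k, hk⟩ := hz
  have e : z = (z * z) ^ (k + 1) := by
    have h1 : z ^ (2 * k + 1) = 1 := by rw [← hk]; exact pow_orderOf_eq_one z
    rw [← pow_two, ← pow_mul]
    have h2 : 2 * (k + 1) = (2 * k + 1) + 1 := by ring
    rw [h2, pow_add, h1, one_mul, pow_one]
  rw [e]
  exact pow_mem h _

theorem relIndex_eq_of_cov {H K M : Subgroup G} (hHM : H ≤ M) (h : ∀ m ∈ M, ∃ x ∈ H, x⁻¹ * m ∈ K) :
    K.relIndex M = K.relIndex H := by
  change Nat.card (M ⧸ K.subgroupOf M) = Nat.card (H ⧸ K.subgroupOf H)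
  refine (Nat.card_congr (Equiv.ofBijective (quotientSubgroupOfEmbeddingOfLE K hHM)
    ⟨(quotientSubgroupOfEmbeddingOfLE K hHM).injective, ?_⟩)).symm
  intro q
  induction q using QuotientGroup.induction_on with
  | H m =>
    obtain ⟨x, hx, hxm⟩ := h m m.2
    refine ⟨QuotientGroup.mk ⟨x, hx⟩, ?_⟩
    rw [quotientSubgroupOfEmbeddingOfLE_apply_mk]
    exact QuotientGroup.eq.2 hxm

theorem comm_of_comm_eq {v m n : G} (h : v * m * v⁻¹ * m⁻¹ = v * n * v⁻¹ * n⁻¹) :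
    v * (m⁻¹ * n) = m⁻¹ * n * v := by
  have e : v * (m⁻¹ * n) = m⁻¹ * (v * m * v⁻¹ * m⁻¹)⁻¹ * (v * n * v⁻¹ * n⁻¹) * n * v := by group
  rw [e, h]; group

namespace Cfg

variable {R W V U D A K L C Z T : Subgroup G} {w : G}

section
variable (h : Cfg R W V U D A K L C Z T w)
include h

theorem W_comm_R {x r : G} (hx : x ∈ W) (hr : r ∈ R) : x * r = r * x := h.KR x (h.WK hx) r hr

theorem w_R : w ∈ normalizer (R : Set G) := by
  rw [← cj_eq_self_iff]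
  ext x
  rw [mem_cj]
  constructor
  · intro hx
    have := h.KR w h.wK _ hx
    have e : x = w⁻¹ * x * w := by
      calc x = w * (w⁻¹ * x * w) * w⁻¹ := by group
        _ = w⁻¹ * x * w * w * w⁻¹ := by rw [this]
        _ = w⁻¹ * x * w := by group
    rw [e]; exact hx
  · intro hx
    have := h.KR w h.wK _ hx
    have e : w⁻¹ * x * w = x := by rw [mul_assoc, ← this]; group
    rw [e]; exact hx

theorem w_W : w ∈ normalizer (W : Set G) := h.KW h.wK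

theorem ln' : Ln R W (cj w V) (cj w U) (cj w D) (cj w A) := h.toLn.cj h.w_R h.w_W

theorem R_of {x : G} (hx : w⁻¹ * x * w ∈ R) : x ∈ R := by
  have := conj_mem_of_normalizer h.w_R hx
  have e : w * (w⁻¹ * x * w) * w⁻¹ = x := by group
  rwa [e] at this

theorem of_R {x : G} (hx : x ∈ R) : w⁻¹ * x * w ∈ R := conj_inv_mem_of_normalizer h.w_R hx

theorem W_of {x : G} (hx : w⁻¹ * x * w ∈ W) : x ∈ W := by
  have := conj_mem_of_normalizer h.w_W hx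
  have e : w * (w⁻¹ * x * w) * w⁻¹ = x := by group
  rwa [e] at this

theorem of_W {x : G} (hx : x ∈ W) : w⁻¹ * x * w ∈ W := conj_inv_mem_of_normalizer h.w_W hx

theorem cj_cj_V : BTwo.cj w (BTwo.cj w V) = V := by
  ext x
  rw [mem_cj, mem_cj]
  have hn := h.WV h.w2
  constructor
  · intro hx
    have := conj_mem_of_normalizer hn hx
    have e : w * w * (w⁻¹ * (w⁻¹ * x * w) * w) * (w * w)⁻¹ = x := by group
    rwa [e] at this
  · intro hx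
    have := conj_inv_mem_of_normalizer hn hx
    have e : (w * w)⁻¹ * x * (w * w) = w⁻¹ * (w⁻¹ * x * w) * w := by group
    rwa [e] at this

theorem opp' {x : G} (hx : x ∈ V) (hx' : x ∈ BTwo.cj w U) : x ∈ R := by
  refine h.R_of (h.opp _ (mem_cj.1 hx') ?_)
  rw [← mem_cj, h.cj_cj_V]; exact hx

theorem cov' {m : G} (hm : m ∈ W) : ∃ x ∈ V, x⁻¹ * m ∈ BTwo.cj w U := by
  obtain ⟨x, hx, hxm⟩ := h.cov _ (h.of_W hm)
  refine ⟨w * x * w⁻¹, ?_, ?_⟩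
  · rw [← h.cj_cj_V]; exact conj_mem_cj hx
  · rw [mem_cj]
    have e : w⁻¹ * ((w * x * w⁻¹)⁻¹ * m) * w = x⁻¹ * (w⁻¹ * m * w) := by group
    rw [e]; exact hxm

theorem norm_cj {S : Subgroup G} (hS : L ≤ normalizer (S : Set G)) : L ≤ normalizer (BTwo.cj w S : Set G) := by
  intro g hg
  rw [normalizer_cj, mem_cj]
  exact hS (h.wL' g hg)

/-- `R ≤ S ≤ W`: `S ⊴ W` -/
theorem conj_mem {S : Subgroup G} (hRS : R ≤ S) (hSW : S ≤ W) {x s : G} (hx : x ∈ W) (hs : s ∈ S) :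
    x * s * x⁻¹ ∈ S := by
  have e : x * s * x⁻¹ = (x * s * x⁻¹ * s⁻¹) * s := by group
  rw [e]
  exact mul_mem (hRS (h.WW _ hx _ (hSW hs))) hs

/-- `[x, y a]` modulo `R` for `x, y ∈ W` and `a ∈ A^g` -/
theorem comm_mul_left {x y a : G} (hx : x ∈ W) (hy : y ∈ W) (ha : x * a * x⁻¹ * a⁻¹ ∈ W) :
    ∃ r ∈ R, x * (y * a) * x⁻¹ * (y * a)⁻¹ = r * (x * a * x⁻¹ * a⁻¹) :=
  ⟨_, mul_mem (h.WW _ hx _ hy) (h.WW _ hy _ ha), by group⟩

theorem tw {t c z : G} (hc : c ∈ C) (hz : z ∈ Z) (htc : t = c * z) : w * t * w⁻¹ = c⁻¹ * z := by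
  have e : w * t * w⁻¹ = (w * c * w⁻¹) * (w * z * w⁻¹) := by rw [htc]; group
  rw [e, h.wC c hc, h.wZ z hz]

theorem tww {t c z : G} (hc : c ∈ C) (hz : z ∈ Z) (htc : t = c * z) : w * (w * t * w⁻¹) * w⁻¹ = t := by
  rw [h.tw hc hz htc]
  have e : w * (c⁻¹ * z) * w⁻¹ = (w * c⁻¹ * w⁻¹) * (w * z * w⁻¹) := by group
  rw [e, h.wC _ (inv_mem hc), h.wZ z hz, inv_inv, htc]

theorem z_sq {t c z : G} (hc : c ∈ C) (hz : z ∈ Z) (htc : t = c * z) : t * (w * t * w⁻¹) = z * z := by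
  rw [h.tw hc hz htc, htc]
  have e : z * c⁻¹ = c⁻¹ * z := h.L_comm _ (h.ZL hz) _ (inv_mem (h.CL hc))
  calc c * z * (c⁻¹ * z) = c * (z * c⁻¹) * z := by group
    _ = z * z := by rw [e]; group

/-- the action on `R` -/
theorem act_R {t c z r : G} (hc : c ∈ C) (hz : z ∈ Z) (htc : t = c * z) (hr : r ∈ R) :
    t * r * t⁻¹ = z * r * z⁻¹ ∧ (w * t * w⁻¹) * r * (w * t * w⁻¹)⁻¹ = z * r * z⁻¹ := by
  have hzr : z * r * z⁻¹ ∈ R := conj_mem_of_normalizer (h.LR (h.ZL hz)) hr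
  constructor
  · have := h.KR c (h.CK hc) _ hzr
    calc t * r * t⁻¹ = c * (z * r * z⁻¹) * c⁻¹ := by rw [htc]; group
      _ = z * r * z⁻¹ := by rw [this]; group
  · have := h.KR _ (h.CK (inv_mem hc)) _ hzr
    calc (w * t * w⁻¹) * r * (w * t * w⁻¹)⁻¹ = c⁻¹ * (z * r * z⁻¹) * c⁻¹⁻¹ := by
          rw [h.tw hc hz htc]; group
      _ = z * r * z⁻¹ := by rw [this]; group

/-- an element of `Z` centralising `x` modulo `R` centralises `[x, a]` modulo `R` -/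
theorem z_comm {z x a : G} (hz : z ∈ Z) (hx : x ∈ W) (ha : a ∈ K)
    (hzx : z * x * z⁻¹ * x⁻¹ ∈ R) : z * (x * a * x⁻¹ * a⁻¹) * z⁻¹ * (x * a * x⁻¹ * a⁻¹)⁻¹ ∈ R := by
  have haW : x * a * x⁻¹ * a⁻¹ ∈ W := by
    have e : x * a * x⁻¹ * a⁻¹ = x * (a * x⁻¹ * a⁻¹) := by group
    rw [e]
    exact mul_mem hx (conj_mem_of_normalizer (h.KW ha) (inv_mem hx))
  have hy := h.ZK z hz a ha
  obtain ⟨r, hr, e⟩ := h.comm_mul_left hx hy haW
  have e1 : z * a * z⁻¹ * a⁻¹ * a = z * a * z⁻¹ := by group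
  rw [e1] at e
  have hza : z * a * z⁻¹ ∈ K := by
    rw [← e1]; exact mul_mem (h.WK hy) ha
  have hc := h.KR _ hza _ hzx
  have e2 : z * (x * a * x⁻¹ * a⁻¹) * z⁻¹ = x * (z * a * z⁻¹) * x⁻¹ * (z * a * z⁻¹)⁻¹ := by
    calc z * (x * a * x⁻¹ * a⁻¹) * z⁻¹ =
        (z * x * z⁻¹ * x⁻¹) * x * (z * a * z⁻¹) * x⁻¹ * ((z * x * z⁻¹ * x⁻¹)⁻¹ * (z * a * z⁻¹)⁻¹) := by group
      _ = (z * x * z⁻¹ * x⁻¹) * x * (z * a * z⁻¹) * x⁻¹ * ((z * a * z⁻¹)⁻¹ * (z * x * z⁻¹ * x⁻¹)⁻¹) := by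
          rw [← mul_inv_rev, ← mul_inv_rev, hc]
      _ = (z * x * z⁻¹ * x⁻¹) * (x * (z * a * z⁻¹) * x⁻¹ * (z * a * z⁻¹)⁻¹) * (z * x * z⁻¹ * x⁻¹)⁻¹ := by group
      _ = x * (z * a * z⁻¹) * x⁻¹ * (z * a * z⁻¹)⁻¹ := by
          rw [e]
          have h3 := h.W_comm_R (mul_mem (h.RW hr) haW) hzx
          rw [← h3]; group
  rw [e2, e]
  have e3 : r * (x * a * x⁻¹ * a⁻¹) * (x * a * x⁻¹ * a⁻¹)⁻¹ = r := by group
  rw [e3]; exact hr

/-- **(E2)** `D ∩ D^w = R` -/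
theorem E2 : D ⊓ BTwo.cj w D ≤ R := by
  rintro x ⟨hx, hx'⟩
  by_contra hxR
  obtain ⟨t, ht, ht1⟩ := h.T_ne
  obtain ⟨c, hc, z, hz, htc⟩ := h.dec t ht
  have hxW : x ∈ W := h.DW hx
  have htL := h.TL ht
  have hzL := h.ZL hz
  have hsL : w * t * w⁻¹ ∈ L := h.wL t htL
  have l' := h.ln'
  -- `t` and `t^w` centralise `x` modulo `R`
  have h1 : t ∈ St R x := by
    refine ⟨h.LR htL, h.opp' (h.t3 t ht x hx) (l'.DU ?_)⟩
    have e : t * x * t⁻¹ * x⁻¹ = (t * x * t⁻¹) * x⁻¹ := rfl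
    rw [e]
    exact mul_mem (conj_mem_of_normalizer (h.norm_cj h.LD htL) hx') (inv_mem hx')
  have h2 : w * t * w⁻¹ ∈ St R x := by
    refine ⟨h.LR hsL, h.opp _ (h.DU ?_) ?_⟩
    · exact mul_mem (conj_mem_of_normalizer (h.LD hsL) hx) (inv_mem hx)
    · rw [mem_cj]
      have e : w⁻¹ * ((w * t * w⁻¹) * x * (w * t * w⁻¹)⁻¹ * x⁻¹) * w =
        t * (w⁻¹ * x * w) * t⁻¹ * (w⁻¹ * x * w)⁻¹ := by group
      rw [e]
      exact h.t3 t ht _ (mem_cj.1 hx')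
  have h3 : z ∈ St R x := by
    refine mem_of_mul_self_mem (h.L_odd z hzL) ?_
    rw [← h.z_sq hc hz htc]
    exact mul_mem h1 h2
  -- `[x, a]` and `[x, a']`
  have h4 : ∃ a ∈ A, x * a * x⁻¹ * a⁻¹ ∉ R := by
    by_contra hcon
    push Not at hcon
    exact hxR (h.opp' (h.DAR x hx hcon) (l'.DU hx'))
  have h5 : ∃ a ∈ BTwo.cj w A, x * a * x⁻¹ * a⁻¹ ∉ R := by
    by_contra hcon
    push Not at hcon
    exact hxR (h.opp x (h.DU hx) (l'.DAR x hx' hcon))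
  obtain ⟨a, ha, hva⟩ := h4
  obtain ⟨a', ha', hva'⟩ := h5
  have haK : a ∈ K := h.AK ha
  have haK' : a' ∈ K := by
    have := h.AK (mem_cj.1 ha')
    have e : a' = w * (w⁻¹ * a' * w) * w⁻¹ := by group
    rw [e]; exact mul_mem (mul_mem h.wK this) (inv_mem h.wK)
  have hv := h.DA x hx a ha
  have hv' := l'.DA x hx' a' ha'
  have hz1 := h.z_comm hz hxW haK h3.2
  have hz2 := h.z_comm hz hxW haK' h3.2
  set v := x * a * x⁻¹ * a⁻¹ with hvdef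
  set v' := x * a' * x⁻¹ * a'⁻¹ with hvdef'
  have hvW : v ∈ W := h.VW hv
  have hvW' : v' ∈ W := l'.VW hv'
  have hr0 : v * v' * v⁻¹ * v'⁻¹ ∈ R := h.WW _ hvW _ hvW'
  have hz0 : z * (v * v' * v⁻¹ * v'⁻¹) * z⁻¹ = v * v' * v⁻¹ * v'⁻¹ := by
    have c1 := h.W_comm_R hvW hz2
    have c2 := h.W_comm_R hvW' hz1
    have c3 := h.W_comm_R (h.RW hz1) hz2
    have c4 := h.W_comm_R (mul_mem hvW hvW') hz1
    generalize hρ : z * v * z⁻¹ * v⁻¹ = ρ at *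
    generalize hρ' : z * v' * z⁻¹ * v'⁻¹ = ρ' at *
    have e1 : z * v * z⁻¹ = ρ * v := by rw [← hρ]; group
    have e2 : z * v' * z⁻¹ = ρ' * v' := by rw [← hρ']; group
    have c1' : Commute v ρ' := c1
    have c2' : Commute v' ρ := c2
    have c3' : Commute ρ ρ' := c3
    calc z * (v * v' * v⁻¹ * v'⁻¹) * z⁻¹ =
        (z * v * z⁻¹) * (z * v' * z⁻¹) * (z * v * z⁻¹)⁻¹ * (z * v' * z⁻¹)⁻¹ := by group
      _ = ρ * v * (ρ' * v') * (ρ * v)⁻¹ * (ρ' * v')⁻¹ := by rw [e1, e2]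
      _ = ρ * (v * ρ') * v' * v⁻¹ * ρ⁻¹ * v'⁻¹ * ρ'⁻¹ := by group
      _ = ρ * ρ' * (v * v' * v⁻¹) * (ρ⁻¹ * v'⁻¹) * ρ'⁻¹ := by rw [c1]; group
      _ = ρ * ρ' * (v * v' * v⁻¹) * (v'⁻¹ * ρ⁻¹) * ρ'⁻¹ := by rw [← mul_inv_rev, ← mul_inv_rev, c2]
      _ = (ρ * ρ') * (v * v' * v⁻¹ * v'⁻¹) * (ρ * ρ')⁻¹ := by rw [c3]; group
      _ = v * v' * v⁻¹ * v'⁻¹ := by
          have c5 := h.W_comm_R (h.RW hr0) (mul_mem hz1 hz2)
          rw [← c5]; group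
  have ht0 : t * (v * v' * v⁻¹ * v'⁻¹) * t⁻¹ = v * v' * v⁻¹ * v'⁻¹ := by
    rw [(h.act_R hc hz htc hr0).1, hz0]
  have hone := h.t1 t ht ht1 _ hr0 ht0
  have hcomm : v' * v = v * v' := by
    calc v' * v = (v * v' * v⁻¹ * v'⁻¹) * (v' * v) := by rw [hone, one_mul]
      _ = v * v' := by group
  exact hva' (h.opp _ (h.cen v hv hva v' hvW' hcomm) hv')

/-- `t5` for `V^w` -/
theorem t5w {t x m : G} (ht : t ∈ T) (hx : x ∈ BTwo.cj w V) (hm : m ∈ W) :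
    (w * t * w⁻¹) * (x * m * x⁻¹ * m⁻¹) * (w * t * w⁻¹)⁻¹ =
      ((w * t * w⁻¹)⁻¹ * x * (w * t * w⁻¹)) * m * ((w * t * w⁻¹)⁻¹ * x * (w * t * w⁻¹))⁻¹ * m⁻¹ := by
  have h1 := h.t5 t ht _ (mem_cj.1 hx) _ (h.of_W hm)
  calc (w * t * w⁻¹) * (x * m * x⁻¹ * m⁻¹) * (w * t * w⁻¹)⁻¹ =
      w * (t * ((w⁻¹ * x * w) * (w⁻¹ * m * w) * (w⁻¹ * x * w)⁻¹ * (w⁻¹ * m * w)⁻¹) * t⁻¹) * w⁻¹ := by group
    _ = _ := by rw [h1]; group

/-- **(E3')** `(t^w)² t` centralises `V^w / R` -/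
theorem E3 {t x : G} (ht : t ∈ T) (hx : x ∈ BTwo.cj w V) :
    (w * t * w⁻¹) * (w * t * w⁻¹) * t ∈ St R x := by
  obtain ⟨c, hc, z, hz, htc⟩ := h.dec t ht
  have htL := h.TL ht
  have hsL : w * t * w⁻¹ ∈ L := h.wL t htL
  have l' := h.ln'
  refine ⟨h.LR (mul_mem (mul_mem hsL hsL) htL), ?_⟩
  by_cases hV : V ≤ R
  · have hxR : x ∈ R := h.R_of (hV (mem_cj.1 hx))
    exact mul_mem (conj_mem_of_normalizer (h.LR (mul_mem (mul_mem hsL hsL) htL)) hxR) (inv_mem hxR)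
  obtain ⟨v, hv, hvR⟩ := SetLike.not_le_iff_exists.1 hV
  have hxW : x ∈ W := l'.VW hx
  have hvW : v ∈ W := h.VW hv
  have hT : ∀ r ∈ R, t * r * t⁻¹ = z * r * z⁻¹ ∧ (w * t * w⁻¹) * r * (w * t * w⁻¹)⁻¹ = z * r * z⁻¹ :=
    fun r hr => h.act_R hc hz htc hr
  have h5w : ∀ x ∈ BTwo.cj w V, ∀ m ∈ W, _ := fun x hx m hm => h.t5w ht hx hm
  generalize w * t * w⁻¹ = s at *
  have htx : t * x * t⁻¹ ∈ BTwo.cj w V := conj_mem_of_normalizer (h.norm_cj h.LV htL) hx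
  have hstx : s * (t * x * t⁻¹) * s⁻¹ ∈ BTwo.cj w V := conj_mem_of_normalizer (h.norm_cj h.LV hsL) htx
  have hsx : s⁻¹ * x * s ∈ BTwo.cj w V := conj_inv_mem_of_normalizer (h.norm_cj h.LV hsL) hx
  have htv : t * v * t⁻¹ ∈ V := conj_mem_of_normalizer (h.LV htL) hv
  -- `(ii)`
  have ii : ∀ v₀ ∈ W, ∀ x₀ ∈ BTwo.cj w V, t * (v₀ * x₀ * v₀⁻¹ * x₀⁻¹) * t⁻¹ =
      v₀ * (s⁻¹ * x₀ * s) * v₀⁻¹ * (s⁻¹ * x₀ * s)⁻¹ := by
    intro v₀ hv₀ x₀ hx₀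
    have h1 := h5w x₀ hx₀ v₀ hv₀
    have hr := h.WW _ hv₀ _ (l'.VW hx₀)
    rw [(hT _ hr).1, ← (hT _ hr).2]
    calc s * (v₀ * x₀ * v₀⁻¹ * x₀⁻¹) * s⁻¹ = (s * (x₀ * v₀ * x₀⁻¹ * v₀⁻¹) * s⁻¹)⁻¹ := by group
      _ = _ := by rw [h1]; group
  have e1 := h.t5 t ht _ htv _ (l'.VW hstx)
  have e2 := ii _ (h.VW htv) _ hstx
  have e4 := ii _ hvW _ hx
  have e5 : v * (s * (t * x * t⁻¹) * s⁻¹) * v⁻¹ * (s * (t * x * t⁻¹) * s⁻¹)⁻¹ =
      v * (s⁻¹ * x * s) * v⁻¹ * (s⁻¹ * x * s)⁻¹ := by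
    have e6 : t⁻¹ * (t * v * t⁻¹) * t = v := by group
    rw [e6] at e1
    rw [← e1, e2, ← e4]
    group
  have e7 := comm_of_comm_eq e5
  have e8 : (s * (t * x * t⁻¹) * s⁻¹)⁻¹ * (s⁻¹ * x * s) ∈ R := by
    refine h.opp _ (h.cen v hv hvR _ (l'.VW ?_) e7.symm) ?_ <;>
    exact mul_mem (inv_mem hstx) hsx
  have e9 := conj_mem_of_normalizer (h.LR hsL) e8
  have hg := h.LR (mul_mem (mul_mem hsL hsL) htL)
  have e10 : s * ((s * (t * x * t⁻¹) * s⁻¹)⁻¹ * (s⁻¹ * x * s)) * s⁻¹ =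
      (s * s * t * x * (s * s * t)⁻¹)⁻¹ * x := by
    simp only [mul_inv_rev, inv_inv, mul_assoc, mul_inv_cancel_left, inv_mul_cancel_left, mul_inv_cancel,
    inv_mul_cancel, mul_one, one_mul]
  rw [e10] at e9
  have e11 : s * s * t * x * (s * s * t)⁻¹ * x⁻¹ =
      x * ((s * s * t * x * (s * s * t)⁻¹)⁻¹ * x)⁻¹ * x⁻¹ := by
    simp only [mul_inv_rev, inv_inv, mul_assoc, mul_inv_cancel_left, inv_mul_cancel_left, mul_inv_cancel,
    inv_mul_cancel, mul_one, one_mul]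
  rw [e11, h.W_comm_R hxW (inv_mem e9)]
  have e12 : ((s * s * t * x * (s * s * t)⁻¹)⁻¹ * x)⁻¹ * x * x⁻¹ =
    ((s * s * t * x * (s * s * t)⁻¹)⁻¹ * x)⁻¹ := by group
  rw [e12]
  exact inv_mem e9

/-- **(E5)** `t^w` centralises `U / D` -/
theorem E5 (hV : ¬ V ≤ R) {t u : G} (ht : t ∈ T) (hu : u ∈ U) : w * t * w⁻¹ ∈ St D u := by
  obtain ⟨c, hc, z, hz, htc⟩ := h.dec t ht
  have htL := h.TL ht
  have hsL : w * t * w⁻¹ ∈ L := h.wL t htL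
  have hzL := h.ZL hz
  have l' := h.ln'
  obtain ⟨v, hv, hvR⟩ := SetLike.not_le_iff_exists.1 hV
  -- `x ∈ V^w`
  have hx : w * v * w⁻¹ ∈ BTwo.cj w V := conj_mem_cj hv
  have hxR : w * v * w⁻¹ ∉ R := fun h' => hvR (by
    have := h.of_R h'
    have e : w⁻¹ * (w * v * w⁻¹) * w = v := by group
    rwa [e] at this)
  generalize w * v * w⁻¹ = x at hx hxR
  have hxW : x ∈ W := l'.VW hx
  have hxU : x ∉ U := fun h' => hxR (h.opp x h' hx)
  have hzs := h.z_sq hc hz htc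
  have hE3 := (h.E3 ht hx).2
  refine mem_of_mul_self_mem (h.L_odd _ hsL) ⟨h.LD (mul_mem hsL hsL), ?_⟩
  generalize w * t * w⁻¹ = s at *
  have hst : s * t = t * s := h.L_comm _ hsL _ htL
  obtain ⟨a, ha, hau⟩ := h.surj x hxW hxU u hu
  have haK := h.AK ha
  have ht4 : ∀ a ∈ A, (x * (t⁻¹ * a * t) * x⁻¹ * (t⁻¹ * a * t)⁻¹)⁻¹ * (t * (x * a * x⁻¹ * a⁻¹) * t⁻¹) ∈ D :=
    fun a ha => h.t4 t ht x hxW a ha
  -- `W`-membership of commutators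
  have hcW : ∀ y ∈ W, ∀ a ∈ A, y * a * y⁻¹ * a⁻¹ ∈ W := by
    intro y hy a ha
    have e : y * a * y⁻¹ * a⁻¹ = y * (a * y⁻¹ * a⁻¹) := by group
    rw [e]
    exact mul_mem hy (conj_mem_of_normalizer (h.AW ha) (inv_mem hy))
  -- `y = t x t⁻¹`
  have hyW : t * x * t⁻¹ ∈ W := conj_mem_of_normalizer (h.LW htL) hxW
  -- `z⁴ [x, a] ≡ [y, a]` modulo `R`
  have hA1 : ∃ r ∈ R, (z * z * (z * z)) * (x * a * x⁻¹ * a⁻¹) * (z * z * (z * z))⁻¹ =
      r * ((t * x * t⁻¹) * a * (t * x * t⁻¹)⁻¹ * a⁻¹) := by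
    have hz4 : z * z * (z * z) ∈ Z := mul_mem (mul_mem hz hz) (mul_mem hz hz)
    have hya := h.ZK _ hz4 a haK
    -- `z⁴ x = r₁ y`
    have e1 : (z * z * (z * z)) * x * (z * z * (z * z))⁻¹ =
        (t * (s * s * t * x * (s * s * t)⁻¹ * x⁻¹) * t⁻¹) * (t * x * t⁻¹) := by
      have e2 : z * z * (z * z) = t * (s * s * t) := by
        rw [← hzs]
        calc t * s * (t * s) = t * (s * t) * s := by group
          _ = t * (t * s) * s := by rw [hst]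
          _ = t * (t * s * s) := by group
          _ = t * (s * t * s) := by rw [hst]
          _ = t * (s * (t * s)) := by group
          _ = t * (s * s * t) := by rw [← hst]; group
      rw [e2]; group
    have hr1 : t * (s * s * t * x * (s * s * t)⁻¹ * x⁻¹) * t⁻¹ ∈ R := conj_mem_of_normalizer (h.LR htL) hE3
    generalize t * (s * s * t * x * (s * s * t)⁻¹ * x⁻¹) * t⁻¹ = r₁ at e1 hr1
    generalize hζ : z * z * (z * z) = ζ at *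
    obtain ⟨r₂, hr₂, e3⟩ := h.comm_mul_left hyW hya (hcW _ hyW a ha)
    have e4 : ζ * a * ζ⁻¹ * a⁻¹ * a = ζ * a * ζ⁻¹ := by group
    rw [e4] at e3
    have hzaK : ζ * a * ζ⁻¹ ∈ K := by rw [← e4]; exact mul_mem (h.WK hya) haK
    have c1 := h.KR _ hzaK _ hr1
    refine ⟨r₂, hr₂, ?_⟩
    calc ζ * (x * a * x⁻¹ * a⁻¹) * ζ⁻¹ = (ζ * x * ζ⁻¹) * (ζ * a * ζ⁻¹) * (ζ * x * ζ⁻¹)⁻¹ * (ζ * a * ζ⁻¹)⁻¹ := by group
      _ = r₁ * (t * x * t⁻¹) * (ζ * a * ζ⁻¹) * (t * x * t⁻¹)⁻¹ * (r₁⁻¹ * (ζ * a * ζ⁻¹)⁻¹) := by rw [e1]; group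
      _ = r₁ * (t * x * t⁻¹) * (ζ * a * ζ⁻¹) * (t * x * t⁻¹)⁻¹ * ((ζ * a * ζ⁻¹)⁻¹ * r₁⁻¹) := by
          rw [← mul_inv_rev, ← mul_inv_rev, c1]
      _ = r₁ * ((t * x * t⁻¹) * (ζ * a * ζ⁻¹) * (t * x * t⁻¹)⁻¹ * (ζ * a * ζ⁻¹)⁻¹) * r₁⁻¹ := by group
      _ = _ := by
          rw [e3]
          have c2 := h.W_comm_R (mul_mem (h.RW hr₂) (hcW _ hyW a ha)) hr1
          rw [← c2]; group
  -- `t² [x, a] ≡ [y, a]` modulo `D`
  have hA2 : (t * (t * (x * a * x⁻¹ * a⁻¹) * t⁻¹) * t⁻¹)⁻¹ * ((t * x * t⁻¹) * a * (t * x * t⁻¹)⁻¹ * a⁻¹) ∈ D := by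
    have ha1 : t⁻¹ * a * t ∈ A := conj_inv_mem_of_normalizer (h.LA htL) ha
    have f1 := conj_mem_of_normalizer (h.LD htL) (ht4 a ha)
    have f2 := ht4 _ ha1
    have e : (t * (t * (x * a * x⁻¹ * a⁻¹) * t⁻¹) * t⁻¹)⁻¹ * ((t * x * t⁻¹) * a * (t * x * t⁻¹)⁻¹ * a⁻¹) =
        (t * ((x * (t⁻¹ * a * t) * x⁻¹ * (t⁻¹ * a * t)⁻¹)⁻¹ * (t * (x * a * x⁻¹ * a⁻¹) * t⁻¹)) * t⁻¹)⁻¹ := by group
    rw [e]
    exact inv_mem f1
  obtain ⟨r, hr, hA1⟩ := hA1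
  have huW : u ∈ W := h.UW hu
  have hu0W := hcW x hxW a ha
  have hyaW := hcW _ hyW a ha
  generalize hu0 : x * a * x⁻¹ * a⁻¹ = u₀ at *
  generalize hyy : (t * x * t⁻¹) * a * (t * x * t⁻¹)⁻¹ * a⁻¹ = y at *
  -- `s² u₀ ≡ u₀`
  have hB : u₀⁻¹ * ((s * s) * u₀ * (s * s)⁻¹) ∈ D := by
    have e1 : s * s = t⁻¹ * (t⁻¹ * (z * z * (z * z))) := by
      rw [← hzs]
      calc s * s = t⁻¹ * (t * s) * s := by group
        _ = t⁻¹ * (s * t) * s := by rw [hst]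
        _ = t⁻¹ * (t⁻¹ * (t * s * (t * s))) := by group
    have e2 : u₀⁻¹ * ((s * s) * u₀ * (s * s)⁻¹) =
        t⁻¹ * (t⁻¹ * ((t * (t * u₀ * t⁻¹) * t⁻¹)⁻¹ * (z * z * (z * z) * u₀ * (z * z * (z * z))⁻¹)) * t) * t := by
      rw [e1]
      simp only [mul_inv_rev, inv_inv, mul_assoc, mul_inv_cancel_left, inv_mul_cancel_left, mul_inv_cancel,
    inv_mul_cancel, mul_one, one_mul]
    rw [e2, hA1]
    refine conj_inv_mem_of_normalizer (h.LD htL) (conj_inv_mem_of_normalizer (h.LD htL) ?_)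
    have c1 := h.W_comm_R hyaW hr
    rw [← c1, ← mul_assoc]
    exact mul_mem hA2 (h.RD hr)
  have e3 : s * s * u * (s * s)⁻¹ * u⁻¹ = u₀ * ((u₀⁻¹ * ((s * s) * u₀ * (s * s)⁻¹)) *
      ((s * s) * (u₀⁻¹ * u) * (s * s)⁻¹) * (u₀⁻¹ * u)⁻¹) * u₀⁻¹ := by group
  rw [e3]
  exact h.conj_mem h.RD h.DW hu0W (mul_mem (mul_mem hB (conj_mem_of_normalizer (h.LD (mul_mem hsL hsL)) hau))
    (inv_mem hau))

/-- **(E5)** for `U^w` -/
theorem E5w (hV : ¬ V ≤ R) {t u : G} (ht : t ∈ T) (hu : u ∈ BTwo.cj w U) : t * u * t⁻¹ * u⁻¹ ∈ BTwo.cj w D := by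
  obtain ⟨c, hc, z, hz, htc⟩ := h.dec t ht
  have h1 := (h.E5 hV ht (mem_cj.1 hu)).2
  have h2 := h.tww hc hz htc
  rw [mem_cj]
  have e : w⁻¹ * (t * u * t⁻¹ * u⁻¹) * w =
      w * t * w⁻¹ * (w⁻¹ * u * w) * (w * t * w⁻¹)⁻¹ * (w⁻¹ * u * w)⁻¹ := by
    have h3 : w⁻¹ * t * w = w * t * w⁻¹ := by
      calc w⁻¹ * t * w = w⁻¹ * (w * (w * t * w⁻¹) * w⁻¹) * w := by rw [h2]
        _ = _ := by group
    rw [← h3]; group
  rw [e]; exact h1

/-- `D = V` implies `U = D` -/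
theorem U_le_D (hV : ¬ V ≤ R) (hDV : D ≤ V) : U ≤ D := by
  intro u hu
  obtain ⟨t, ht, ht1⟩ := h.T_ne
  have htL := h.TL ht
  have l' := h.ln'
  refine h.t6 t ht ht1 u hu ?_
  obtain ⟨v, hv, hvu⟩ := h.cov' (h.UW hu)
  have h1 := h.E5w hV ht hvu
  have h2 : t * (v⁻¹ * u) * t⁻¹ * (v⁻¹ * u)⁻¹ ∈ R := by
    refine h.opp _ ?_ (cj_mono hDV h1)
    have hvu' : v⁻¹ * u ∈ U := mul_mem (inv_mem (h.DU (h.VD hv))) hu
    exact mul_mem (conj_mem_of_normalizer (h.LU htL) hvu') (inv_mem hvu')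
  have e : t * u * t⁻¹ * u⁻¹ = (t * v * t⁻¹) * (t * (v⁻¹ * u) * t⁻¹ * (v⁻¹ * u)⁻¹) * v⁻¹ := by group
  rw [e]
  refine h.VD (mul_mem (mul_mem (conj_mem_of_normalizer (h.LV htL) hv) (h.RV h2)) (inv_mem hv))

end

/-- `u ∈ (D^w ∩ U) D` -/
def InS (U D : Subgroup G) (w u : G) : Prop := ∃ y ∈ BTwo.cj w D, y ∈ U ∧ y⁻¹ * u ∈ D

theorem InS.of_D {d : G} (hd : d ∈ D) : InS U D w d :=
  ⟨1, one_mem _, one_mem _, by simpa using hd⟩

theorem InS.mul {u u' : G} (hu : InS U D w u) (h : u⁻¹ * u' ∈ D) : InS U D w u' := by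
  obtain ⟨y, hy, hyU, hyu⟩ := hu
  refine ⟨y, hy, hyU, ?_⟩
  have e : y⁻¹ * u' = (y⁻¹ * u) * (u⁻¹ * u') := by group
  rw [e]; exact mul_mem hyu h

section
variable (h : Cfg R W V U D A K L C Z T w)
include h

theorem InS_mem {u : G} (hu : InS U D w u) : u ∈ U := by
  obtain ⟨y, hy, hyU, hyu⟩ := hu
  have := mul_mem hyU (h.DU hyu)
  rwa [mul_inv_cancel_left] at this

theorem InS_conj {g u : G} (hg : g ∈ L) (hu : InS U D w u) : InS U D w (g * u * g⁻¹) := by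
  obtain ⟨y, hy, hyU, hyu⟩ := hu
  refine ⟨g * y * g⁻¹, conj_mem_of_normalizer (h.norm_cj h.LD hg) hy, conj_mem_of_normalizer (h.LU hg) hyU, ?_⟩
  have e : (g * y * g⁻¹)⁻¹ * (g * u * g⁻¹) = g * (y⁻¹ * u) * g⁻¹ := by group
  rw [e]; exact conj_mem_of_normalizer (h.LD hg) hyu

/-- `P` is invariant under the elements of `L` fixing `x` modulo `R` -/
theorem P_stab {x g a : G} (hg : g ∈ L) (hgx : x⁻¹ * (g * x * g⁻¹) ∈ R) (ha : a ∈ A)
    (hP : InS U D w (x * a * x⁻¹ * a⁻¹)) : InS U D w (x * (g * a * g⁻¹) * x⁻¹ * (g * a * g⁻¹)⁻¹) := by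
  have h1 := h.InS_conj hg hP
  have hga : g * a * g⁻¹ ∈ A := conj_mem_of_normalizer (h.LA hg) ha
  have c := h.KR _ (h.AK hga) _ hgx
  have e : g * (x * a * x⁻¹ * a⁻¹) * g⁻¹ = x * (g * a * g⁻¹) * x⁻¹ * (g * a * g⁻¹)⁻¹ := by
    calc g * (x * a * x⁻¹ * a⁻¹) * g⁻¹ = x * ((x⁻¹ * (g * x * g⁻¹)) * (g * a * g⁻¹)) *
        (x⁻¹ * (g * x * g⁻¹))⁻¹ * x⁻¹ * (g * a * g⁻¹)⁻¹ := by group
      _ = x * ((g * a * g⁻¹) * (x⁻¹ * (g * x * g⁻¹))) *
        (x⁻¹ * (g * x * g⁻¹))⁻¹ * x⁻¹ * (g * a * g⁻¹)⁻¹ := by rw [c]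
      _ = _ := by group
  rwa [e] at h1

/-- `P` is a union of cosets of `D` -/
theorem P_right {x a d : G} (hx : x ∈ W) (ha : a ∈ A) (hd : d ∈ D)
    (hP : InS U D w (x * a * x⁻¹ * a⁻¹)) : InS U D w (x * (a * d) * x⁻¹ * (a * d)⁻¹) := by
  refine hP.mul ?_
  have hr := h.WW x hx d (h.DW hd)
  have c := h.KR a (h.AK ha) _ hr
  have e : (x * a * x⁻¹ * a⁻¹)⁻¹ * (x * (a * d) * x⁻¹ * (a * d)⁻¹) = a * (x * d * x⁻¹ * d⁻¹) * a⁻¹ := by group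
  rw [e, c, mul_inv_cancel_right]
  exact h.RD hr

theorem P_left {x a d : G} (hx : x ∈ W) (hd : d ∈ D)
    (hP : InS U D w (x * a * x⁻¹ * a⁻¹)) : InS U D w (x * (d * a) * x⁻¹ * (d * a)⁻¹) := by
  refine hP.mul ?_
  have hu := h.UW (h.InS_mem hP)
  obtain ⟨r, hr, e⟩ := h.comm_mul_left hx (h.DW hd) hu
  rw [e, ← h.W_comm_R hu hr, inv_mul_cancel_left]
  exact h.RD hr

/-- `P` is `C`-invariant -/
theorem P_C {x c a : G} (hx : x ∈ BTwo.cj w V) (hxR : x ∉ R) (hc : c ∈ C) (ha : a ∈ A)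
    (hP : InS U D w (x * a * x⁻¹ * a⁻¹)) : InS U D w (x * (c * a * c⁻¹) * x⁻¹ * (c * a * c⁻¹)⁻¹) := by
  have hcL := h.CL hc
  have hxW : x ∈ W := h.ln'.VW hx
  have hcx : c * x * c⁻¹ ∈ BTwo.cj w V := conj_mem_of_normalizer (h.norm_cj h.LV hcL) hx
  -- `t' x ≡ c x`
  have hcxR : c * x * c⁻¹ ∉ R := fun h' => hxR (by
    have := conj_inv_mem_of_normalizer (h.LR hcL) h'
    have e : c⁻¹ * (c * x * c⁻¹) * c = x := by group
    rwa [e] at this)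
  obtain ⟨t, ht, htx⟩ := h.t2 _ (mem_cj.1 hx) (fun h' => hxR (h.R_of h')) _ (mem_cj.1 hcx)
    (fun h' => hcxR (h.R_of h'))
  obtain ⟨c₁, hc₁, z, hz, htc⟩ := h.dec t ht
  have htL := h.TL ht
  have hsL : w * t * w⁻¹ ∈ L := h.wL t htL
  have e1 : (t * (w⁻¹ * x * w) * t⁻¹)⁻¹ * (w⁻¹ * (c * x * c⁻¹) * w) =
      w⁻¹ * (((w * t * w⁻¹) * x * (w * t * w⁻¹)⁻¹)⁻¹ * (c * x * c⁻¹)) * w := by group
  rw [e1] at htx
  have h2 := h.R_of htx
  have hg : (w * t * w⁻¹)⁻¹ * c ∈ L := mul_mem (inv_mem hsL) hcL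
  have h3 : x⁻¹ * (((w * t * w⁻¹)⁻¹ * c) * x * ((w * t * w⁻¹)⁻¹ * c)⁻¹) ∈ R := by
    have e : x⁻¹ * (((w * t * w⁻¹)⁻¹ * c) * x * ((w * t * w⁻¹)⁻¹ * c)⁻¹) =
      (w * t * w⁻¹)⁻¹ * (((w * t * w⁻¹) * x * (w * t * w⁻¹)⁻¹)⁻¹ * (c * x * c⁻¹)) * (w * t * w⁻¹) := by group
    rw [e]
    exact conj_inv_mem_of_normalizer (h.LR hsL) h2
  have h4 := h.P_stab hg h3 ha hP
  have hb : ((w * t * w⁻¹)⁻¹ * c) * a * ((w * t * w⁻¹)⁻¹ * c)⁻¹ ∈ A := conj_mem_of_normalizer (h.LA hg) ha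
  have e5 : c * a * c⁻¹ = (w * t * w⁻¹) * (((w * t * w⁻¹)⁻¹ * c) * a * ((w * t * w⁻¹)⁻¹ * c)⁻¹) *
      (w * t * w⁻¹)⁻¹ := by group
  rw [e5]
  generalize ((w * t * w⁻¹)⁻¹ * c) * a * ((w * t * w⁻¹)⁻¹ * c)⁻¹ = b at h4 hb
  -- `t' b ≡ t⁻¹ b`
  have h6 : InS U D w (x * (t⁻¹ * b * t) * x⁻¹ * (t⁻¹ * b * t)⁻¹) := by
    have h7 := h.InS_conj htL h4
    refine h7.mul ?_
    have h8 := inv_mem (h.t4 t ht x hxW b hb)
    have e : (x * (t⁻¹ * b * t) * x⁻¹ * (t⁻¹ * b * t)⁻¹)⁻¹ * (t * (x * b * x⁻¹ * b⁻¹) * t⁻¹) =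
      ((t * (x * b * x⁻¹ * b⁻¹) * t⁻¹)⁻¹ * (x * (t⁻¹ * b * t) * x⁻¹ * (t⁻¹ * b * t)⁻¹))⁻¹ := by group
    rw [e, inv_inv] at h8
    exact h8
  have hc₁L := h.CL hc₁
  have hzL := h.ZL hz
  have hb1 : c₁⁻¹ * b * c₁ ∈ A := conj_inv_mem_of_normalizer (h.LA hc₁L) hb
  have hzD : ∀ z ∈ Z, z * (c₁⁻¹ * b * c₁) * z⁻¹ * (c₁⁻¹ * b * c₁)⁻¹ ∈ D := fun z hz =>
    h.AWD (mem_inf.2 ⟨mul_mem (conj_mem_of_normalizer (h.LA (h.ZL hz)) hb1) (inv_mem hb1),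
      h.ZK z hz _ (h.AK hb1)⟩)
  have e6 : w * t * w⁻¹ = z * c₁⁻¹ := by
    rw [h.tw hc₁ hz htc]; exact h.L_comm _ (inv_mem hc₁L) _ hzL
  have e7 : t = z * c₁ := by rw [htc]; exact h.L_comm _ hc₁L _ hzL
  have e7' : t = c₁ * z := htc
  have e8 : (w * t * w⁻¹) * b * (w * t * w⁻¹)⁻¹ =
      ((z * (c₁⁻¹ * b * c₁) * z⁻¹ * (c₁⁻¹ * b * c₁)⁻¹) *
        (z⁻¹ * (c₁⁻¹ * b * c₁) * z⁻¹⁻¹ * (c₁⁻¹ * b * c₁)⁻¹)⁻¹) * (t⁻¹ * b * t) := by
    rw [e6, e7']; group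
  rw [e8]
  exact h.P_left hxW (mul_mem (hzD z hz) (inv_mem (hzD z⁻¹ (inv_mem hz)))) h6

/-- **(E4)** `U = (D^w ∩ U) D` -/
theorem E4 (hV : ¬ V ≤ R) (hU : ¬ U ≤ D) {u : G} (hu : u ∈ U) : InS U D w u := by
  have l' := h.ln'
  obtain ⟨v, hv, hvR⟩ := SetLike.not_le_iff_exists.1 hV
  have hx : w * v * w⁻¹ ∈ BTwo.cj w V := conj_mem_cj hv
  have hxR : w * v * w⁻¹ ∉ R := fun h' => hvR (by
    have := h.of_R h'
    have e : w⁻¹ * (w * v * w⁻¹) * w = v := by group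
    rwa [e] at this)
  generalize w * v * w⁻¹ = x at hx hxR
  have hxW : x ∈ W := l'.VW hx
  have hxU : x ∉ U := fun h' => hxR (h.opp x h' hx)
  by_cases hP : ∃ a ∈ A, a ∉ D ∧ InS U D w (x * a * x⁻¹ * a⁻¹)
  · obtain ⟨a, ha, haD, hPa⟩ := hP
    obtain ⟨b, hb, hbu⟩ := h.surj x hxW hxU u hu
    have hPb : InS U D w (x * b * x⁻¹ * b⁻¹) := by
      by_cases hbD : b ∈ D
      · exact InS.of_D (h.RD (h.WW x hxW b (h.DW hbD)))
      · obtain ⟨c, hc, hcb⟩ := h.Ctr a ha haD b hb hbD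
        have h1 := h.P_C hx hxR hc ha hPa
        have h2 := h.P_right hxW (conj_mem_of_normalizer (h.LA (h.CL hc)) ha) hcb h1
        rwa [mul_inv_cancel_left] at h2
    exact hPb.mul hbu
  · exfalso
    push Not at hP
    -- `D^w ∩ U ≤ R`
    have h1 : ∀ y ∈ BTwo.cj w D, y ∈ U → y ∈ R := by
      intro y hy hyU
      obtain ⟨b, hb, hby⟩ := h.surj x hxW hxU y hyU
      have h2 : InS U D w (x * b * x⁻¹ * b⁻¹) := by
        refine ⟨y, hy, hyU, ?_⟩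
        have hW1 : x * b * x⁻¹ * b⁻¹ ∈ W := by
          have e : x * b * x⁻¹ * b⁻¹ = x * (b * x⁻¹ * b⁻¹) := by group
          rw [e]
          exact mul_mem hxW (conj_mem_of_normalizer (h.AW hb) (inv_mem hxW))
        have e : y⁻¹ * (x * b * x⁻¹ * b⁻¹) = ((x * b * x⁻¹ * b⁻¹)⁻¹ * y)⁻¹ := by group
        rw [e]; exact inv_mem hby
      have hbD : b ∈ D := by
        by_contra hbD
        exact hP b hb hbD h2
      have hyD : y ∈ D := by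
        have := mul_mem (h.RD (h.WW x hxW b (h.DW hbD))) hby
        rwa [mul_inv_cancel_left] at this
      exact h.E2 ⟨hyD, hy⟩
    have h2 : D ≤ V := by
      intro d hd
      have hd' : w * d * w⁻¹ ∈ BTwo.cj w D := conj_mem_cj hd
      obtain ⟨y, hy, hyd⟩ := h.cov _ (l'.DW hd')
      have h3 := h1 _ (mul_mem (inv_mem (l'.VD hy)) hd') hyd
      have h4 := mul_mem hy (l'.RV h3)
      rw [mul_inv_cancel_left] at h4
      have h5 := mem_cj.1 h4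
      have e : w⁻¹ * (w * d * w⁻¹) * w = d := by group
      rwa [e] at h5
    exact hU (h.U_le_D hV h2)

theorem U_eq (hV : ¬ V ≤ R) (hU : ¬ U ≤ D) : U = (BTwo.cj w D ⊓ U) ⊔ D := by
  refine le_antisymm (fun u hu => ?_) (sup_le inf_le_right h.DU)
  obtain ⟨y, hy, hyU, hyu⟩ := h.E4 hV hU hu
  have := mul_mem (mem_sup_left (T := D) (show y ∈ BTwo.cj w D ⊓ U from ⟨hy, hyU⟩)) (mem_sup_right hyu)
  rwa [mul_inv_cancel_left] at this

theorem D_inf : D ⊓ BTwo.cj w D = R :=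
  le_antisymm h.E2 (le_inf h.RD h.ln'.RD)

/-- `|U / D| = |D^w ∩ U / R|` -/
theorem card_U (hV : ¬ V ≤ R) (hU : ¬ U ≤ D) : D.relIndex U = R.relIndex (BTwo.cj w D ⊓ U) := by
  have h1 : R = D ⊓ (BTwo.cj w D ⊓ U) :=
    le_antisymm (le_inf h.RD (le_inf h.ln'.RD (h.RD.trans h.DU)))
      fun x hx => h.E2 ⟨hx.1, hx.2.1⟩
  rw [relIndex_eq_of_cov (H := BTwo.cj w D ⊓ U) inf_le_right fun u hu => ?_]
  · rw [← inf_relIndex_right, ← h1]
  · obtain ⟨y, hy, hyU, hyu⟩ := h.E4 hV hU hu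
    exact ⟨y, ⟨hy, hyU⟩, hyu⟩

/-- `|D / V| = |U / D|` -/
theorem card_D (hV : ¬ V ≤ R) (hU : ¬ U ≤ D) : V.relIndex D = D.relIndex U := by
  have l' := h.ln'
  have h1 : R = BTwo.cj w V ⊓ (BTwo.cj w D ⊓ U) :=
    le_antisymm (le_inf l'.RV (le_inf l'.RD (h.RD.trans h.DU)))
      fun x hx => h.opp x hx.2.2 hx.1
  have h2 : (BTwo.cj w V).relIndex (BTwo.cj w D) = V.relIndex D :=
    relIndex_map_map_of_injective _ _ (MulAut.conj w).injective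
  rw [h.card_U hV hU, ← h2, relIndex_eq_of_cov (H := BTwo.cj w D ⊓ U) inf_le_left fun m hm => ?_]
  · rw [← inf_relIndex_right, ← h1]
  · obtain ⟨x, hx, hxm⟩ := h.cov m (l'.DW hm)
    have h3 : x⁻¹ * m ∈ BTwo.cj w D := mul_mem (inv_mem (l'.VD hx)) hm
    refine ⟨x⁻¹ * m, mem_inf.2 ⟨h3, hxm⟩, ?_⟩
    have e : (x⁻¹ * m)⁻¹ * m = m⁻¹ * x * m⁻¹⁻¹ := by group
    rw [e]
    exact h.conj_mem l'.RV l'.VW (inv_mem (l'.DW hm)) hx

end

end Cfg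

end Cfsg.Agent.Omega.SQEnd

end

section


/-!
# `K` is irreducible on `W / R` (bb OMEGA #12947)

Module-free: `C_{W / R}(A) = V / R`, every `K`-invariant `R < N ≤ W` meets `V` outside `R`, and `N = W` if the torus `C`
is irreducible on `V / R`.
-/

set_option autoImplicit false
set_option linter.unusedSimpArgs false
set_option linter.unusedSectionVars false

universe u

namespace Cfsg.Agent.Omega.SQEnd

open Subgroup Cfsg.Agent.Omega.BTwo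

variable {G : Type u} [Group G]

/-- Further input: `Z(W) = R`, `W = ⟨V^K⟩`, `[V, A] = 1`, the Bruhat decomposition of `K`, `U ≠ D`, `V ≠ R`. -/
structure CfgI (R W V U D A K L C Z T : Subgroup G) (w : G) : Prop extends Cfg R W V U D A K L C Z T w where
  rad : ∀ x ∈ W, (∀ y ∈ W, x * y = y * x) → x ∈ R
  gen : ∀ N : Subgroup G, (∀ g ∈ K, cj g V ≤ N) → W ≤ N
  VA : ∀ v ∈ V, ∀ a ∈ A, v * a = a * v
  bru : ∀ g ∈ K, g ∈ W ⊔ A ⊔ C ∨ ∃ a ∈ A, ∃ b ∈ W ⊔ A ⊔ C, g = a * w * b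
  hV : ¬ V ≤ R
  hU : ¬ U ≤ D

namespace CfgI

variable {R W V U D A K L C Z T : Subgroup G} {w : G}

section
variable (h : CfgI R W V U D A K L C Z T w)
include h

/-- (i) -/
theorem le_R_of_le_U {N : Subgroup G} (hN : K ≤ normalizer (N : Set G)) (hNU : N ≤ U) : N ≤ R := by
  intro n hn
  refine h.rad n (h.UW (hNU hn)) fun y hy => ?_
  have h1 : W ≤ centralizer {n} := by
    refine h.gen _ fun g hg v hv => ?_
    rw [mem_centralizer_singleton_iff]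
    have h2 := h.UV _ (hNU (conj_inv_mem_of_normalizer (hN hg) hn)) _ (mem_cj.1 hv)
    calc v * n = g * ((g⁻¹ * v * g) * (g⁻¹ * n * g)) * g⁻¹ := by group
      _ = g * ((g⁻¹ * n * g) * (g⁻¹ * v * g)) * g⁻¹ := by rw [h2]
      _ = n * v := by group
  exact (mem_centralizer_singleton_iff.1 (h1 hy)).symm

/-- a subgroup `S` between `R` and `W`, centralised by `g` modulo `R`, is normalised by `g`. -/
theorem norm_of_comm [Finite G] {S : Subgroup G} (hRS : R ≤ S) {g : G}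
    (hg : ∀ s ∈ S, g * s * g⁻¹ * s⁻¹ ∈ R) : g ∈ normalizer (S : Set G) := by
  rw [← cj_eq_self_iff]
  refine eq_of_le_of_card_ge (cj_le_iff.2 fun s hs => ?_) (card_cj g S).ge
  have := mul_mem (hRS (hg s hs)) hs
  rwa [inv_mul_cancel_right] at this

/-- `F = {x ∈ W : [x, A] ≤ R}` -/
theorem exists_F : ∃ F : Subgroup G, ∀ x, x ∈ F ↔ x ∈ W ∧ ∀ a ∈ A, x * a * x⁻¹ * a⁻¹ ∈ R := by
  refine ⟨{ carrier := {x | x ∈ W ∧ ∀ a ∈ A, x * a * x⁻¹ * a⁻¹ ∈ R}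
            one_mem' := ⟨one_mem _, fun a _ => by simp⟩
            mul_mem' := ?_
            inv_mem' := ?_ }, fun x => Iff.rfl⟩
  · rintro x y ⟨hx, hxa⟩ ⟨hy, hya⟩
    refine ⟨mul_mem hx hy, fun a ha => ?_⟩
    have e : x * y * a * (x * y)⁻¹ * a⁻¹ = x * (y * a * y⁻¹ * a⁻¹) * x⁻¹ * (x * a * x⁻¹ * a⁻¹) := by group
    rw [e, h.W_comm_R hx (hya a ha), mul_inv_cancel_right]
    exact mul_mem (hya a ha) (hxa a ha)
  · rintro x ⟨hx, hxa⟩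
    refine ⟨inv_mem hx, fun a ha => ?_⟩
    have e : x⁻¹ * a * x⁻¹⁻¹ * a⁻¹ = x⁻¹ * (x * a * x⁻¹ * a⁻¹)⁻¹ * x := by group
    rw [e, h.W_comm_R (inv_mem hx) (inv_mem (hxa a ha)), inv_mul_cancel_right]
    exact inv_mem (hxa a ha)

/-- (ii) `C_{W / R}(A) = V / R` -/
theorem F_le_V [Finite G] {x : G} (hx : x ∈ W) (hxa : ∀ a ∈ A, x * a * x⁻¹ * a⁻¹ ∈ R) : x ∈ V := by
  obtain ⟨F, hF⟩ := h.exists_F
  have l' := h.ln'
  have hRF : R ≤ F := fun r hr => (hF r).2 ⟨h.RW hr, fun a ha => by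
    have : r * a * r⁻¹ * a⁻¹ = 1 := by rw [← h.KR a (h.AK ha) r hr]; group
    rw [this]; exact one_mem _⟩
  have hVF : V ≤ F := fun v hv => (hF v).2 ⟨h.VW hv, fun a ha => by
    have : v * a * v⁻¹ * a⁻¹ = 1 := by rw [h.VA v hv a ha]; group
    rw [this]; exact one_mem _⟩
  have hFW : F ≤ W := fun x hx => ((hF x).1 hx).1
  have hFU : F ≤ U := by
    intro x hx
    by_contra hxU
    obtain ⟨hxW, hxa⟩ := (hF x).1 hx
    have hAD : ∀ a ∈ A, a ∈ D := fun a ha => h.inj x hxW hxU a ha (h.RD (hxa a ha))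
    refine h.hU fun u hu => ?_
    obtain ⟨a, ha, h1⟩ := h.surj x hxW hxU u hu
    have := mul_mem (h.RD (hxa a ha)) h1
    rwa [mul_inv_cancel_left] at this
  -- `L`, `A`, `W` normalise `F`
  have hLF : L ≤ normalizer (F : Set G) := by
    intro g hg
    rw [← cj_eq_self_iff]
    refine eq_of_le_of_card_ge (cj_le_iff.2 fun s hs => ?_) (card_cj g F).ge
    obtain ⟨hsW, hsa⟩ := (hF s).1 hs
    refine (hF _).2 ⟨conj_mem_of_normalizer (h.LW hg) hsW, fun a ha => ?_⟩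
    have e : g * s * g⁻¹ * a * (g * s * g⁻¹)⁻¹ * a⁻¹ =
      g * (s * (g⁻¹ * a * g) * s⁻¹ * (g⁻¹ * a * g)⁻¹) * g⁻¹ := by group
    rw [e]
    exact conj_mem_of_normalizer (h.LR hg) (hsa _ (conj_inv_mem_of_normalizer (h.LA hg) ha))
  -- `F₁ = F ∩ D^w`
  set F₁ := F ⊓ BTwo.cj w D with hF₁
  have hRF₁ : R ≤ F₁ := le_inf hRF l'.RD
  have hAF₁ : A ≤ normalizer (F₁ : Set G) := fun a ha => h.norm_of_comm hRF₁ fun s hs => by
    have h1 := ((hF s).1 hs.1).2 a ha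
    have e : a * s * a⁻¹ * s⁻¹ = (s * a * s⁻¹ * a⁻¹)⁻¹ := by group
    rw [e]; exact inv_mem h1
  have hWF₁ : W ≤ normalizer (F₁ : Set G) := fun a ha => h.norm_of_comm hRF₁ fun s hs =>
    h.WW _ ha _ (hFW hs.1)
  have hLF₁ : L ≤ normalizer (F₁ : Set G) := by
    intro g hg
    rw [← cj_eq_self_iff]
    refine eq_of_le_of_card_ge (cj_le_iff.2 fun s hs => ?_) (card_cj g F₁).ge
    exact ⟨conj_mem_of_normalizer (hLF hg) hs.1, conj_mem_of_normalizer (h.norm_cj h.LD hg) hs.2⟩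
  have hBF₁ : W ⊔ A ⊔ C ≤ normalizer (F₁ : Set G) := sup_le (sup_le hWF₁ hAF₁) (h.CL.trans hLF₁)
  have hAU : A ≤ normalizer (U : Set G) := by
    intro a ha
    rw [← cj_eq_self_iff]
    refine eq_of_le_of_card_ge (cj_le_iff.2 fun s hs => ?_) (card_cj a U).ge
    have h1 := mul_mem (inv_mem (h.DU (h.UA s hs a ha))) hs
    have e : (s * a * s⁻¹ * a⁻¹)⁻¹ * s = a * s * a⁻¹ := by group
    rwa [e] at h1
  have hAD : ∀ a ∈ A, ∀ d ∈ D, a * d * a⁻¹ ∈ D := by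
    intro a ha d hd
    have h1 := mul_mem (inv_mem (h.VD (h.DA d hd a ha))) hd
    have e : (d * a * d⁻¹ * a⁻¹)⁻¹ * d = a * d * a⁻¹ := by group
    rwa [e] at h1
  have hWU : W ≤ normalizer (U : Set G) := by
    intro a ha
    rw [← cj_eq_self_iff]
    exact eq_of_le_of_card_ge (cj_le_iff.2 fun s hs => h.conj_mem (h.RD.trans h.DU) h.UW ha hs) (card_cj a U).ge
  have hBU : W ⊔ A ⊔ C ≤ normalizer (U : Set G) := sup_le (sup_le hWU hAU) (h.CL.trans h.LU)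
  -- the normal closure of `F₁` is in `U`
  have h1 : ∀ g ∈ K, ∀ s ∈ F₁, g * s * g⁻¹ ∈ U := by
    intro g hg s hs
    rcases h.bru g hg with hg | ⟨a, ha, b, hb, rfl⟩
    · exact conj_mem_of_normalizer (hBU hg) (hFU hs.1)
    · have h2 := (conj_mem_of_normalizer (hBF₁ hb) hs).2
      have h3 : w * (b * s * b⁻¹) * w⁻¹ ∈ D := by
        have h4 := mem_cj.1 h2
        have h5 := h.conj_mem h.RD h.DW h.w2 h4
        have e : w * w * (w⁻¹ * (b * s * b⁻¹) * w) * (w * w)⁻¹ = w * (b * s * b⁻¹) * w⁻¹ := by group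
        rwa [e] at h5
      have e : a * w * b * s * (a * w * b)⁻¹ = a * (w * (b * s * b⁻¹) * w⁻¹) * a⁻¹ := by group
      rw [e]
      exact h.DU (hAD a ha _ h3)
  have h2 : F₁ ≤ R := by
    let N : Subgroup G := Subgroup.closure {x | ∃ g ∈ K, ∃ s ∈ F₁, x = g * s * g⁻¹}
    have hN : K ≤ normalizer (N : Set G) := by
      intro g hg
      rw [← cj_eq_self_iff]
      refine eq_of_le_of_card_ge ?_ (card_cj g N).ge
      have : N ≤ BTwo.cj g⁻¹ N := by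
        refine (closure_le _).2 ?_
        rintro _ ⟨k, hk, s, hs, rfl⟩
        refine mem_cj.2 (subset_closure ⟨g * k, mul_mem hg hk, s, hs, by group⟩)
      have h3 := cj_mono (g := g) this
      rwa [cj_cj_inv] at h3
    have hNU : N ≤ U := by
      refine (closure_le _).2 ?_
      rintro _ ⟨k, hk, s, hs, rfl⟩
      exact h1 k hk s hs
    intro s hs
    exact h.le_R_of_le_U hN hNU (subset_closure ⟨1, one_mem _, s, hs, by group⟩)
  -- `x = y d`, `y ∈ D^w ∩ U`, `[t, y] ∈ F₁`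
  have hxF : x ∈ F := (hF x).2 ⟨hx, hxa⟩
  obtain ⟨y, hy, hyU, hyx⟩ := h.E4 h.hV h.hU (hFU hxF)
  obtain ⟨t, ht, ht1⟩ := h.T_ne
  have htL := h.TL ht
  have hyW : y ∈ W := h.UW hyU
  have h3 : t * y * t⁻¹ * y⁻¹ ∈ F := by
    have h4 : t * x * t⁻¹ * x⁻¹ ∈ F := mul_mem (conj_mem_of_normalizer (hLF htL) hxF) (inv_mem hxF)
    have h5 := h.t3 t ht _ hyx
    have e : t * y * t⁻¹ * y⁻¹ = (t * x * t⁻¹ * x⁻¹) *
        (y * (t * (y⁻¹ * x) * t⁻¹ * (y⁻¹ * x)⁻¹)⁻¹ * y⁻¹) := by group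
    rw [e]
    exact mul_mem h4 (hVF (h.conj_mem h.RV h.VW hyW (inv_mem h5)))
  have h3' : t * y * t⁻¹ * y⁻¹ ∈ BTwo.cj w D :=
    mul_mem (conj_mem_of_normalizer (h.norm_cj h.LD htL) hy) (inv_mem hy)
  have h4 : t * y * t⁻¹ * y⁻¹ ∈ R := h2 ⟨h3, h3'⟩
  have h5 := h.t6 t ht ht1 y hyU (h.RD h4)
  have h6 := mul_mem h5 hyx
  rw [mul_inv_cancel_left] at h6
  exact h.DAR x h6 hxa

/-- (iii) -/
theorem not_inf_le [Finite G] {N : Subgroup G} (hN : K ≤ normalizer (N : Set G)) (hNW : N ≤ W)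
    (hNR : ¬ N ≤ R) : ¬ N ⊓ V ≤ R := by
  intro hcon
  have h1 : ¬ N ≤ U := fun h' => hNR (h.le_R_of_le_U hN h')
  obtain ⟨n, hn, hnU⟩ := SetLike.not_le_iff_exists.1 h1
  have hcN : ∀ m ∈ N, ∀ a ∈ A, m * a * m⁻¹ * a⁻¹ ∈ N := by
    intro m hm a ha
    have e : m * a * m⁻¹ * a⁻¹ = m * (a * m⁻¹ * a⁻¹) := by group
    rw [e]
    exact mul_mem hm (conj_mem_of_normalizer (hN (h.AK ha)) (inv_mem hm))
  have hND : N ⊓ D ≤ R := fun d hd => hcon ⟨hd.1, h.DAR d hd.2 fun a ha => hcon ⟨hcN d hd.1 a ha, h.DA d hd.2 a ha⟩⟩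
  have hNU : N ⊓ U ≤ R := fun u hu => hcon ⟨hu.1, h.F_le_V (hNW hu.1) fun a ha =>
    hND ⟨hcN u hu.1 a ha, h.UA u hu.2 a ha⟩⟩
  refine h.hU fun u hu => ?_
  obtain ⟨a, ha, h2⟩ := h.surj n (hNW hn) hnU u hu
  have h3 : n * a * n⁻¹ * a⁻¹ ∈ U := by
    have := mul_mem hu (inv_mem (h.DU h2))
    have e : u * ((n * a * n⁻¹ * a⁻¹)⁻¹ * u)⁻¹ = n * a * n⁻¹ * a⁻¹ := by group
    rwa [e] at this
  have h4 := mul_mem (h.RD (hNU ⟨hcN n hn a ha, h3⟩)) h2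
  rwa [mul_inv_cancel_left] at h4

/-- (iv) `K` is irreducible on `W / R` if `C` is irreducible on `V / R`. -/
theorem irr [Finite G] (ci : ∀ S : Subgroup G, R ≤ S → S ≤ V → C ≤ normalizer (S : Set G) → ¬ S ≤ R → V ≤ S)
    {N : Subgroup G} (hRN : R ≤ N) (hNW : N ≤ W) (hN : K ≤ normalizer (N : Set G)) (hne : N ≠ R) : N = W := by
  have h1 : ¬ N ≤ R := fun h' => hne (le_antisymm h' hRN)
  have h2 := h.not_inf_le hN hNW h1
  have h3 : V ≤ N := (ci (N ⊓ V) (le_inf hRN h.RV) inf_le_right (fun g hg => by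
    rw [← cj_eq_self_iff, cj_inf, cj_eq_self_iff.2 (hN (h.CK hg)), cj_eq_self_iff.2 (h.LV (h.CL hg))]) h2).trans
      inf_le_left
  refine le_antisymm hNW (h.gen N fun g hg => ?_)
  have h4 := cj_mono (g := g) h3
  rwa [cj_eq_self_iff.2 (hN hg)] at h4

/-- `c² = t³` on `V / R` -/
theorem c_sq {t c z v : G} (ht : t ∈ T) (hc : c ∈ C) (hz : z ∈ Z) (htc : t = c * z) (hv : v ∈ V) :
    (t * t * t)⁻¹ * (c * c) ∈ St R v := by
  have hcL := h.CL hc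
  have htL := h.TL ht
  have hx : w⁻¹ * v * w ∈ BTwo.cj w V := by
    rw [← mem_cj, h.cj_cj_V]; exact hv
  have h1 := (h.E3 ht hx).2
  have h2 := h.tww hc hz htc
  have h3 := conj_mem_of_normalizer h.w_R h1
  have hct : c⁻¹ * t = t * c⁻¹ := h.L_comm _ (inv_mem hcL) _ htL
  have hcc : c⁻¹ * c⁻¹ * t = t * c⁻¹ * c⁻¹ := by rw [mul_assoc, hct, ← mul_assoc, hct]
  have h4 : w * t * w⁻¹ = t * c⁻¹ * c⁻¹ := by
    have : z = c⁻¹ * t := by rw [htc]; group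
    rw [h.tw hc hz htc, this, ← mul_assoc, hcc]
  have h5 : t * t * (t * c⁻¹ * c⁻¹) ∈ St R v := by
    refine ⟨h.LR (mul_mem (mul_mem htL htL) (mul_mem (mul_mem htL (inv_mem hcL)) (inv_mem hcL))), ?_⟩
    have e : w * ((w * t * w⁻¹) * (w * t * w⁻¹) * t * (w⁻¹ * v * w) * ((w * t * w⁻¹) * (w * t * w⁻¹) * t)⁻¹ *
        (w⁻¹ * v * w)⁻¹) * w⁻¹ = (w * (w * t * w⁻¹) * w⁻¹) * (w * (w * t * w⁻¹) * w⁻¹) * (w * t * w⁻¹) * v *
        ((w * (w * t * w⁻¹) * w⁻¹) * (w * (w * t * w⁻¹) * w⁻¹) * (w * t * w⁻¹))⁻¹ * v⁻¹ := by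
      simp only [mul_inv_rev, inv_inv, mul_assoc, mul_inv_cancel_left, inv_mul_cancel_left, mul_inv_cancel,
        inv_mul_cancel, mul_one, one_mul]
    rw [e, h2, h4] at h3
    exact h3
  have h6 := inv_mem h5
  have e : (t * t * (t * c⁻¹ * c⁻¹))⁻¹ = c * c * (t * t * t)⁻¹ := by
    simp only [mul_inv_rev, inv_inv, mul_assoc]
  rw [e] at h6
  rwa [h.L_comm _ (inv_mem (mul_mem (mul_mem htL htL) htL)) _ (mul_mem hcL hcL)]

end

end CfgI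

end Cfsg.Agent.Omega.SQEnd

end

section


/-!
# From `KD` to `Cfg`, part 3: `L` is abelian, `L = C Z`, the Weyl element, the theorem
-/

set_option autoImplicit false
set_option linter.unusedSectionVars false

universe u v w z

namespace Cfsg.Agent.Omega.SQEnd

open Subgroup Cfsg.Agent.Omega.BTwo Cfsg.Agent.Lib.SL2Mat Cfsg.Agent.Omega.Hex

section weyl

variable {k : Type w} [Field k] [CharP k 2]

theorem sq_eq_one {x : k} (h : x ^ 2 = 1) : x = 1 := by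
  have h1 : (x + 1) ^ 2 = 0 := by
    have h2 : (2 : k) = 0 := CharTwo.two_eq_zero
    linear_combination h + (x + 1) * h2
  exact CharTwo.add_eq_zero.1 ((pow_eq_zero_iff two_ne_zero).1 h1)

theorem dg_of_ent {A : Matrix.SpecialLinearGroup (Fin 2) k} (h10 : ent A 1 0 = 0) (h01 : ent A 0 1 = 0) :
    wm 1 one_ne_zero * A * (wm 1 one_ne_zero)⁻¹ = A⁻¹ := by
  rw [mul_inv_eq_iff_eq_mul, ent_inv]
  refine ext_ent ?_ ?_ ?_ ?_ <;> simp [ent_mul, h10, h01]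

/-- the Weyl element of the torus normalised by an abelian group of upper triangular matrices -/
theorem exists_weyl {S : Set (Matrix.SpecialLinearGroup (Fin 2) k)} (hS : ∀ A ∈ S, ent A 1 0 = 0)
    (hc : ∀ A ∈ S, ∀ B ∈ S, A * B = B * A) {A₁ : Matrix.SpecialLinearGroup (Fin 2) k} (h₁ : A₁ ∈ S)
    (hne : ent A₁ 0 0 ≠ 1) :
    ∃ n : Matrix.SpecialLinearGroup (Fin 2) k, n * n = 1 ∧ ent n 1 0 ≠ 0 ∧ ∀ A ∈ S, n * A * n⁻¹ = A⁻¹ := by
  set l := ent A₁ 0 0 with hl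
  have hd := det_eq A₁
  rw [hS A₁ h₁, mul_zero, sub_zero, ← hl] at hd
  have hl0 : l ≠ 0 := left_ne_zero_of_mul_eq_one hd
  have hl1 : l - ent A₁ 1 1 ≠ 0 := by
    intro h
    apply hne
    apply sq_eq_one
    linear_combination hd + l * h
  set u := ent A₁ 0 1 / (l - ent A₁ 1 1) with hu
  have key : ∀ A, ent A 1 0 = 0 → ent (up u * A * (up u)⁻¹) 1 0 = 0 ∧ ent (up u * A * (up u)⁻¹) 0 0 = ent A 0 0 ∧
      ent (up u * A * (up u)⁻¹) 1 1 = ent A 1 1 ∧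
      ent (up u * A * (up u)⁻¹) 0 1 = ent A 0 1 + u * ent A 1 1 - u * ent A 0 0 := by
    intro A hA
    rw [up_inv]
    refine ⟨?_, ?_, ?_, ?_⟩
    · simp [ent_mul, hA]
    · simp [ent_mul, hA]
    · simp [ent_mul, hA]
    · simp only [ent_mul, up_00, up_01, up_10, up_11, hA]; ring
  have h1 : ent (up u * A₁ * (up u)⁻¹) 0 1 = 0 := by
    rw [(key A₁ (hS A₁ h₁)).2.2.2, ← hl, hu]
    field_simp
    ring
  have h2 : ∀ A ∈ S, ent (up u * A * (up u)⁻¹) 0 1 = 0 := by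
    intro A hA
    have h3 : (up u * A₁ * (up u)⁻¹) * (up u * A * (up u)⁻¹) = (up u * A * (up u)⁻¹) * (up u * A₁ * (up u)⁻¹) := by
      calc (up u * A₁ * (up u)⁻¹) * (up u * A * (up u)⁻¹) = up u * (A₁ * A) * (up u)⁻¹ := by group
        _ = up u * (A * A₁) * (up u)⁻¹ := by rw [hc A₁ h₁ A hA]
        _ = _ := by group
    have h4 := congrArg (fun z => ent z 0 1) h3
    simp only [ent_mul (up u * A₁ * (up u)⁻¹), ent_mul (up u * A * (up u)⁻¹) (up u * A₁ * (up u)⁻¹)] at h4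
    rw [h1, (key A₁ (hS A₁ h₁)).2.1, (key A₁ (hS A₁ h₁)).2.2.1, ← hl] at h4
    have h5 : (l - ent A₁ 1 1) * ent (up u * A * (up u)⁻¹) 0 1 = 0 := by linear_combination h4
    exact (mul_eq_zero.1 h5).resolve_left hl1
  have hw2 : wm (1 : k) one_ne_zero * wm 1 one_ne_zero = 1 := by
    refine ext_ent ?_ ?_ ?_ ?_ <;> simp [ent_mul, CharTwo.neg_eq]
  refine ⟨(up u)⁻¹ * wm 1 one_ne_zero * up u, ?_, ?_, fun A hA => ?_⟩
  · calc (up u)⁻¹ * wm 1 one_ne_zero * up u * ((up u)⁻¹ * wm 1 one_ne_zero * up u) =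
        (up u)⁻¹ * (wm 1 one_ne_zero * wm 1 one_ne_zero) * up u := by group
      _ = 1 := by rw [hw2]; group
  · rw [up_inv]
    simp [ent_mul]
  · have h3 := dg_of_ent (key A (hS A hA)).1 (h2 A hA)
    calc (up u)⁻¹ * wm 1 one_ne_zero * up u * A * ((up u)⁻¹ * wm 1 one_ne_zero * up u)⁻¹ =
        (up u)⁻¹ * (wm 1 one_ne_zero * (up u * A * (up u)⁻¹) * (wm 1 one_ne_zero)⁻¹) * up u := by group
      _ = A⁻¹ := by rw [h3]; group

end weyl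

section torus

variable {G : Type u} [Group G] {ι : Type v} {V : Subgroup G} {R : ι → Subgroup G} {i j : ι} {k : Type w}
  [Field k] {K L : Subgroup G} {φ : K →* Matrix.SpecialLinearGroup (Fin 2) k}

/-- `l` acts on `A / D` by the scalar `κ` -/
def Sc (V : Subgroup G) (R : ι → Subgroup G) (j : ι) (φ : K →* Matrix.SpecialLinearGroup (Fin 2) k) (l : G) (κ : k) :
    Prop := ∀ a ∈ UU V R j, pk φ (l * a * l⁻¹) = κ * pk φ a

namespace LD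

variable (ld : LD V R i j K L)
include ld

theorem odd_order {l : G} (hl : l ∈ L) : Odd (orderOf l) := by
  refine ld.odd.of_dvd_nat ?_
  rw [← Nat.card_zpowers]
  exact card_dvd_of_le (zpowers_le.2 hl)

variable (b : BTC V R) (kd : KD V R i j K φ)
include b kd

omit kd in
theorem conjU {l a : G} (hl : l ∈ L) (ha : a ∈ UU V R j) : l * a * l⁻¹ ∈ UU V R j := by
  have h1 := conj_mem_cj (g := l) ha
  rwa [b.cj_UU (ld.NV hl) (cj_eq_self_iff.2 (ld.Nj hl))] at h1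

theorem ent10 {c : G} (hc : c ∈ L) (hcK : c ∈ K) : ent (φ ⟨c, hcK⟩) 1 0 = 0 :=
  kd.ent_of_mem b ⟨c, hcK⟩ (kd.S_normal b (ld.Ni hc) (ld.NV hc))

theorem eq_one_of_ent [Finite G] {c : G} (hc : c ∈ L) (hcK : c ∈ K) (h : ent (φ ⟨c, hcK⟩) 0 0 = 1) : c = 1 := by
  have h1 := eq_up_of_ent (ld.ent10 b kd hc hcK) h
  have h2 := kd.mem_Y b ((kd.mem_iff ⟨c, hcK⟩).2 ⟨_, h1⟩) (ld.Nj hc)
  have h3 : c ∈ YY V R ⊓ L := mem_inf.2 ⟨h2, hc⟩
  rwa [inf_eq_bot_of_odd (Y_two b.toBT) ld.odd, mem_bot] at h3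

omit ld in
theorem Sc_mul {l l' : G} {x x' : k} (hl' : ∀ a ∈ UU V R j, l' * a * l'⁻¹ ∈ UU V R j) (h : Sc V R j φ l x)
    (h' : Sc V R j φ l' x') : Sc V R j φ (l * l') (x * x') := by
  have _ := b
  have _ := kd
  intro a ha
  have e : l * l' * a * (l * l')⁻¹ = l * (l' * a * l'⁻¹) * l⁻¹ := by group
  rw [e, h _ (hl' a ha), h' a ha, mul_assoc]

theorem Sc_inv {l : G} {x : k} (hl : l ∈ L) (h : Sc V R j φ l x) : Sc V R j φ l⁻¹ x⁻¹ := by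
  intro a ha
  have h1 := h _ (ld.conjU b (inv_mem hl) ha)
  have e : l * (l⁻¹ * a * l⁻¹⁻¹) * l⁻¹ = a := by group
  rw [e] at h1
  by_cases hx : x = 0
  · -- impossible unless everything is trivial
    obtain ⟨a₀, ha₀, h0⟩ := pk_surj kd b 1
    have h2 := h _ (ld.conjU b (inv_mem hl) ha₀)
    have e2 : l * (l⁻¹ * a₀ * l⁻¹⁻¹) * l⁻¹ = a₀ := by group
    rw [e2, h0, hx, zero_mul] at h2
    exact absurd h2 one_ne_zero
  · rw [h1, ← mul_assoc, inv_mul_cancel₀ hx, one_mul]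

/-- elements of `C` -/
theorem Sc_C {c : G} (hc : c ∈ L) (hcK : c ∈ K) : Sc V R j φ c (ent (φ ⟨c, hcK⟩) 0 0 ^ 2) := fun a ha =>
  pk_conj kd hcK (ld.ent10 b kd hc hcK) (le_sup_right (a := WW V (R i)) ha)

theorem eq_one_of_Sc [Finite G] {c : G} (hc : c ∈ L) (hcK : c ∈ K) (h : Sc V R j φ c 1) : c = 1 := by
  have := kd.charP b
  apply ld.eq_one_of_ent b kd hc hcK
  obtain ⟨a, ha, h0⟩ := pk_surj kd b 1
  have h1 := ld.Sc_C b kd hc hcK a ha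
  rw [h a ha, h0, mul_one, mul_one] at h1
  exact sq_eq_one h1.symm

theorem NK {l : G} (hl : l ∈ L) : l ∈ normalizer (K : Set G) := by
  have _ := b
  exact kd.NK (ld.Ni hl)

variable [Finite G] {F : Type z} [Field F] [Finite F]
  [CharP F 2] {v : F → F → G} {w1 w2 : F → G} (c : Coord V R i j v w1 w2)
  (NAe : ∀ g ∈ normalizer (R i : Set G), cj g (WW V (R i) ⊔ UU V R j) = WW V (R i) ⊔ UU V R j → cj g V = V)
include c NAe

theorem exists_Sc {l : G} (hl : l ∈ L) : ∃ x : k, x ≠ 0 ∧ Sc V R j φ l x := by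
  obtain ⟨c', hc', hcK, t, ht, htX, rfl⟩ := ld.CT l hl
  obtain ⟨κ, hκ, h⟩ := exists_scal b c kd NAe (t := t) ⟨htX, ld.Ni ht, ld.Nj ht⟩
  have hd := det_eq (φ ⟨c', hcK⟩)
  rw [ld.ent10 b kd hc' hcK, mul_zero, sub_zero] at hd
  exact ⟨_, mul_ne_zero (pow_ne_zero 2 (left_ne_zero_of_mul_eq_one hd)) hκ,
    Sc_mul b kd (fun a ha => ld.conjU b ht ha) (ld.Sc_C b kd hc' hcK) h⟩

/-- every scalar is induced by `C` -/
theorem exists_C {x : k} (hx : x ≠ 0) : ∃ c' ∈ L, ∃ hcK : c' ∈ K, ent (φ ⟨c', hcK⟩) 0 0 = x := by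
  obtain ⟨g, hg, h⟩ := exists_ent b c kd NAe hx
  obtain ⟨y, hy, c', hc', hcK, e⟩ := ld.K_mul g hg
  refine ⟨c', hc', hcK, ?_⟩
  obtain ⟨h1, h2⟩ := h hg.1
  have hyS : y ∈ WW V (R i) ⊔ UU V R j := by
    rw [kd.S_eq b]
    exact (le_sup_right : YY V R ≤ _) hy
  have e1 : (⟨g, hg.1⟩ : K) = ⟨y, kd.S_le hyS⟩ * ⟨c', hcK⟩ := Subtype.ext e
  rw [e1, map_mul, pk_eq kd hyS, ent_mul, up_00, up_01, ld.ent10 b kd hc' hcK, mul_zero, add_zero, one_mul] at h2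
  exact h2

theorem comm_K {x y : G} (hx : x ∈ L) (hxK : x ∈ K) (hy : y ∈ L) : x * y = y * x := by
  obtain ⟨s, hs, h1⟩ := ld.exists_Sc b kd c NAe hx
  obtain ⟨s', hs', h2⟩ := ld.exists_Sc b kd c NAe hy
  have h3 := ld.Sc_inv b kd hx h1
  have h4 := ld.Sc_inv b kd hy h2
  have h5 : Sc V R j φ (x * (y * (x⁻¹ * y⁻¹))) (s * (s' * (s⁻¹ * s'⁻¹))) :=
    Sc_mul b kd (fun a ha => ld.conjU b (mul_mem hy (mul_mem (inv_mem hx) (inv_mem hy))) ha) h1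
      (Sc_mul b kd (fun a ha => ld.conjU b (mul_mem (inv_mem hx) (inv_mem hy)) ha) h2
        (Sc_mul b kd (fun a ha => ld.conjU b (inv_mem hy) ha) h3 h4))
  have e1 : s * (s' * (s⁻¹ * s'⁻¹)) = 1 := by
    field_simp
  rw [e1] at h5
  have h6 : x * (y * (x⁻¹ * y⁻¹)) ∈ K := by
    have e : x * (y * (x⁻¹ * y⁻¹)) = x * (y * x⁻¹ * y⁻¹) := by group
    rw [e]
    exact mul_mem hxK (conj_mem_of_normalizer (ld.NK b kd hy) (inv_mem hxK))
  have h7 := ld.eq_one_of_Sc b kd (mul_mem hx (mul_mem hy (mul_mem (inv_mem hx) (inv_mem hy)))) h6 h5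
  have e2 : x * (y * (x⁻¹ * y⁻¹)) = x * y * (y * x)⁻¹ := by group
  rw [e2, mul_inv_eq_one] at h7
  exact h7

theorem comm_X (hC : centralizer (WW V (R i) : Set G) ≤ R i) {x y : G} (hx : x ∈ L) (hxX : x ∈ XX V R) (hy : y ∈ L)
    (hyX : y ∈ XX V R) : x * y = y * x := by
  obtain ⟨M, _, _, p1, p2, ym⟩ := c.exists_yMod b.toBT
  obtain ⟨s, hs, h1, -⟩ := Tor.exists_tor ym b.toBT c hxX (ld.Ni hx) (ld.Nj hx)
  obtain ⟨s', hs', h2, -⟩ := Tor.exists_tor ym b.toBT c hyX (ld.Ni hy) (ld.Nj hy)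
  have hinv : ∀ {t : G} {r : F}, r ≠ 0 → (∀ d e, t * v d e * t⁻¹ = v (r * d) (r⁻¹ * e)) →
      ∀ d e, t⁻¹ * v d e * t = v (r⁻¹ * d) (r * e) := by
    intro t r hr h d e
    have h3 := h (r⁻¹ * d) (r * e)
    rw [← mul_assoc, ← mul_assoc, mul_inv_cancel₀ hr, inv_mul_cancel₀ hr, one_mul, one_mul] at h3
    rw [← h3]; group
  have hL : x * y * x⁻¹ * y⁻¹ ∈ L := mul_mem (mul_mem (mul_mem hx hy) (inv_mem hx)) (inv_mem hy)
  have h5 : x * y * x⁻¹ * y⁻¹ = 1 := by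
    refine Tor.eq_one_or ym b.toBT c
      (mul_mem (mul_mem (mul_mem hxX hyX) (inv_mem hxX)) (inv_mem hyX)) (ld.Ni hL) (ld.Nj hL) (fun d e => ?_)
      (ld.odd_order hL) hC
    have e1 : x * y * x⁻¹ * y⁻¹ * v d e * (x * y * x⁻¹ * y⁻¹)⁻¹ =
      x * (y * (x⁻¹ * (y⁻¹ * v d e * y) * x) * y⁻¹) * x⁻¹ := by group
    rw [e1, hinv hs' h2, hinv hs h1, h2, h1]
    congr 1 <;> field_simp
  rw [mul_inv_eq_one, mul_inv_eq_iff_eq_mul] at h5
  exact h5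

theorem L_comm (hC : centralizer (WW V (R i) : Set G) ≤ R i) : ∀ x ∈ L, ∀ y ∈ L, x * y = y * x := by
  intro x hx y hy
  obtain ⟨c₁, h1, h1K, t₁, ht₁, ht₁X, rfl⟩ := ld.CT x hx
  obtain ⟨c₂, h2, h2K, t₂, ht₂, ht₂X, rfl⟩ := ld.CT y hy
  have e1 := ld.comm_K b kd c NAe h1 h1K hy
  have e2 := ld.comm_K b kd c NAe h2 h2K ht₁
  have e3 := ld.comm_X b kd c NAe hC ht₁ ht₁X ht₂ ht₂X
  calc c₁ * t₁ * (c₂ * t₂) = c₁ * (t₁ * c₂) * t₂ := by group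
    _ = c₁ * (c₂ * t₁) * t₂ := by rw [e2]
    _ = c₁ * c₂ * (t₁ * t₂) := by group
    _ = c₁ * (c₂ * t₂) * t₁ := by rw [e3]; group
    _ = c₂ * t₂ * (c₁ * t₁) := by rw [e1]; group

/-- `L = C Z` -/
theorem dec {l : G} (hl : l ∈ L) :
    ∃ c' ∈ L ⊓ K, ∃ z ∈ L ⊓ cenMod (WW V (R i)) K, l = c' * z := by
  have := kd.finite
  have := kd.charP b
  obtain ⟨κ, hκ, h1⟩ := ld.exists_Sc b kd c NAe hl
  obtain ⟨r, hr⟩ := exists_sqrt κ
  have hr0 : r ≠ 0 := by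
    rintro rfl
    exact hκ (by rw [← hr]; ring)
  obtain ⟨c', hc', hcK, hc2⟩ := ld.exists_C b kd c NAe hr0
  have h2 := ld.Sc_C b kd hc' hcK
  rw [hc2, hr] at h2
  have h3 : Sc V R j φ (c'⁻¹ * l) (κ⁻¹ * κ) :=
    Sc_mul b kd (fun a ha => ld.conjU b hl ha) (ld.Sc_inv b kd hc' h2) h1
  rw [inv_mul_cancel₀ hκ] at h3
  have hz : c'⁻¹ * l ∈ L := mul_mem (inv_mem hc') hl
  refine ⟨c', mem_inf.2 ⟨hc', hcK⟩, c'⁻¹ * l, mem_inf.2 ⟨hz, ?_⟩, by group⟩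
  set x := c'⁻¹ * l with hx
  have hxW : x ∈ normalizer (WW V (R i) : Set G) := normalizer_le_WW V (R i) (ld.Ni hz)
  obtain ⟨α, hα⟩ := exists_aut kd.surj kd.ker (ld.NK b kd hz) hxW
  have hconj : ∀ g : K, x * g * x⁻¹ ∈ K := fun g => conj_mem_of_normalizer (ld.NK b kd hz) g.2
  have hαu : ∀ y : k, α (up y) = up y := by
    intro y
    obtain ⟨a, ha, hy⟩ := pk_surj kd b y
    have haS : a ∈ WW V (R i) ⊔ UU V R j := le_sup_right (a := WW V (R i)) ha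
    have haS' : x * a * x⁻¹ ∈ WW V (R i) ⊔ UU V R j := le_sup_right (a := WW V (R i)) (ld.conjU b hz ha)
    have h4 := hα ⟨a, kd.S_le haS⟩ ⟨x * a * x⁻¹, kd.S_le haS'⟩ rfl
    rw [pk_eq kd haS, pk_eq kd haS', h3 a ha, one_mul, hy] at h4
    exact h4
  have hpow : ∀ n : ℕ, ∀ g g' : K, (g' : G) = x ^ n * g * (x ^ n)⁻¹ → (α ^ n) (φ g) = φ g' := by
    intro n
    induction n with
    | zero =>
      intro g g' e
      have e1 : g' = g := Subtype.ext (by rw [e]; simp)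
      rw [pow_zero, MulAut.one_apply, e1]
    | succ n ih =>
      intro g g' e
      have h5 : x ^ n * g * (x ^ n)⁻¹ ∈ K := conj_mem_of_normalizer (pow_mem (ld.NK b kd hz) n) g.2
      have h6 := ih g ⟨_, h5⟩ rfl
      rw [pow_succ', MulAut.mul_apply, h6]
      apply hα
      rw [e, pow_succ']
      change x * x ^ n * (g : G) * (x * x ^ n)⁻¹ = x * (x ^ n * g * (x ^ n)⁻¹) * x⁻¹
      group
  have hα1 : α ^ orderOf x = 1 := by
    ext1 y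
    obtain ⟨g, rfl⟩ := kd.surj y
    rw [hpow (orderOf x) g g (by rw [pow_orderOf_eq_one]; group), MulAut.one_apply]
  have hα2 := eq_one_of_up (ld.odd_order hz) hα1 hαu
  refine ⟨hxW, fun g hg => ?_⟩
  have h5 := hα ⟨g, hg⟩ ⟨x * g * x⁻¹, hconj ⟨g, hg⟩⟩ rfl
  rw [hα2, MulAut.one_apply] at h5
  have h6 : φ (⟨x * g * x⁻¹, hconj ⟨g, hg⟩⟩ * (⟨g, hg⟩ : K)⁻¹) = 1 := by
    rw [map_mul, map_inv, ← h5, mul_inv_cancel]
  exact (kd.ker _).1 h6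

end LD

section final

variable [Finite G] {F : Type z} [Field F] [Finite F] [CharP F 2] {v : F → F → G} {w1 w2 : F → G} (b : BTC V R)
  (c : Coord V R i j v w1 w2) (kd : KD V R i j K φ)
  (NAe : ∀ g ∈ normalizer (R i : Set G), cj g (WW V (R i) ⊔ UU V R j) = WW V (R i) ⊔ UU V R j → cj g V = V)
include b c kd NAe

theorem exists_ne_k {s : F} (hs : s ≠ 0) (hs1 : s ≠ 1) : ∃ l : k, l ≠ 0 ∧ l ≠ 1 := by
  obtain ⟨M, _, _, p1, p2, y⟩ := c.exists_yMod b.toBT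
  have hs' := inv_ne_zero hs
  have hX := c.hh_mem_X b.toBT s⁻¹
  have h1 := cj_eq_self_iff.1 (c.hh_R1 b.toBT hs')
  have h2 := cj_eq_self_iff.1 (c.hh_R2 b.toBT hs')
  obtain ⟨κ, hκ, h3⟩ := exists_scal b c kd NAe (t := hh w1 w2 s⁻¹) ⟨hX, h1, h2⟩
  refine ⟨κ, hκ, ?_⟩
  rintro rfl
  obtain ⟨e, he, hV, -, h4⟩ := Tor.exists_tor y b.toBT c hX h1 h2
  have h5 := (c.v_inj ((hV 1 0).symm.trans (c.hh_act hs' 1 0))).1
  rw [mul_one, mul_one] at h5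
  obtain ⟨a, ha, h6⟩ := pk_surj kd b 1
  obtain ⟨h7, h8⟩ := h4 a ha
  have h9 := (pk_eq_iff kd b h7 ha).1 (by rw [h3 a ha, one_mul])
  rw [← y.p2_eq_iff h7 ha, h8, h5, inv_inv] at h9
  have h10 : (s - 1) • p2 a = 0 := by rw [sub_smul, one_smul, h9, sub_self]
  have h11 := (y.ker2 a ha).1 ((smul_eq_zero.1 h10).resolve_left (sub_ne_zero.2 hs1))
  rw [(pk_eq_zero kd (le_sup_right (a := WW V (R i)) ha)).2 (D_le_W V R i h11)] at h6
  exact zero_ne_one h6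

variable (ld : LD V R i j K L)
include ld

omit kd NAe in
theorem exists_T_ne {s : F} (hs : s ≠ 0) (hs1 : s ≠ 1) : ∃ t ∈ L, t ∈ XX V R ∧ t ≠ 1 := by
  have hX := c.hh_mem_X b.toBT s
  have h1 := cj_eq_self_iff.1 (c.hh_R1 b.toBT hs)
  have h2 := cj_eq_self_iff.1 (c.hh_R2 b.toBT hs)
  obtain ⟨y, hy, t, ht, htX, e⟩ := ld.X_mul (hh w1 w2 s) ⟨hX, h1, h2⟩
  refine ⟨t, ht, htX, ?_⟩
  rintro rfl
  rw [mul_one] at e
  have h3 := mem_centralizer_iff.1 (YY_le_cen hy) _ (c.v_mem 1 0)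
  have h4 := c.hh_act hs 1 0
  rw [e, ← h3, mul_inv_cancel_right] at h4
  have h5 := (c.v_inj h4).1
  rw [mul_one] at h5
  exact hs1 h5.symm

/-- **the Weyl element** -/
theorem exists_w (hC : centralizer (WW V (R i) : Set G) ≤ R i) (hk : ∃ l : k, l ≠ 0 ∧ l ≠ 1) :
    ∃ (w : G) (hw : w ∈ K), ent (φ ⟨w, hw⟩) 1 0 ≠ 0 ∧ w * w ∈ WW V (R i) ∧ cj w L = L ∧
      (∀ x ∈ L ⊓ K, w * x * w⁻¹ = x⁻¹) ∧ ∀ x ∈ L ⊓ cenMod (WW V (R i)) K, w * x * w⁻¹ = x := by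
  have := kd.finite
  have := kd.charP b
  set W := WW V (R i) with hW
  obtain ⟨l, hl, hl1⟩ := hk
  obtain ⟨c₁, hc₁, hc₁K, h1⟩ := ld.exists_C b kd c NAe hl
  obtain ⟨n, hn2, hn10, hn⟩ := exists_weyl (S := {A | ∃ x ∈ L, ∃ hx : x ∈ K, φ ⟨x, hx⟩ = A})
    (by rintro _ ⟨x, hx, hxK, rfl⟩; exact ld.ent10 b kd hx hxK)
    (by
      rintro _ ⟨x, hx, hxK, rfl⟩ _ ⟨y, hy, hyK, rfl⟩
      rw [← map_mul, ← map_mul]
      exact congrArg φ (Subtype.ext (ld.comm_K b kd c NAe hx hxK hy)))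
    (A₁ := φ ⟨c₁, hc₁K⟩) ⟨c₁, hc₁, hc₁K, rfl⟩ (by rw [h1]; exact hl1)
  obtain ⟨w₀, hw₀⟩ := kd.surj n
  have hKW : K ≤ normalizer (W : Set G) := kd.K_le_N.trans (normalizer_le_WW V (R i))
  have hLW : L ≤ normalizer (W : Set G) := ld.Ni.trans (normalizer_le_WW V (R i))
  have hWL : W ⊓ L = ⊥ := inf_eq_bot_of_odd (b.W_isPGroup i) ld.odd
  have hidx : W.relIndex (W ⊔ L) = Nat.card L := by
    rw [relIndex_sup_of_le hLW, ← inf_relIndex_right, hWL, relIndex_bot_left]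
  have nt' : NT W (W ⊔ L) := ⟨le_sup_left, sup_le le_normalizer hLW, b.W_isPGroup i, by rw [hidx]; exact ld.odd⟩
  -- elements of `C`
  have hcC : ∀ g : K, φ g = n → ∀ x ∈ L, x ∈ K → (g : G) * x * (g : G)⁻¹ * x ∈ W := by
    intro g hg x hx hxK
    have h2 := hn _ ⟨x, hx, hxK, rfl⟩
    rw [← hg, ← map_inv, ← map_mul, ← map_mul, ← map_inv] at h2
    have h3 : φ (g * ⟨x, hxK⟩ * g⁻¹ * ⟨x, hxK⟩) = 1 := by
      rw [map_mul, h2, ← map_mul, inv_mul_cancel, map_one]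
    exact (kd.ker _).1 h3
  have hcZ : ∀ g ∈ K, ∀ x ∈ L ⊓ cenMod W K, g * x * g⁻¹ * x⁻¹ ∈ W := by
    intro g hg x hx
    have h2 := hx.2.2 g⁻¹ (inv_mem hg)
    have h3 := conj_mem_of_normalizer (hKW hg) h2
    have e : g * (x * g⁻¹ * x⁻¹ * g⁻¹⁻¹) * g⁻¹ = g * x * g⁻¹ * x⁻¹ := by group
    rwa [e] at h3
  have hle : cj (w₀ : G) L ≤ W ⊔ L := by
    rw [cj_le_iff]
    intro x hx
    obtain ⟨c', hc', z', hz', rfl⟩ := ld.dec b kd c NAe hx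
    have h2 := hcC w₀ hw₀ c' hc'.1 hc'.2
    have h3 := hcZ w₀ w₀.2 z' hz'
    have e : (w₀ : G) * (c' * z') * (w₀ : G)⁻¹ = ((w₀ : G) * c' * (w₀ : G)⁻¹ * c') * c'⁻¹ *
        (((w₀ : G) * z' * (w₀ : G)⁻¹ * z'⁻¹) * z') := by group
    rw [e]
    exact mul_mem (mul_mem ((le_sup_left : W ≤ _) h2) ((le_sup_right : L ≤ _) (inv_mem hc'.1)))
      (mul_mem ((le_sup_left : W ≤ _) h3) ((le_sup_right : L ≤ _) hz'.1))
  obtain ⟨m, hm, e1⟩ := nt'.conj (H := cj (w₀ : G) L) (K := L) ⟨hle, by rw [card_cj, hidx]⟩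
    ⟨le_sup_right, hidx.symm⟩
  have hmK := kd.WK hm
  have hmφ : φ ⟨m, hmK⟩ = 1 := (kd.ker _).2 hm
  have hwK : m * (w₀ : G) ∈ K := mul_mem hmK w₀.2
  have hwn : φ ⟨m * (w₀ : G), hwK⟩ = n := by
    have e2 : (⟨m * (w₀ : G), hwK⟩ : K) = ⟨m, hmK⟩ * w₀ := rfl
    rw [e2, map_mul, hmφ, one_mul, hw₀]
  have hcj : cj (m * (w₀ : G)) L = L := by rw [cj_mul, e1]
  have hwL : ∀ x ∈ L, m * (w₀ : G) * x * (m * (w₀ : G))⁻¹ ∈ L := fun x hx => by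
    have := conj_mem_cj (g := m * (w₀ : G)) hx
    rwa [hcj] at this
  refine ⟨m * (w₀ : G), hwK, by rw [hwn]; exact hn10, ?_, hcj, fun x hx => ?_, fun x hx => ?_⟩
  · have h2 : φ (⟨m * (w₀ : G), hwK⟩ * ⟨m * (w₀ : G), hwK⟩) = 1 := by rw [map_mul, hwn, hn2]
    exact (kd.ker _).1 h2
  · have h2 := hcC ⟨m * (w₀ : G), hwK⟩ hwn x hx.1 hx.2
    have h3 : m * (w₀ : G) * x * (m * (w₀ : G))⁻¹ * x ∈ W ⊓ L := mem_inf.2 ⟨h2, mul_mem (hwL x hx.1) hx.1⟩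
    rw [hWL, mem_bot] at h3
    exact eq_inv_of_mul_eq_one_left h3
  · have h2 := hcZ _ hwK x hx
    have h3 : m * (w₀ : G) * x * (m * (w₀ : G))⁻¹ * x⁻¹ ∈ W ⊓ L :=
      mem_inf.2 ⟨h2, mul_mem (hwL x hx.1) (inv_mem hx.1)⟩
    rw [hWL, mem_bot] at h3
    exact mul_inv_eq_one.1 h3

omit c in
theorem kin : KIn V R i j K φ := { kd := kd, NA := NAe }

/-- `K ∩ N(V) ≤ W A C` -/
theorem KNV_le : K ⊓ normalizer (V : Set G) ≤ WW V (R i) ⊔ UU V R j ⊔ (L ⊓ K) := by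
  have _ := c
  rintro g ⟨hg, hgV⟩
  obtain ⟨j', hj'⟩ := b.perm g hgV j
  have hgi : cj g (R i) = R i := cj_eq_self_iff.2 (kd.K_le_N hg)
  have hne : j' ≠ i := by
    rintro rfl
    exact kd.ne (b.R_index (cj_injective (hgi.trans hj'.symm)))
  obtain ⟨m, hm, e⟩ := b.trans i hne kd.ne.symm
  obtain ⟨y, hy, c', hc', hcK, e2⟩ := ld.K_mul (m * g) (mem_inf.2 ⟨mul_mem (kd.WK hm) hg,
    mem_inf.2 ⟨mul_mem (b.W_le_NV i hm) hgV, by rw [← cj_eq_self_iff, cj_mul, hj', e]⟩⟩)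
  have hyS : y ∈ WW V (R i) ⊔ UU V R j := by
    rw [kd.S_eq b]
    exact (le_sup_right : YY V R ≤ _) hy
  have e3 : g = (m⁻¹ * y) * c' := by
    rw [mul_assoc, ← e2]; group
  rw [e3]
  exact mul_mem ((le_sup_left : WW V (R i) ⊔ UU V R j ≤ _)
    (mul_mem (inv_mem ((le_sup_left : WW V (R i) ≤ WW V (R i) ⊔ UU V R j) hm)) hyS))
    ((le_sup_right : L ⊓ K ≤ _) (mem_inf.2 ⟨hc', hcK⟩))

/-- `X ∩ N(R i) ≤ W A T` -/
theorem XNR_le {x : G} (hx : x ∈ XX V R) (hxi : x ∈ normalizer (R i : Set G)) :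
    ∃ p ∈ WW V (R i) ⊔ UU V R j, ∃ t ∈ L ⊓ XX V R, x = p * t := by
  have _ := c
  have _ := NAe
  obtain ⟨j', hj'⟩ := b.perm x (b.X_le_NV hx) j
  have hgi : cj x (R i) = R i := cj_eq_self_iff.2 hxi
  have hne : j' ≠ i := by
    rintro rfl
    exact kd.ne (b.R_index (cj_injective (hgi.trans hj'.symm)))
  obtain ⟨m, hm, e⟩ := b.trans i hne kd.ne.symm
  obtain ⟨y, hy, t, ht, htX, e2⟩ := ld.X_mul (m * x) (mem_inf.2 ⟨mul_mem (W_le_X V R i hm) hx,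
    mem_inf.2 ⟨mul_mem (b.W_le_N i hm) hxi, by rw [← cj_eq_self_iff, cj_mul, hj', e]⟩⟩)
  have hyS : y ∈ WW V (R i) ⊔ UU V R j := by
    rw [kd.S_eq b]
    exact (le_sup_right : YY V R ≤ _) hy
  refine ⟨m⁻¹ * y, mul_mem (inv_mem ((le_sup_left : WW V (R i) ≤ WW V (R i) ⊔ UU V R j) hm)) hyS, t,
    mem_inf.2 ⟨ht, htX⟩, ?_⟩
  rw [mul_assoc, ← e2]; group

end final

end torus

section main

variable {G : Type u} [Group G] [Finite G] {ι : Type v} {V : Subgroup G} {R : ι → Subgroup G} {i j : ι} {k : Type w}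
  [Field k] {K : Subgroup G} {φ : K →* Matrix.SpecialLinearGroup (Fin 2) k} {F : Type z} [Field F] [Finite F]
  [CharP F 2] {v : F → F → G} {w1 w2 : F → G}

/-- **the configuration of `SQEnd`** from `BTC`, `Coord`, `KD` and `N_{N(R)}(W A) ≤ N(V)`. -/
theorem exists_cfgI (b : BTC V R) (c : Coord V R i j v w1 w2) (kd : KD V R i j K φ)
    (hC : centralizer (WW V (R i) : Set G) ≤ R i)
    (NAe : ∀ g ∈ normalizer (R i : Set G), cj g (WW V (R i) ⊔ UU V R j) = WW V (R i) ⊔ UU V R j → cj g V = V)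
    (hF : 4 ≤ Nat.card F) :
    ∃ (L : Subgroup G) (w : G), CfgI (R i) (WW V (R i)) V (UU V R i) (DD V R) (UU V R j) K L (L ⊓ K)
        (L ⊓ cenMod (WW V (R i)) K) (L ⊓ XX V R) w ∧ w ∉ normalizer (V : Set G) ∧ LD V R i j K L ∧
      (∀ g ∈ K, g ∈ normalizer (V : Set G) → g ∈ WW V (R i) ⊔ UU V R j ⊔ (L ⊓ K)) ∧
      (∀ x ∈ XX V R, x ∈ normalizer (R i : Set G) → ∃ p ∈ WW V (R i) ⊔ UU V R j, ∃ t ∈ L ⊓ XX V R, x = p * t) ∧
      Cpl (WW V (R i) ⊔ UU V R j) ((XX V R ⊓ normalizer (R i : Set G)) ⊔ (K ⊓ normalizer (V : Set G))) L := by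
  have := kd.finite
  have := kd.charP b
  obtain ⟨s, hs, hs1⟩ := exists_ne_one hF
  obtain ⟨L, ld, hcpl⟩ := exists_LD b c kd
  obtain ⟨w, hw, hw10, hw2, hwL, hwC, hwZ⟩ := exists_w b c kd NAe ld hC (exists_ne_k b c kd NAe hs hs1)
  have n := kin b kd NAe ld
  have hwV : w ∉ normalizer (V : Set G) := fun h => hw10 ((n.mem_NV_iff b.toBT (g := ⟨w, hw⟩)).1 h)
  have l := ln_of_bt b kd.ne hC
  obtain ⟨M, _, _, p1, p2, ym⟩ := c.exists_yMod b.toBT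
  have hcF : Nat.card (R i) = Nat.card F := by
    refine (Nat.card_eq_of_bijective (fun x : F => (⟨v x 0, (c.mem_R1 _).2 ⟨x, rfl⟩⟩ : R i)) ⟨?_, ?_⟩).symm
    · intro x y h
      exact (c.v_inj (congrArg Subtype.val h)).1
    · rintro ⟨y, hy⟩
      obtain ⟨x, hx⟩ := (c.mem_R1 y).1 hy
      exact ⟨x, Subtype.ext hx⟩
  have hcov : ∀ m ∈ WW V (R i), ∃ x ∈ cj w V, x⁻¹ * m ∈ UU V R i := fun m hm => n.cov b.toBT hw hwV hm
  have hwR : w ∈ normalizer (R i : Set G) := kd.K_le_N hw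
  have hwW : w ∈ normalizer (WW V (R i) : Set G) := normalizer_le_WW V (R i) hwR
  have hopp : ∀ x ∈ UU V R i, x ∈ cj w V → x ∈ R i := by
    intro x hx hxV
    by_contra hxR
    have l' := l.cj hwR hwW
    -- `V ≤ U^w`
    have h1 : V ≤ cj w (UU V R i) := fun y hy =>
      l'.cen x hxV hxR y (V_le_WW V (R i) hy) (l.UV x hx y hy).symm
    have h2 : cj w V ≤ UU V R i := by
      intro y hy
      refine mem_inf.2 ⟨?_, mem_centralizer_iff.2 fun a ha => (l'.UV a (h1 ha) y hy)⟩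
      have := cj_mono (g := w) (V_le_WW V (R i)) hy
      rwa [cj_eq_self_iff.2 hwW] at this
    have h3 : WW V (R i) ≤ UU V R i := by
      intro m hm
      obtain ⟨y, hy, h4⟩ := hcov m hm
      have := mul_mem (h2 hy) h4
      rwa [mul_inv_cancel_left] at this
    have h4 := b.relIndex_U i
    rw [relIndex_eq_one.2 h3, hcF] at h4
    omega
  have hLW : L ≤ normalizer (WW V (R i) : Set G) := ld.Ni.trans (normalizer_le_WW V (R i))
  have hLU : L ≤ normalizer (UU V R i : Set G) := fun g hg => by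
    rw [← cj_eq_self_iff, b.cj_UU (ld.NV hg) (cj_eq_self_iff.2 (ld.Ni hg))]
  have hLA : L ≤ normalizer (UU V R j : Set G) := fun g hg => by
    rw [← cj_eq_self_iff, b.cj_UU (ld.NV hg) (cj_eq_self_iff.2 (ld.Nj hg))]
  have hT : ∀ t ∈ L ⊓ XX V R, t ∈ XX V R ∧ t ∈ normalizer (R i : Set G) ∧ t ∈ normalizer (R j : Set G) :=
    fun t ht => ⟨ht.2, ld.Ni ht.1, ld.Nj ht.1⟩
  have hX := fun (x : G) (hx : x ∈ XX V R) (hxi : x ∈ normalizer (R i : Set G)) => XNR_le b c kd NAe ld hx hxi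
  have hK := KNV_le b c kd NAe ld
  refine ⟨L, w, ?_, hwV, ld, fun g hg h => hK (mem_inf.2 ⟨hg, h⟩), hX, ?_⟩
  · exact
    { l with
      AWD := fun a ha => (mem_D_iff kd b ha.1).1 ha.2
      WK := kd.WK
      AK := kd.UK
      KR := kd.KR
      KW := kd.K_le_N.trans (normalizer_le_WW V (R i))
      CL := inf_le_left
      ZL := inf_le_left
      TL := inf_le_left
      CK := inf_le_right
      L_comm := ld.L_comm b kd c NAe hC
      L_odd := fun x hx => ld.odd_order hx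
      ZK := fun z hz g hg => hz.2.2 g hg
      dec := fun t ht => ld.dec b kd c NAe ht.1
      LR := ld.Ni
      LW := hLW
      LV := ld.NV
      LU := hLU
      LD := ld.NV.trans b.NV_le_ND
      LA := hLA
      wK := hw
      w2 := hw2
      wL := fun x hx => by
        have := conj_mem_cj (g := w) hx
        rwa [hwL] at this
      wL' := fun x hx => by
        rw [← hwL] at hx
        exact mem_cj.1 hx
      wC := hwC
      wZ := hwZ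
      WV := b.W_le_NV i
      opp := hopp
      cov := hcov
      Ctr := fun a ha haD a' ha' haD' => by
        have h1 : pk φ a ≠ 0 := fun h => haD ((mem_D_iff kd b ha).1
          ((pk_eq_zero kd (le_sup_right (a := WW V (R i)) ha)).1 h))
        have h2 : pk φ a' ≠ 0 := fun h => haD' ((mem_D_iff kd b ha').1
          ((pk_eq_zero kd (le_sup_right (a := WW V (R i)) ha')).1 h))
        obtain ⟨r, hr⟩ := exists_sqrt (pk φ a' / pk φ a)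
        have hr0 : r ≠ 0 := by
          rintro rfl
          have h3 : pk φ a' / pk φ a = 0 := by rw [← hr]; ring
          exact div_ne_zero h2 h1 h3
        obtain ⟨c', hc', hcK, h3⟩ := ld.exists_C b kd c NAe hr0
        have h4 := ld.Sc_C b kd hc' hcK a ha
        rw [h3, hr, div_mul_cancel₀ _ h1] at h4
        exact ⟨c', mem_inf.2 ⟨hc', hcK⟩, (pk_eq_iff kd b ha' (ld.conjU b hc' ha)).1 h4.symm⟩
      T_ne := by
        obtain ⟨t, ht, htX, h⟩ := exists_T_ne b c ld hs hs1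
        exact ⟨t, mem_inf.2 ⟨ht, htX⟩, h⟩
      t1 := fun t ht h1 => Tor.t1 ym b.toBT c (hT t ht).1 (hT t ht).2.1 (hT t ht).2.2 (ld.odd_order ht.1) hC h1
      t2 := Tor.t2 b.toBT c hX
      t3 := fun t ht => Tor.t3 ym b.toBT c (hT t ht).1 (hT t ht).2.1 (hT t ht).2.2
      t4 := fun t ht => Tor.t4 ym b.toBT c (hT t ht).1 (hT t ht).2.1 (hT t ht).2.2
      t5 := fun t ht => Tor.t5 ym b.toBT c (hT t ht).1 (hT t ht).2.1 (hT t ht).2.2
      t6 := fun t ht h1 => Tor.t6 ym b.toBT c (hT t ht).1 (hT t ht).2.1 (hT t ht).2.2 (ld.odd_order ht.1) hC h1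
      rad := fun x _ h => hC (mem_centralizer_iff.2 fun y hy => (h y hy).symm)
      gen := fun N hN => iSup_le fun g => by
        obtain ⟨x, hx, h⟩ := kd.frat b NAe g.2
        have e : (g : G) = x * (x⁻¹ * g) := by group
        rw [e, cj_mul, cj_eq_self_iff.2 h]
        exact hN x hx
      VA := fun x hx a ha => mem_centralizer_iff.1 (UU_le_cen j ha) x hx
      bru := fun g hg => by
        by_cases hgV : g ∈ normalizer (V : Set G)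
        · exact Or.inl (hK (mem_inf.2 ⟨hg, hgV⟩))
        · right
          obtain ⟨y, hy, e⟩ := n.exists_trans b.toBT (x := ⟨w, hw⟩) (x' := ⟨g, hg⟩) hw10
            (fun h0 => hgV (n.mem_NV_of b.toBT (g := ⟨g, hg⟩) h0))
          have hyY := hy
          rw [b.Y_eq kd.ne.symm] at hyY
          obtain ⟨a, ha, u, hu, rfl⟩ := exists_mul_of_le (A := UU V R j) (B := UU V R i)
            (fun g hg => by
              rw [← cj_eq_self_iff, b.cj_UU (cen_le_NV V (UU_le_cen i hg))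
                (cj_eq_self_iff.2 (b.cen_le_N j (UU_le_cen i hg)))]) hyY
          refine ⟨a, ha, (w⁻¹ * u * w) * ((a * u * w)⁻¹ * g), mul_mem ?_ (hK (mem_inf.2 ⟨?_, e⟩)), by group⟩
          · exact (le_sup_left : WW V (R i) ⊔ UU V R j ≤ _) ((le_sup_left : WW V (R i) ≤ _)
              (conj_inv_mem_of_normalizer hwW (UU_le_WW i hu)))
          · exact mul_mem (inv_mem (mul_mem (kd.Y_le_K b hy) hw)) hg
      hV := fun h => by
        obtain ⟨x, hx, hx1⟩ := b.exists_ne j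
        have h1 := h (b.R_le j hx)
        obtain ⟨d, rfl⟩ := (c.mem_R1 _).1 h1
        obtain ⟨e, he⟩ := (c.mem_R2 _).1 hx
        have h2 := (c.v_inj he).1
        rw [← h2, c.v_zero] at hx1
        exact hx1 rfl
      hU := fun h => by
        have h1 := n.relIndex_D b.toBT
        rw [relIndex_eq_one.2 h] at h1
        obtain ⟨l, hl, hl1⟩ := exists_ne_k b c kd NAe hs hs1
        have h2 : Nontrivial k := ⟨⟨l, 0, hl⟩⟩
        exact absurd h1.symm (Finite.one_lt_card_iff_nontrivial.2 h2).ne' }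
  · have hSB : WW V (R i) ⊔ UU V R j ≤ (XX V R ⊓ normalizer (R i : Set G)) ⊔ (K ⊓ normalizer (V : Set G)) :=
      (sup_le (le_inf kd.WK (b.W_le_NV i)) (le_inf kd.UK ((UU_le_cen j).trans (cen_le_NV V)))).trans le_sup_right
    have hLB : L ≤ (XX V R ⊓ normalizer (R i : Set G)) ⊔ (K ⊓ normalizer (V : Set G)) :=
      hcpl.HB.trans (sup_le ((inf_le_inf_left K inf_le_left).trans le_sup_right)
        ((inf_le_inf_left _ inf_le_left).trans le_sup_left))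
    have hLS : L ≤ normalizer ((WW V (R i) ⊔ UU V R j : Subgroup G) : Set G) := fun g hg => by
      rw [← cj_eq_self_iff]
      exact kd.S_normal b (ld.Ni hg) (ld.NV hg)
    have hB : (XX V R ⊓ normalizer (R i : Set G)) ⊔ (K ⊓ normalizer (V : Set G)) = (WW V (R i) ⊔ UU V R j) ⊔ L := by
      apply le_antisymm
      · refine sup_le ?_ ?_
        · rintro x ⟨hx, hxi⟩
          obtain ⟨p, hp, t, ht, rfl⟩ := hX x hx hxi
          exact mul_mem ((le_sup_left : WW V (R i) ⊔ UU V R j ≤ _) hp) ((le_sup_right : L ≤ _) ht.1)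
        · exact hK.trans (sup_le_sup_left inf_le_left _)
      · exact sup_le hSB hLB
    have hS2 : IsPGroup 2 (WW V (R i) ⊔ UU V R j : Subgroup G) := by
      rw [kd.S_eq b]
      exact (b.W_isPGroup i).to_sup_of_normal_right' (Y_two b.toBT) ((b.W_le_NV i).trans b.NV_le_NY)
    refine ⟨hLB, ?_⟩
    rw [hB, relIndex_sup_of_le hLS, ← inf_relIndex_right, inf_eq_bot_of_odd hS2 ld.odd, relIndex_bot_left]

end main

end Cfsg.Agent.Omega.SQEnd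

end

section


/-!
# (E7) of the end of `b = 2` (bb OMEGA #12947): `C_{W / R}(C) = 1`

`Cfg.cent_C`: an element of `W` centralised by the torus `C` modulo `R` lies in `R`, if some `t ∈ T` has `t³ ≠ 1` or
`|A : D| ≥ 16` (the only exception is `G₂(4)`).
-/

set_option autoImplicit false
set_option linter.unusedSimpArgs false

universe u

namespace Cfsg.Agent.Omega.SQEnd

open Subgroup Cfsg.Agent.Omega.BTwo

variable {G : Type u} [Group G]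

theorem St_mono {H N : Subgroup G} {x g : G} (hHN : H ≤ N) (hg : g ∈ normalizer (N : Set G)) (h : g ∈ St H x) :
    g ∈ St N x := ⟨hg, hHN h.2⟩

namespace Cfg

variable {R W V U D A K L C Z T : Subgroup G} {w : G}

section
variable (h : Cfg R W V U D A K L C Z T w)
include h

theorem not_W_le_U (hV : ¬ V ≤ R) : ¬ W ≤ U := by
  intro hWU
  apply hV
  intro v hv
  have h1 : w * v * w⁻¹ ∈ BTwo.cj w V := conj_mem_cj hv
  have h2 := h.opp _ (hWU (h.ln'.VW h1)) h1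
  have h3 := h.of_R h2
  have e : w⁻¹ * (w * v * w⁻¹) * w = v := by group
  rwa [e] at h3

/-- `T` acts regularly on `(V / R)#` -/
theorem reg {v t : G} (hv : v ∈ V) (hvR : v ∉ R) (ht : t ∈ T) (h1 : t ∈ St R v) : t = 1 := by
  by_contra ht1
  refine h.not_W_le_U (fun h' => hvR (h' hv)) fun m hm => ?_
  refine h.cen v hv hvR m hm ?_
  have hr : v * m * v⁻¹ * m⁻¹ ∈ R := h.WW _ (h.VW hv) _ hm
  have h5 := h.t5 t ht v hv m hm
  have hρ : t⁻¹ * v * t * v⁻¹ ∈ R := by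
    have := ((St R v).inv_mem h1).2
    rwa [inv_inv] at this
  have h6 : (t⁻¹ * v * t) * m * (t⁻¹ * v * t)⁻¹ * m⁻¹ = v * m * v⁻¹ * m⁻¹ := by
    have c1 := h.W_comm_R (mul_mem (mul_mem (h.VW hv) hm) (inv_mem (h.VW hv))) hρ
    calc (t⁻¹ * v * t) * m * (t⁻¹ * v * t)⁻¹ * m⁻¹ =
        (t⁻¹ * v * t * v⁻¹) * (v * m * v⁻¹) * (t⁻¹ * v * t * v⁻¹)⁻¹ * m⁻¹ := by group
      _ = v * m * v⁻¹ * m⁻¹ := by rw [← c1]; group
  rw [h6] at h5
  have h7 := h.t1 t ht ht1 _ hr h5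
  calc m * v = (v * m * v⁻¹ * m⁻¹) * (m * v) := by rw [h7, one_mul]
    _ = v * m := by group

theorem w_inv_t {t : G} (ht : t ∈ T) : w⁻¹ * t * w = w * t * w⁻¹ := by
  obtain ⟨c, hc, z, hz, htc⟩ := h.dec t ht
  have h2 := h.tww hc hz htc
  calc w⁻¹ * t * w = w⁻¹ * (w * (w * t * w⁻¹) * w⁻¹) * w := by rw [h2]
    _ = _ := by group

theorem w_inv_c {c : G} (hc : c ∈ C) : w⁻¹ * c * w = c⁻¹ := by
  have h1 := h.wC c⁻¹ (inv_mem hc)
  rw [inv_inv] at h1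
  calc w⁻¹ * c * w = w⁻¹ * (w * c⁻¹ * w⁻¹) * w := by rw [h1]
    _ = c⁻¹ := by group

theorem St_w {g x : G} (hg : g ∈ St R x) : w⁻¹ * g * w ∈ St R (w⁻¹ * x * w) := by
  refine ⟨mul_mem (mul_mem (inv_mem h.w_R) hg.1) h.w_R, ?_⟩
  have := h.of_R hg.2
  have e : w⁻¹ * g * w * (w⁻¹ * x * w) * (w⁻¹ * g * w)⁻¹ * (w⁻¹ * x * w)⁻¹ =
    w⁻¹ * (g * x * g⁻¹ * x⁻¹) * w := by group
  rw [e]; exact this

/-- (E3) on `V / R` -/
theorem E3V {t v : G} (ht : t ∈ T) (hv : v ∈ V) : t * t * (w * t * w⁻¹) ∈ St R v := by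
  have h1 := h.St_w (h.E3 ht (conj_mem_cj (g := w) hv))
  have e1 : w⁻¹ * (w * v * w⁻¹) * w = v := by group
  have e2 : w⁻¹ * (w * t * w⁻¹ * (w * t * w⁻¹) * t) * w = t * t * (w⁻¹ * t * w) := by group
  rwa [e1, e2, h.w_inv_t ht] at h1

theorem cube {t c z : G} (ht : t ∈ T) (hc : c ∈ C) (hz : z ∈ Z) (htc : t = c * z) :
    c * c * (t * t * (w * t * w⁻¹)) = t * t * t := by
  have htL := h.TL ht
  have hcL := h.CL hc
  have e : c * c * (t * t) = t * t * (c * c) := h.L_comm _ (mul_mem hcL hcL) _ (mul_mem htL htL)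
  rw [h.tw hc hz htc]
  calc c * c * (t * t * (c⁻¹ * z)) = c * c * (t * t) * (c⁻¹ * z) := by group
    _ = t * t * (c * z) := by rw [e]; group
    _ = t * t * t := by rw [← htc]

/-- an element of `V` centralised by `C` modulo `R` is centralised by the cubes of `T` -/
theorem cube_St {v t : G} (hv : v ∈ V) (hC : ∀ c ∈ C, c ∈ St R v) (ht : t ∈ T) : t * t * t ∈ St R v := by
  obtain ⟨c, hc, z, hz, htc⟩ := h.dec t ht
  rw [← h.cube ht hc hz htc]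
  exact mul_mem (mul_mem (hC c hc) (hC c hc)) (h.E3V ht hv)

theorem V_fix_cube {v t : G} (hv : v ∈ V) (hC : ∀ c ∈ C, c ∈ St R v) (ht : t ∈ T) (h3 : t * t * t ≠ 1) :
    v ∈ R := by
  by_contra hvR
  exact h3 (h.reg hv hvR (mul_mem (mul_mem ht ht) ht) (h.cube_St hv hC ht))

theorem comm_mul_V (AV : ∀ a ∈ A, ∀ v ∈ V, a * v = v * a) {e d b : G} (he : e ∈ V) (hd : d ∈ D) (hb : b ∈ A) :
    ∃ r ∈ R, (e * d) * b * (e * d)⁻¹ * b⁻¹ = r * (d * b * d⁻¹ * b⁻¹) := by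
  have hv := h.DA d hd b hb
  refine ⟨_, h.WW e (h.VW he) _ (h.VW hv), ?_⟩
  have c := AV b hb _ (inv_mem he)
  calc (e * d) * b * (e * d)⁻¹ * b⁻¹ = e * (d * b * d⁻¹ * b⁻¹) * (b * e⁻¹) * b⁻¹ := by group
    _ = e * (d * b * d⁻¹ * b⁻¹) * (e⁻¹ * b) * b⁻¹ := by rw [c]
    _ = _ := by group

/-- an element of `D` centralised by `C` modulo `V` lies in `V` -/
theorem D_fix (AV : ∀ a ∈ A, ∀ v ∈ V, a * v = v * a) {d : G} (hd : d ∈ D) (hC : ∀ c ∈ C, c ∈ St V d) :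
    d ∈ V := by
  refine h.DAR d hd fun a ha => ?_
  by_contra hvR
  obtain ⟨t, ht, ht1⟩ := h.T_ne
  obtain ⟨c, hc, z, hz, htc⟩ := h.dec t ht
  have hcL := h.CL hc
  have hzL := h.ZL hz
  have htL := h.TL ht
  have hv := h.DA d hd a ha
  have hccL : c * c ∈ L := mul_mem hcL hcL
  have hb : c * c * a * (c * c)⁻¹ ∈ A := conj_mem_of_normalizer (h.LA hccL) ha
  -- `c² v c⁻²`
  have h1 : ∃ r ∈ R, (c * c) * (d * a * d⁻¹ * a⁻¹) * (c * c)⁻¹ =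
      r * (d * (c * c * a * (c * c)⁻¹) * d⁻¹ * (c * c * a * (c * c)⁻¹)⁻¹) := by
    have h2 : c * c ∈ St V d := mul_mem (hC c hc) (hC c hc)
    obtain ⟨r, hr, e⟩ := h.comm_mul_V AV h2.2 hd hb
    refine ⟨r, hr, ?_⟩
    rw [← e]
    group
  -- `t² v t⁻²`
  have h2 : ∃ r ∈ R, (t * t) * (d * a * d⁻¹ * a⁻¹) * (t * t)⁻¹ =
      r * (d * (c * c * a * (c * c)⁻¹) * d⁻¹ * (c * c * a * (c * c)⁻¹)⁻¹) := by
    have h0 : t ∈ St V d := ⟨h.LV htL, h.t3 t ht d hd⟩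
    have h2 : t * t ∈ St V d := mul_mem h0 h0
    have h3 : z * z * (c * c * a * (c * c)⁻¹) * (z * z)⁻¹ * (c * c * a * (c * c)⁻¹)⁻¹ ∈ D :=
      h.AWD (mem_inf.2 ⟨mul_mem (conj_mem_of_normalizer (h.LA (mul_mem hzL hzL)) hb) (inv_mem hb),
        h.ZK _ (mul_mem hz hz) _ (h.AK hb)⟩)
    have e1 : (t * t) * a * (t * t)⁻¹ =
        (z * z * (c * c * a * (c * c)⁻¹) * (z * z)⁻¹ * (c * c * a * (c * c)⁻¹)⁻¹) * (c * c * a * (c * c)⁻¹) := by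
      have e2 : t * t = z * z * (c * c) := by
        have c1 := h.L_comm _ hcL _ hzL
        rw [htc]
        calc c * z * (c * z) = c * (z * c) * z := by group
          _ = c * (c * z) * z := by rw [c1]
          _ = c * c * (z * z) := by group
          _ = z * z * (c * c) := h.L_comm _ hccL _ (mul_mem hzL hzL)
      rw [e2]; group
    have hd2 : (t * t) * d * (t * t)⁻¹ ∈ D := conj_mem_of_normalizer (h.LD (mul_mem htL htL)) hd
    obtain ⟨r, hr, e3⟩ := h.comm_mul_V AV h2.2 hd hb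
    have e4 : (t * t * d * (t * t)⁻¹ * d⁻¹) * d = t * t * d * (t * t)⁻¹ := by group
    rw [e4] at e3
    obtain ⟨r', hr', e5⟩ := h.comm_mul_left (h.DW hd2) (h.DW h3) (h.VW (h.DA _ hd2 _ hb))
    refine ⟨r' * r, mul_mem hr' hr, ?_⟩
    rw [mul_assoc r' r, ← e3, ← e5, ← e1]
    group
  obtain ⟨r₁, hr₁, e₁⟩ := h1
  obtain ⟨r₂, hr₂, e₂⟩ := h2
  -- `c⁻² t²` centralises `v`
  have h3 : (c * c)⁻¹ * (t * t) ∈ St R (d * a * d⁻¹ * a⁻¹) := by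
    refine ⟨h.LR (mul_mem (inv_mem hccL) (mul_mem htL htL)), ?_⟩
    have h4 := conj_inv_mem_of_normalizer (h.LR hccL) (mul_mem hr₂ (inv_mem hr₁))
    have e : (c * c)⁻¹ * (t * t) * (d * a * d⁻¹ * a⁻¹) * ((c * c)⁻¹ * (t * t))⁻¹ * (d * a * d⁻¹ * a⁻¹)⁻¹ =
        (c * c)⁻¹ * ((t * t) * (d * a * d⁻¹ * a⁻¹) * (t * t)⁻¹ *
          ((c * c) * (d * a * d⁻¹ * a⁻¹) * (c * c)⁻¹)⁻¹) * (c * c) := by
      simp only [mul_inv_rev, inv_inv, mul_assoc, mul_inv_cancel_left, inv_mul_cancel_left, mul_inv_cancel,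
        inv_mul_cancel, mul_one, one_mul]
    rw [e, e₁, e₂]
    have e' : r₂ * (d * (c * c * a * (c * c)⁻¹) * d⁻¹ * (c * c * a * (c * c)⁻¹)⁻¹) *
        (r₁ * (d * (c * c * a * (c * c)⁻¹) * d⁻¹ * (c * c * a * (c * c)⁻¹)⁻¹))⁻¹ = r₂ * r₁⁻¹ := by
      simp only [mul_inv_rev, inv_inv, mul_assoc, mul_inv_cancel_left, inv_mul_cancel_left, mul_inv_cancel,
        inv_mul_cancel, mul_one, one_mul]
    rw [e']
    exact h4
  -- `c⁻² t³` centralises `v`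
  have h4 := h.E3V ht hv
  have h5 : t * t * (w * t * w⁻¹) = ((c * c)⁻¹ * (t * t)) * t := by
    rw [mul_assoc (c * c)⁻¹, ← h.cube ht hc hz htc]; group
  rw [h5] at h4
  have h6 := mul_mem (inv_mem h3) h4
  rw [inv_mul_cancel_left] at h6
  exact ht1 (h.reg hv hvR ht h6)

/-- `C_{W / R}(C) = 1`, given this for `V / R` -/
theorem fix_of (AV : ∀ a ∈ A, ∀ v ∈ V, a * v = v * a) (hV : ¬ V ≤ R) (hU : ¬ U ≤ D)
    (VF : ∀ v ∈ V, (∀ c ∈ C, c ∈ St R v) → v ∈ R) {m : G} (hm : m ∈ W) (hC : ∀ c ∈ C, c ∈ St R m) : m ∈ R := by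
  have l' := h.ln'
  have hmC : ∀ c ∈ C, m⁻¹ * (c * m * c⁻¹) ∈ R := by
    intro c hc
    have c1 := h.W_comm_R (inv_mem hm) (hC c hc).2
    have e : m⁻¹ * (c * m * c⁻¹) = m⁻¹ * (c * m * c⁻¹ * m⁻¹) * m := by group
    rw [e, c1, inv_mul_cancel_right]
    exact (hC c hc).2
  -- `m = x s` with `x ∈ E^w`, `s ∈ S`
  have key : ∀ (E S : Subgroup G), R ≤ S → L ≤ normalizer (S : Set G) → L ≤ normalizer (E : Set G) → E ≤ W →
      (∀ x ∈ S, x ∈ BTwo.cj w E → x ∈ R) → ∀ x ∈ BTwo.cj w E, x⁻¹ * m ∈ S → ∀ c ∈ C, c ∈ St R (w⁻¹ * x * w) := by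
    intro E S hRS hS hE hEW hopp x hx hxm c hc
    have hxW : x ∈ W := by
      have := h.W_of (hEW (mem_cj.1 hx))
      exact this
    have main : ∀ c ∈ C, c ∈ St R x := by
      intro c hc
      have hcL := h.CL hc
      refine ⟨h.LR hcL, ?_⟩
      have h1 : x⁻¹ * (c * x * c⁻¹) ∈ R := by
        refine hopp _ ?_ (mul_mem (inv_mem hx) (conj_mem_of_normalizer (h.norm_cj hE hcL) hx))
        have e : x⁻¹ * (c * x * c⁻¹) = (x⁻¹ * m) * (m⁻¹ * (c * m * c⁻¹)) * (c * (x⁻¹ * m) * c⁻¹)⁻¹ := by group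
        rw [e]
        exact mul_mem (mul_mem hxm (hRS (hmC c hc))) (inv_mem (conj_mem_of_normalizer (hS hcL) hxm))
      have c1 := h.W_comm_R hxW h1
      have e : c * x * c⁻¹ * x⁻¹ = x * (x⁻¹ * (c * x * c⁻¹)) * x⁻¹ := by group
      rw [e, c1, mul_inv_cancel_right]
      exact h1
    have h2 := h.St_w (main c⁻¹ (inv_mem hc))
    rwa [h.w_inv_c (inv_mem hc), inv_inv] at h2
  have hmU : m ∈ U := by
    obtain ⟨x, hx, hxm⟩ := h.cov m hm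
    have h1 := VF _ (mem_cj.1 hx) (key V U (h.RD.trans h.DU) h.LU h.LV (fun x hx => h.VW hx) h.opp x hx hxm)
    have h2 := h.R_of h1
    have := mul_mem (h.DU (h.RD h2)) hxm
    rwa [mul_inv_cancel_left] at this
  have hmD : m ∈ D := by
    obtain ⟨y, hy, hyU, hym⟩ := h.E4 hV hU hmU
    have h1 := key D D h.RD h.LD h.LD (fun x hx => h.DW hx) (fun x hx hx' => h.E2 ⟨hx, hx'⟩) y hy hym
    have h2 := h.D_fix AV (mem_cj.1 hy) fun c hc => St_mono h.RV (h.LV (h.CL hc)) (h1 c hc)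
    have h3 := h.opp y hyU (mem_cj.2 h2)
    have := mul_mem (h.RD h3) hym
    rwa [mul_inv_cancel_left] at this
  exact VF m (h.D_fix AV hmD fun c hc => St_mono h.RV (h.LV (h.CL hc)) (hC c hc)) hC

end

/-- the permutation module: `|A / D| ≥ 16` -/
theorem V_fix_orbit [Finite G] (h : Cfg R W V U D A K L C Z T w) (AV : ∀ a ∈ A, ∀ v ∈ V, a * v = v * a)
    (sq : ∀ g ∈ W, g * g ∈ R) (A2 : IsPGroup 2 A)
    (bru : ∀ g ∈ K, g ∈ W ⊔ A ⊔ C ∨ ∃ a ∈ A, ∃ b ∈ W ⊔ A ⊔ C, g = a * w * b) (h16 : 16 ≤ D.relIndex A)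
    {x : G} (hx : x ∈ V) (hC : ∀ c ∈ C, c ∈ St R x) : x ∈ R := by
  classical
  by_contra hxR
  have l' := h.ln'
  have hxW : x ∈ W := h.VW hx
  have hKR : K ≤ normalizer (R : Set G) := fun g hg => mem_normalizer_of_conj fun r hr => by
    rw [h.KR g hg r hr, mul_inv_cancel_right]; exact hr
  obtain ⟨M, _, _, p, p_mul, p_ker, p_surj, p_act⟩ := exists_quot (H := K) h.RW h.WW hKR h.KW
  have p_one : p 1 = 0 := (p_ker 1 W.one_mem).2 R.one_mem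
  have p_inv : ∀ s ∈ W, p s⁻¹ = - p s := fun s hs => by
    rw [eq_neg_iff_add_eq_zero, ← p_mul _ (inv_mem hs) _ hs, inv_mul_cancel, p_one]
  have p_two : ∀ s ∈ W, p s + p s = 0 := fun s hs => by
    rw [← p_mul _ hs _ hs, p_ker _ (mul_mem hs hs)]; exact sq s hs
  have p_eq : ∀ s ∈ W, ∀ s' ∈ W, (p s = p s' ↔ s * s'⁻¹ ∈ R) := fun s hs s' hs' => by
    rw [← p_ker _ (mul_mem hs (inv_mem hs')), p_mul _ hs _ (inv_mem hs'), p_inv _ hs', ← sub_eq_add_neg,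
      sub_eq_zero]
  haveI : Finite M := Finite.of_surjective p fun m => by
    obtain ⟨s, -, e⟩ := p_surj m
    exact ⟨s, e⟩
  -- the point `s = w x w⁻¹`
  have hs : w * x * w⁻¹ ∈ BTwo.cj w V := conj_mem_cj hx
  have hsW : w * x * w⁻¹ ∈ W := l'.VW hs
  have hsR : w * x * w⁻¹ ∉ R := fun h' => hxR (by
    have := h.of_R h'
    have e : w⁻¹ * (w * x * w⁻¹) * w = x := by group
    rwa [e] at this)
  have hsU : w * x * w⁻¹ ∉ U := fun h' => hsR (h.opp _ h' hs)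
  have hwx : (⟨w, h.wK⟩ : K) • p x = p (w * x * w⁻¹) := p_act _ _ hxW
  -- stabiliser of `p x`
  have hstab : ∀ g (hg : g ∈ K), g ∈ W ⊔ A ⊔ C → (⟨g, hg⟩ : K) • p x = p x := by
    intro g hg hg'
    have h1 : W ⊔ A ⊔ C ≤ St R x := by
      refine sup_le (sup_le (fun m hm => ⟨hKR (h.WK hm), h.WW m hm x hxW⟩) fun a ha => ⟨hKR (h.AK ha), ?_⟩) hC
      rw [AV a ha x hx, mul_inv_cancel_right, mul_inv_cancel]
      exact R.one_mem
    rw [p_act _ _ hxW, p_eq _ (conj_mem_of_normalizer (h.KW hg) hxW) _ hxW]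
    exact (h1 hg').2
  -- the action of `A`
  let f : A →* (AddMonoid.End M)ˣ :=
    ((DistribMulAction.toAddMonoidEnd K M).comp (Subgroup.inclusion h.AK)).toHomUnits
  have hf : ∀ (a : A), ∀ m ∈ W, f a • (p m) = p (a * m * (a : G)⁻¹) := fun a m hm =>
    p_act (Subgroup.inclusion h.AK a) m hm
  have hAW : ∀ a ∈ A, ∀ m ∈ W, a * m * a⁻¹ ∈ W := fun a ha m hm => conj_mem_of_normalizer (h.AW ha) hm
  have hfix : ∀ a : A, f a • (p (w * x * w⁻¹)) = p (w * x * w⁻¹) → (a : G) ∈ D := by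
    intro a ha
    rw [hf _ _ hsW, p_eq _ (hAW _ a.2 _ hsW) _ hsW] at ha
    refine h.inj _ hsW hsU _ a.2 (h.RD ?_)
    have e : (w * x * w⁻¹) * a * (w * x * w⁻¹)⁻¹ * (a : G)⁻¹ = (a * (w * x * w⁻¹) * (a : G)⁻¹ * (w * x * w⁻¹)⁻¹)⁻¹ := by
      group
    rw [e]
    exact inv_mem ha
  have hker : f.ker = D.subgroupOf A := by
    ext a
    rw [MonoidHom.mem_ker, Subgroup.mem_subgroupOf]
    constructor
    · intro ha
      refine hfix a ?_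
      rw [ha, one_smul]
    · intro ha
      refine Units.ext (AddMonoidHom.ext fun m => ?_)
      obtain ⟨m, hm, rfl⟩ := p_surj m
      change f a • p m = p m
      rw [hf _ _ hm]
      rw [p_eq _ (hAW _ a.2 _ hm) _ hm]
      exact h.WW _ (h.DW ha) _ hm
  have hcard : Nat.card f.range = D.relIndex A := by
    rw [← Subgroup.index_ker, hker]; rfl
  haveI : Finite f.range := Finite.of_surjective f.rangeRestrict f.rangeRestrict_surjective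
  letI : Fintype f.range := Fintype.ofFinite _
  have hQ : IsPGroup 2 f.range := A2.of_surjective f.rangeRestrict f.rangeRestrict_surjective
  -- the chain
  have hWA : ∀ m ∈ W, ∀ a ∈ A, a * m * a⁻¹ * m⁻¹ ∈ U := by
    intro m hm a ha
    refine h.cen x hx hxR _ (mul_mem (hAW a ha m hm) (inv_mem hm)) ?_
    have hmx : m⁻¹ * x * m ∈ V := conj_inv_mem_of_normalizer (h.WV hm) hx
    have c1 := AV a⁻¹ (inv_mem ha) x hx
    have hmx' : m⁻¹ * x * m = m⁻¹ * x * m := rfl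
    have c2 := AV a⁻¹ (inv_mem ha) _ hmx
    have c3 := AV a ha _ hmx
    have c4 := AV a ha _ hx
    calc a * m * a⁻¹ * m⁻¹ * x = a * m * (a⁻¹ * (m⁻¹ * x * m)) * m⁻¹ := by group
      _ = a * m * ((m⁻¹ * x * m) * a⁻¹) * m⁻¹ := by rw [c2]
      _ = (a * x) * m * a⁻¹ * m⁻¹ := by group
      _ = x * (a * m * a⁻¹ * m⁻¹) := by rw [c4]; group
  let I : (S : Subgroup G) → S ≤ W → AddSubgroup M := fun S hS =>
    { carrier := {m | ∃ s ∈ S, p s = m}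
      zero_mem' := ⟨1, S.one_mem, p_one⟩
      add_mem' := by
        rintro _ _ ⟨s, hs, rfl⟩ ⟨s', hs', rfl⟩
        exact ⟨s * s', S.mul_mem hs hs', p_mul _ (hS hs) _ (hS hs')⟩
      neg_mem' := by
        rintro _ ⟨s, hs, rfl⟩
        exact ⟨s⁻¹, S.inv_mem hs, p_inv _ (hS hs)⟩ }
  let F : ℕ → AddSubgroup M := fun n => match n with
    | 0 => ⊤
    | 1 => I U h.UW
    | 2 => I D h.DW
    | 3 => I V h.VW
    | _ => ⊥
  have hact : ∀ (a : A), ∀ m ∈ W, f a • (p m) + p m = p (a * m * (a : G)⁻¹ * m⁻¹) := by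
    intro a m hm
    rw [hf _ _ hm, p_mul _ (hAW _ a.2 _ hm) _ (inv_mem hm), p_inv _ hm]
    congr 1
    exact eq_neg_of_add_eq_zero_left (p_two m hm)
  have hinv : ∀ a m : G, a * m * a⁻¹ * m⁻¹ = (m * a * m⁻¹ * a⁻¹)⁻¹ := fun a m => by group
  have hstep : ∀ k, ∀ q : f.range, ∀ m ∈ F k, q • m + m ∈ F (k + 1) := by
    rintro k ⟨_, a, rfl⟩ m hm
    change f a • m + m ∈ F (k + 1)
    rcases k with _ | _ | _ | _ | k
    · obtain ⟨m', hm', rfl⟩ := p_surj m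
      rw [hact _ _ hm']
      exact ⟨_, hWA m' hm' a a.2, rfl⟩
    · obtain ⟨m', hm', rfl⟩ := hm
      rw [hact _ _ (h.UW hm')]
      refine ⟨_, ?_, rfl⟩
      rw [hinv]
      exact inv_mem (h.UA m' hm' a a.2)
    · obtain ⟨m', hm', rfl⟩ := hm
      rw [hact _ _ (h.DW hm')]
      refine ⟨_, ?_, rfl⟩
      rw [hinv]
      exact inv_mem (h.DA m' hm' a a.2)
    · obtain ⟨m', hm', rfl⟩ := hm
      rw [hact _ _ (h.VW hm'), AV a a.2 m' hm', mul_inv_cancel_right, mul_inv_cancel, p_one]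
      exact zero_mem _
    · have h1 : m = 0 := hm
      rw [h1, smul_zero, add_zero]
      exact zero_mem _
  have hsum : ∑ q : f.range, q • p (w * x * w⁻¹) = 0 :=
    sum_mem (F := F) rfl 4 f.range hQ (by rw [hcard]; exact h16) hstep _
  -- the orbit of `p x`
  set Ω : Finset M := (Set.toFinite (MulAction.orbit K (p x))).toFinset with hΩ
  have hmem : ∀ m, m ∈ Ω ↔ m ∈ MulAction.orbit K (p x) := fun m => by rw [hΩ, Set.Finite.mem_toFinset]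
  have hne : (⟨w, h.wK⟩ : K) • p x ≠ p x := by
    rw [hwx]
    intro e
    rw [p_eq _ hsW _ hxW] at e
    refine hsU ?_
    have := mul_mem (h.DU (h.RD e)) (h.DU (h.VD hx))
    rwa [inv_mul_cancel_right] at this
  have hact' : ∀ (a : A) (m : M), f a • m = (Subgroup.inclusion h.AK a) • m := fun a m => rfl
  have hpxA : ∀ a : A, f a • (p x) = p x := fun a => hstab a (h.AK a.2) (mem_sup_left (mem_sup_right a.2))
  have hΩeq : Ω = insert (p x) (Finset.univ.image fun q : f.range => q • p (w * x * w⁻¹)) := by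
    ext m
    rw [hmem, Finset.mem_insert, Finset.mem_image]
    constructor
    · rintro ⟨g, rfl⟩
      change g • p x = p x ∨ _
      rcases bru g g.2 with h1 | ⟨a, ha, b, hb, e⟩
      · exact Or.inl (hstab g g.2 h1)
      · refine Or.inr ⟨⟨f ⟨a, ha⟩, ⟨a, ha⟩, rfl⟩, Finset.mem_univ _, ?_⟩
        have hbK : b ∈ K := by
          have e1 : b = (a * w)⁻¹ * g := by rw [e]; group
          rw [e1]
          exact K.mul_mem (K.inv_mem (K.mul_mem (h.AK ha) h.wK)) g.2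
        have e2 : g = (⟨a, h.AK ha⟩ : K) * (⟨w, h.wK⟩ * ⟨b, hbK⟩) := Subtype.ext (by
          rw [e]; change a * w * b = a * (w * b); group)
        change f ⟨a, ha⟩ • (p (w * x * w⁻¹)) = g • p x
        rw [e2, mul_smul, mul_smul, hstab b hbK hb, hwx]
        rfl
    · rintro (rfl | ⟨⟨_, a, rfl⟩, -, rfl⟩)
      · exact MulAction.mem_orbit_self _
      · change f a • (p (w * x * w⁻¹)) ∈ _
        rw [← hwx, hact', ← mul_smul]
        exact MulAction.mem_orbit _ _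
  have hΩsum : ∑ m ∈ Ω, m = p x := by
    rw [hΩeq, Finset.sum_insert, Finset.sum_image, hsum, add_zero]
    · rintro ⟨_, a, rfl⟩ - ⟨_, a', rfl⟩ - e
      change f a • (p (w * x * w⁻¹)) = f a' • (p (w * x * w⁻¹)) at e
      refine Subtype.ext ?_
      change f a = f a'
      have h1 : f (a⁻¹ * a') • (p (w * x * w⁻¹)) = p (w * x * w⁻¹) := by
        rw [map_mul, mul_smul, ← e, map_inv, inv_smul_smul]
      have h2 : a⁻¹ * a' ∈ f.ker := by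
        rw [hker, Subgroup.mem_subgroupOf]
        exact hfix _ h1
      rw [MonoidHom.mem_ker, map_mul, map_inv, inv_mul_eq_one] at h2
      exact h2
    · intro hm
      rw [Finset.mem_image] at hm
      obtain ⟨⟨_, a, rfl⟩, -, e⟩ := hm
      change f a • (p (w * x * w⁻¹)) = p x at e
      apply hne
      rw [hwx]
      apply smul_left_cancel (f a)
      rw [e, hpxA]
  have hinvar : (⟨w, h.wK⟩ : K) • ∑ m ∈ Ω, m = ∑ m ∈ Ω, m := by
    rw [Finset.smul_sum]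
    refine Finset.sum_nbij' (fun m => (⟨w, h.wK⟩ : K) • m) (fun m => (⟨w, h.wK⟩ : K)⁻¹ • m) ?_ ?_ ?_ ?_ ?_
    · intro m hm
      rw [hmem] at hm ⊢
      obtain ⟨g, rfl⟩ := hm
      exact ⟨_ * g, mul_smul _ _ _⟩
    · intro m hm
      rw [hmem] at hm ⊢
      obtain ⟨g, rfl⟩ := hm
      exact ⟨_ * g, mul_smul _ _ _⟩
    · intro m _; exact inv_smul_smul _ _
    · intro m _; exact smul_inv_smul _ _
    · intro m _; rfl
  rw [hΩsum] at hinvar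
  exact hne hinvar

/-- **(E7)** an element of `W` centralised by `C` modulo `R` lies in `R`; the only exception is `G₂(4)` -/
theorem cent_C [Finite G] (h : Cfg R W V U D A K L C Z T w) (AV : ∀ a ∈ A, ∀ v ∈ V, a * v = v * a)
    (sq : ∀ g ∈ W, g * g ∈ R) (A2 : IsPGroup 2 A) (hV : ¬ V ≤ R) (hU : ¬ U ≤ D)
    (bru : ∀ g ∈ K, g ∈ W ⊔ A ⊔ C ∨ ∃ a ∈ A, ∃ b ∈ W ⊔ A ⊔ C, g = a * w * b)
    (h3 : (∃ t ∈ T, t * t * t ≠ 1) ∨ 16 ≤ D.relIndex A) {m : G} (hm : m ∈ W)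
    (hC : ∀ c ∈ C, c * m * c⁻¹ * m⁻¹ ∈ R) : m ∈ R := by
  refine h.fix_of AV hV hU (fun v hv hvC => ?_) hm fun c hc => ⟨h.LR (h.CL hc), hC c hc⟩
  rcases h3 with ⟨t, ht, ht3⟩ | h16
  · exact h.V_fix_cube hv hvC ht ht3
  · exact h.V_fix_orbit AV sq A2 bru h16 hv hvC

end Cfg

end Cfsg.Agent.Omega.SQEnd

end

section


/-!
# (E6), (E7) of bb OMEGA #12947 over `KIn`

* `cent_K_of`: a 2-element of `N(R i)` centralising `K / W i` lies in `W i`;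
* `cent_C_of`: `C_{W i / R i}(C) = 1` if `|k| > 4`.
-/

set_option autoImplicit false
set_option linter.unusedSectionVars false

universe u v w

namespace Cfsg.Agent.Omega.SQEnd

open Subgroup Cfsg.Agent.Omega.BTwo Cfsg.Agent.Omega.Hex Cfsg.Agent.Lib.SL2Mat

variable {G : Type u} [Group G] [Finite G] {ι : Type v} {V : Subgroup G} {R : ι → Subgroup G} {i j : ι}
  {k : Type w} [Field k] [Finite k] [CharP k 2] {K : Subgroup G} {φ : K →* Matrix.SpecialLinearGroup (Fin 2) k}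
  {F : Type*} [Field F] [Finite F] [CharP F 2] {v : F → F → G} {w1 w2 : F → G}

omit [Finite G] [Finite F] in
theorem V_not_le_R (c : Coord V R i j v w1 w2) : ¬ V ≤ R i := by
  intro h
  have h1 : v 0 1 ∈ R i := h ((c.mem_V _).2 ⟨0, 1, rfl⟩)
  obtain ⟨x, hx⟩ := (c.mem_R1 _).1 h1
  exact zero_ne_one (c.v_inj hx).2

theorem U_not_le_D (n : KIn V R i j K φ) (b : BT V R) : ¬ UU V R i ≤ DD V R := by
  intro h
  have h1 := n.relIndex_D b
  rw [relIndex_eq_one.2 h] at h1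
  have : 1 < Nat.card k := Finite.one_lt_card
  omega

/-- **(E6)** -/
theorem cent_K_of (n : KIn V R i j K φ) (b : BTC V R) (c : Coord V R i j v w1 w2)
    (hQ : QQ (R i) = WW V (R i)) : ∀ t ∈ normalizer (R i : Set G), (∃ m : ℕ, t ^ 2 ^ m = 1) →
      (∀ g ∈ K, t * g * t⁻¹ * g⁻¹ ∈ WW V (R i)) → t ∈ WW V (R i) := by
  rintro t ht ⟨m, hm⟩ htK
  obtain ⟨N, _, _, P1, P2, y⟩ := c.exists_yPair b.toBT
  have hN : ∃ n : N, n ≠ 0 := by
    by_contra hcon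
    push Not at hcon
    have h1 := n.relIndex_D b.toBT
    rw [y.index_D_U] at h1
    haveI : Subsingleton N := ⟨fun a a' => by rw [hcon a, hcon a']⟩
    have h2 : Nat.card N ≤ 1 := Finite.card_le_one_iff_subsingleton.2 inferInstance
    have : 1 < Nat.card k := Finite.one_lt_card
    omega
  exact cent_K_two b c y hQ hN (n.K_le_NR b.toBT) n.kd.WK n.UK (fun g hg => n.frat b.toBT hg)
    (fun g hg hg' => cj_eq_self_iff.1 (n.NA g hg (cj_eq_self_iff.2 hg'))) ht htK hm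

/-- the Bruhat decomposition of `K` -/
theorem bru_of (n : KIn V R i j K φ) (b : BT V R) {C : Subgroup G} {w : G} (hw : w ∈ K)
    (hwV : w ∉ normalizer (V : Set G))
    (hC : ∀ g ∈ K, g ∈ normalizer (V : Set G) → ∃ s ∈ WW V (R i) ⊔ UU V R j, s⁻¹ * g ∈ C) :
    ∀ g ∈ K, g ∈ WW V (R i) ⊔ UU V R j ⊔ C ∨
      ∃ a ∈ UU V R j, ∃ x ∈ WW V (R i) ⊔ UU V R j ⊔ C, g = a * w * x := by
  intro g hg
  have key : ∀ g ∈ K, g ∈ normalizer (V : Set G) → g ∈ WW V (R i) ⊔ UU V R j ⊔ C := by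
    intro g hg hgV
    obtain ⟨s, hs, h⟩ := hC g hg hgV
    have := mul_mem (mem_sup_left (T := C) hs) (mem_sup_right h)
    rwa [mul_inv_cancel_left] at this
  by_cases h0 : ent (φ ⟨g, hg⟩) 1 0 = 0
  · exact Or.inl (key g hg (n.mem_NV_of b (g := ⟨g, hg⟩) h0))
  · right
    obtain ⟨y, hy, e⟩ := n.exists_trans b (x := ⟨w, hw⟩) (x' := ⟨g, hg⟩)
      (fun h1 => hwV (n.mem_NV_of b (g := ⟨w, hw⟩) h1)) h0
    have hyK := n.Y_le b hy
    obtain ⟨u, hu, a, ha, rfl⟩ := b.exists_mul_Y n.kd.ne hy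
    have hx := key _ (mul_mem (inv_mem (mul_mem hyK hw)) hg) e
    have haW : a⁻¹ * u * a ∈ WW V (R i) :=
      conj_inv_mem_of_normalizer (b.cen_le_NW i (UU_le_cen j ha)) (UU_le_WW i hu)
    have hwW : w⁻¹ * (a⁻¹ * u * a) * w ∈ WW V (R i) :=
      conj_inv_mem_of_normalizer (normalizer_le_WW V (R i) (n.K_le_NR b hw)) haW
    refine ⟨a, ha, (w⁻¹ * (a⁻¹ * u * a) * w) * ((u * a * w)⁻¹ * g),
      mul_mem (mem_sup_left (mem_sup_left hwW)) hx, ?_⟩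
    group

/-- **(E7)** -/
theorem cent_C_of (n : KIn V R i j K φ) (b : BTC V R) (c : Coord V R i j v w1 w2) {L C Z T : Subgroup G} {w : G}
    (h : Cfg (R i) (WW V (R i)) V (UU V R i) (DD V R) (UU V R j) K L C Z T w) (TX : T ≤ XX V R)
    (hwV : w ∉ normalizer (V : Set G))
    (hC : ∀ g ∈ K, g ∈ normalizer (V : Set G) → ∃ s ∈ WW V (R i) ⊔ UU V R j, s⁻¹ * g ∈ C)
    (hF : 4 ≤ Nat.card F) (hk : 4 < Nat.card k) :
    ∀ m ∈ WW V (R i), (∀ x ∈ C, x * m * x⁻¹ * m⁻¹ ∈ R i) → m ∈ R i := by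
  intro m hm hmC
  obtain ⟨N, _, _, P1, P2, y⟩ := c.exists_yPair b.toBT
  refine h.cent_C (fun a ha x hx => (mem_centralizer_iff.1 (UU_le_cen j ha) x hx).symm)
    (fun g hg => b.W_sq i hg) (b.U_isPGroup j) (V_not_le_R c) (U_not_le_D n b.toBT)
    (bru_of n b.toBT h.wK hwV hC) ?_ hm hmC
  by_cases hT : ∃ t ∈ T, t * t * t ≠ 1
  · exact Or.inl hT
  right
  push Not at hT
  -- every `γ ≠ 0` has `γ ^ 3 = 1`
  have hγ : ∀ γ : F, γ ≠ 0 → γ ^ 3 = 1 := by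
    intro γ hγ
    have hn : ∀ γ : F, γ ≠ 0 → v 0 γ ∉ R i := by
      intro γ hγ h1
      obtain ⟨x, hx⟩ := (c.mem_R1 _).1 h1
      exact hγ (c.v_inj hx).2.symm
    obtain ⟨t, ht, h1⟩ := h.t2 _ ((c.mem_V _).2 ⟨0, 1, rfl⟩) (hn 1 one_ne_zero) _ ((c.mem_V _).2 ⟨0, γ, rfl⟩)
      (hn γ hγ)
    obtain ⟨a, b', c', d, hM⟩ := exists_mat b.toBT c y (TX ht)
    have h2 : t * v 1 0 * t⁻¹ ∈ R i :=
      conj_mem_of_normalizer (h.LR (h.TL ht)) ((c.mem_R1 _).2 ⟨1, rfl⟩)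
    rw [hM.2.1] at h2
    obtain ⟨x, hx⟩ := (c.mem_R1 _).1 h2
    have hc' : c' = 0 := by
      have := (c.v_inj hx).2
      rw [mul_one, mul_zero, add_zero] at this
      exact this.symm
    have hact : ∀ β γ, t * v β γ * t⁻¹ = v (a * β + b' * γ) (d * γ) := by
      intro β γ
      rw [hM.2.1, hc', zero_mul, zero_add]
    -- `d = γ`
    have hd : d = γ := by
      obtain ⟨x, hx⟩ := (c.mem_R1 _).1 h1
      have e : (t * v 0 1 * t⁻¹) * v x 0 = v 0 γ := by rw [hx, mul_inv_cancel_left]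
      rw [hact, ← c.v_add, add_zero] at e
      have e2 := (c.v_inj e).2
      rwa [mul_one] at e2
    have h3 : v 0 1 = t * (t * (t * v 0 1 * t⁻¹) * t⁻¹) * t⁻¹ := by
      have e : t * (t * (t * v 0 1 * t⁻¹) * t⁻¹) * t⁻¹ = (t * t * t) * v 0 1 * (t * t * t)⁻¹ := by group
      rw [e, hT t ht, one_mul, inv_one, mul_one]
    rw [hact, hact, hact] at h3
    have h4 := (c.v_inj h3).2
    rw [← hd, pow_succ, pow_succ, pow_one, mul_assoc]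
    rw [mul_one] at h4
    exact h4.symm
  have hq : Nat.card F - 1 ∣ 3 := by
    classical
    letI : Fintype F := Fintype.ofFinite F
    rw [Nat.card_eq_fintype_card, ← FiniteField.forall_pow_eq_one_iff]
    intro x
    refine Units.ext ?_
    rw [Units.val_pow_eq_pow_val, Units.val_one]
    exact hγ x x.ne_zero
  have hq4 : Nat.card F = 4 := by
    rcases (Nat.dvd_prime Nat.prime_three).1 hq with h1 | h1 <;> omega
  have h1 : Nat.card N = Nat.card k := by rw [← y.index_D_U, n.relIndex_D b.toBT]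
  have h2 := y.card_M
  rw [b.card_U j i, y.index_D_U]
  rw [hq4] at h2
  rw [h1] at h2
  rw [h1, h2]
  rw [h2] at hk
  have h3 : 2 ≤ Module.finrank F N := by
    by_contra hcon
    have h4 : Module.finrank F N ≤ 1 := by omega
    have h5 := Nat.pow_le_pow_right (n := 4) (by norm_num) h4
    omega
  calc 16 = 4 ^ 2 := by norm_num
    _ ≤ _ := Nat.pow_le_pow_right (by norm_num) h3

end Cfsg.Agent.Omega.SQEnd

end

section


/-!
# `PLoc` from `BTC`, `Coord`, `KD`, `C(W) ≤ R` and `N_{N(R)}(W A) ≤ N(V)`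
-/

set_option autoImplicit false

universe u v w z

namespace Cfsg.Agent.Omega.SQEnd

open Subgroup Cfsg.Agent.Omega.BTwo Cfsg.Agent.Lib.SL2Mat Cfsg.Agent.Omega.Hex

variable {G : Type u} [Group G] [Finite G] {ι : Type v} {V : Subgroup G} {R : ι → Subgroup G} {i j : ι} {k : Type w}
  [Field k] {K : Subgroup G} {φ : K →* Matrix.SpecialLinearGroup (Fin 2) k} {F : Type z} [Field F] [Finite F]
  [CharP F 2] {v : F → F → G} {w1 w2 : F → G}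

theorem four_le_card (b : BTC V R) (c : Coord V R i j v w1 w2) (kd : KD V R i j K φ)
    (NAe : ∀ g ∈ normalizer (R i : Set G), cj g (WW V (R i) ⊔ UU V R j) = WW V (R i) ⊔ UU V R j → cj g V = V)
    (hF : 4 ≤ Nat.card F) : 4 ≤ Nat.card k := by
  have := kd.finite
  have := kd.charP b
  obtain ⟨s, hs, hs1⟩ := exists_ne_one hF
  obtain ⟨l, hl, hl1⟩ := exists_ne_k b c kd NAe hs hs1
  have h1 := odd_units k
  have h2 : 2 ≤ Nat.card kˣ := by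
    have h3 : Nontrivial kˣ := ⟨⟨Units.mk0 l hl, 1, fun h => hl1 (congrArg Units.val h)⟩⟩
    exact Finite.one_lt_card
  rw [Nat.card_units] at h1 h2
  rcases h1 with ⟨m, hm⟩
  omega

/-- **`PLoc`** -/
theorem ploc (b : BTC V R) (c : Coord V R i j v w1 w2) (kd : KD V R i j K φ)
    (hC : centralizer (WW V (R i) : Set G) ≤ R i)
    (NAe : ∀ g ∈ normalizer (R i : Set G), cj g (WW V (R i) ⊔ UU V R j) = WW V (R i) ⊔ UU V R j → cj g V = V)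
    (hF : 4 ≤ Nat.card F) : PLoc V R i K (Nat.card k) := by
  have := kd.finite
  have := kd.charP b
  obtain ⟨L, w, h, hwV, -⟩ := exists_cfgI b c kd hC NAe hF
  exact KIn.ploc (n := { kd := kd, NA := NAe }) b.toBT c hF (four_le_card b c kd NAe hF) h.wK hwV h.toCfg.E2
    fun u hu => h.toCfg.E4 h.hV h.hU hu

end Cfsg.Agent.Omega.SQEnd

end
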