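import Cfsg.Agent.Mrg.Omega.SQEnd.E
import Cfsg.Agent.Mrg.Omega.SQEnd.ExcOf


/-!
# `PLoc` and `CfgI` from `BTC`, `Coord`, `KD`, `C(W) ≤ R`, a Sylow 2-subgroup of `N(R)` in `N(V)`
-/

set_option autoImplicit false

universe u v w z

namespace Cfsg.Agent.Omega.SQEnd

open Subgroup Cfsg.Agent.Omega.BTwo Cfsg.Agent.Lib.SL2Mat Cfsg.Agent.Omega.Hex

variable {G : Type u} [Group G] [Finite G] {ι : Type v} {V : Subgroup G} {R : ι → Subgroup G} {i j : ι} {k : Type w}
  [Field k] {K : Subgroup G} {φ : K →* Matrix.SpecialLinearGroup (Fin 2) k} {F : Type z} [Field F] [Finite F]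
  [CharP F 2] {v : F → F → G} {w1 w2 : F → G}

/-- **`PLoc` from `KD`**, no hypothesis `NA` -/
theorem ploc_of (b : BTC V R) (c : Coord V R i j v w1 w2) (kd : KD V R i j K φ)
    (hC : centralizer (WW V (R i) : Set G) ≤ R i) (hF : 4 ≤ Nat.card F)
    (hS : Odd ((normalizer (V : Set G) ⊓ normalizer (R i : Set G)).relIndex (normalizer (R i : Set G)))) :
    PLoc V R i K (Nat.card k) ∧ 4 ≤ Nat.card k :=
  have h := NAe b hC c kd hF hS
  ⟨ploc b c kd hC h hF, four_le_card b c kd h hF⟩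

end Cfsg.Agent.Omega.SQEnd
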